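import Groth.Agent.L29.DCoh.RelBC
import Groth.Agent.L03.ShStab.TwistFlat
import Groth.Agent.L16.AffineBC.Pullback

/-!
# Flatness of the pullback of a module to a base change
-/

set_option autoImplicit false
set_option linter.style.haveILetI false
set_option linter.unusedSectionVars false
set_option backward.isDefEq.respectTransparency false

universe u

open CategoryTheory CategoryTheory.Limits AlgebraicGeometry TopologicalSpace
open scoped TensorProduct

noncomputable section

namespace Groth.L17.Strat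

variable {X S : Scheme.{u}}

/-- Flatness at a point is checked on open subsquares. -/
theorem isFlatOverAt_of_openImmersion {X' S' : Scheme.{u}} {f : X ⟶ S} {f' : X' ⟶ S'} {j : X' ⟶ X}
    {i : S' ⟶ S} [IsOpenImmersion i] [IsOpenImmersion j] (w : j ≫ f = f' ≫ i) (M : X.Modules) (x' : X')
    (h : FlatMod.IsFlatOverAt f' ((Scheme.Modules.pullback j).obj M) x') :
    FlatMod.IsFlatOverAt f M (j x') := by
  have hfx : f (j x') = i (f' x') := by
    rw [← Scheme.Hom.comp_apply, w, Scheme.Hom.comp_apply]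
  obtain ⟨_, ⟨W, hW, rfl⟩, hxW, hWi⟩ := S.isBasis_affineOpens.exists_subset_of_mem_open
    (show f (j x') ∈ i.opensRange from ⟨f' x', hfx.symm⟩) i.opensRange.2
  change S.Opens at W
  replace hW : IsAffineOpen W := hW
  let W' : S'.Opens := i ⁻¹ᵁ W
  have hW' : IsAffineOpen W' := hW.preimage_of_isOpenImmersion i hWi
  let V : X.Opens := f ⁻¹ᵁ W
  let U : X'.Opens := j ⁻¹ᵁ V ⊓ f' ⁻¹ᵁ W'
  have hxV : j x' ∈ V := hxW
  have hxU : x' ∈ U := ⟨hxV, show i (f' x') ∈ W from hfx ▸ hxW⟩
  rw [Groth.L20.ModStalk.isFlatOverAt_iff_sections f M hW (le_refl V) hxV]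
  rw [Groth.L20.ModStalk.isFlatOverAt_iff_sections f' _ hW' (show U ≤ f' ⁻¹ᵁ W' from inf_le_right) hxU] at h
  let R := Γ(S, W)
  let R' := Γ(S', W')
  let O := X.presheaf.stalk (j x')
  let O' := X'.presheaf.stalk x'
  let χ' : R' →+* O' := (X'.presheaf.germ U x' hxU).hom.comp (f'.appLE W' U inf_le_right).hom
  let χ : R →+* O := (X.presheaf.germ V (j x') hxV).hom.comp (f.appLE W V le_rfl).hom
  letI : Algebra R R' := (i.appLE W W' le_rfl).hom.toAlgebra
  let N := ((Scheme.Modules.pullback j).obj M).presheaf.stalk x'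
  letI : Module R' N := Module.compHom N χ'
  letI : Module R N := Module.compHom N (χ'.comp (algebraMap R R'))
  haveI : IsScalarTower R R' N := IsScalarTower.of_algebraMap_smul fun _ _ => rfl
  haveI : IsIso (i.appLE W W' le_rfl) := by
    rw [← Scheme.Hom.app_eq_appLE]
    exact Scheme.Hom.isIso_app i W hWi
  haveI : Module.Flat R R' := RingHom.Flat.of_bijective (ConcreteCategory.bijective_of_isIso (i.appLE W W' le_rfl))
  haveI : Module.Flat R' N := h
  haveI : Module.Flat R N := Module.Flat.trans R R' N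
  letI : Algebra O O' := (Groth.L00.PullStalk.φ j x').toAlgebra
  letI : Module R (M.presheaf.stalk (j x')) := Module.compHom _ χ
  let e : N ≃ₗ[O'] O' ⊗[O] M.presheaf.stalk (j x') :=
    ((Groth.L00.PullStalk.stalkIso j x').app M).toLinearEquiv
  let ε : O ≃ₗ[O] O' := LinearEquiv.ofBijective (Algebra.linearMap O O')
    (ConcreteCategory.bijective_of_isIso (j.stalkMap x'))
  let ψ : M.presheaf.stalk (j x') ≃ₗ[O] O' ⊗[O] M.presheaf.stalk (j x') :=
    (TensorProduct.lid O _).symm.trans (ε.rTensor _)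
  have key : ∀ r : R, (Groth.L00.PullStalk.φ j x') (χ r) = χ' (algebraMap R R' r) := fun r => by
    show (j.stalkMap x').hom (X.presheaf.germ V (j x') hxV (f.appLE W V le_rfl r)) =
      X'.presheaf.germ U x' hxU (f'.appLE W' U inf_le_right (i.appLE W W' le_rfl r))
    rw [Groth.L20.ModStalk.stalkMap_germ (inf_le_left : U ≤ j ⁻¹ᵁ V) hxU hxV,
      ← ConcreteCategory.comp_apply (f.appLE W V le_rfl), ← ConcreteCategory.comp_apply (i.appLE W W' le_rfl),
      Scheme.Hom.appLE_comp_appLE, Scheme.Hom.appLE_comp_appLE]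
    congr 3
    simp only [w]
    rfl
  exact Module.Flat.of_linearEquiv ({ ψ.toAddEquiv.trans e.symm.toAddEquiv with
    map_smul' := fun r m => by
      show e.symm (ψ (χ r • m)) = χ' (algebraMap R R' r) • e.symm (ψ m)
      rw [map_smul ψ, ← key r, ← map_smul e.symm]
      rw [← algebraMap_smul O' (χ r) (ψ m)]
      rfl } : M.presheaf.stalk (j x') ≃ₗ[R] N)

variable (f : X ⟶ S) (F : X.Modules)

/-- The pullback of `F` to the base change along `g` is flat over the new base. -/
def FlatPb {T : Scheme.{u}} (g : T ⟶ S) : Prop :=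
  FlatMod.IsFlatOver (pullback.snd f g) ((Scheme.Modules.pullback (pullback.fst f g)).obj F)

variable {f F}

theorem FlatPb.isFlatOver {T XT : Scheme.{u}} {g : T ⟶ S} {gT : XT ⟶ X} {fT : XT ⟶ T} (h : FlatPb f F g)
    (hc : IsPullback gT fT f g) : FlatMod.IsFlatOver fT ((Scheme.Modules.pullback gT).obj F) := by
  let l : XT ⟶ pullback f g := pullback.lift gT fT hc.w
  have sq : IsPullback l fT (pullback.snd f g) (𝟙 T) :=
    IsPullback.of_right (by rw [pullback.lift_fst, Category.id_comp]; exact hc)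
      (by rw [pullback.lift_snd, Category.comp_id]) (IsPullback.of_hasPullback f g)
  exact Groth.L29.DC.RelBC.isFlatOver_of_iso fT
    ((Scheme.Modules.pullbackComp l (pullback.fst f g)).app F ≪≫
      (Scheme.Modules.pullbackCongr (pullback.lift_fst _ _ _)).app F)
    (Groth.L29.DC.RelBC.isFlatOver_pullback sq h)

theorem flatPb_of_isPullback {T XT : Scheme.{u}} {g : T ⟶ S} {gT : XT ⟶ X} {fT : XT ⟶ T}
    (hc : IsPullback gT fT f g) (h : FlatMod.IsFlatOver fT ((Scheme.Modules.pullback gT).obj F)) :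
    FlatPb f F g := by
  let l : pullback f g ⟶ XT := hc.lift (pullback.fst f g) (pullback.snd f g) pullback.condition
  have sq : IsPullback l (pullback.snd f g) fT (𝟙 T) :=
    IsPullback.of_right (by rw [hc.lift_fst, Category.id_comp]; exact IsPullback.of_hasPullback f g)
      (by rw [hc.lift_snd, Category.comp_id]) hc
  exact Groth.L29.DC.RelBC.isFlatOver_of_iso _
    ((Scheme.Modules.pullbackComp l gT).app F ≪≫ (Scheme.Modules.pullbackCongr (hc.lift_fst _ _ _)).app F)
    (Groth.L29.DC.RelBC.isFlatOver_pullback sq h)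

theorem FlatPb.comp {T T' : Scheme.{u}} {g : T ⟶ S} (h : FlatPb f F g) (a : T' ⟶ T) : FlatPb f F (a ≫ g) := by
  let l : pullback f (a ≫ g) ⟶ pullback f g :=
    pullback.lift (pullback.fst f (a ≫ g)) (pullback.snd f (a ≫ g) ≫ a) (by rw [Category.assoc]; exact pullback.condition)
  have sq : IsPullback l (pullback.snd f (a ≫ g)) (pullback.snd f g) a :=
    IsPullback.of_right (by rw [pullback.lift_fst]; exact IsPullback.of_hasPullback f (a ≫ g))
      (pullback.lift_snd _ _ _) (IsPullback.of_hasPullback f g)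
  exact Groth.L29.DC.RelBC.isFlatOver_of_iso _
    ((Scheme.Modules.pullbackComp l (pullback.fst f g)).app F ≪≫
      (Scheme.Modules.pullbackCongr (pullback.lift_fst _ _ _)).app F)
    (Groth.L29.DC.RelBC.isFlatOver_pullback sq h)

/-- Flatness of the pullback is local on the new base. -/
theorem flatPb_of_local {T : Scheme.{u}} (g : T ⟶ S)
    (h : ∀ t : T, ∃ W : T.Opens, t ∈ W ∧ FlatPb f F (W.ι ≫ g)) : FlatPb f F g := by
  intro x
  obtain ⟨W, hW, hflat⟩ := h (pullback.snd f g x)
  let l : pullback f (W.ι ≫ g) ⟶ pullback f g :=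
    pullback.lift (pullback.fst f (W.ι ≫ g)) (pullback.snd f (W.ι ≫ g) ≫ W.ι)
      (by rw [Category.assoc]; exact pullback.condition)
  have sq : IsPullback l (pullback.snd f (W.ι ≫ g)) (pullback.snd f g) W.ι :=
    IsPullback.of_right (by rw [pullback.lift_fst]; exact IsPullback.of_hasPullback f (W.ι ≫ g))
      (pullback.lift_snd _ _ _) (IsPullback.of_hasPullback f g)
  haveI : IsOpenImmersion l := MorphismProperty.of_isPullback sq.flip inferInstance
  obtain ⟨x', hx'⟩ : x ∈ Set.range l := by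
    obtain ⟨z, hz1, -⟩ := Scheme.exists_preimage_of_isPullback sq x ⟨pullback.snd f g x, hW⟩ rfl
    exact ⟨z, hz1⟩
  subst hx'
  exact isFlatOverAt_of_openImmersion sq.w _ x' (Groth.L29.DC.RelBC.isFlatOver_of_iso _
    (((Scheme.Modules.pullbackComp l (pullback.fst f g)).app F ≪≫
      (Scheme.Modules.pullbackCongr (pullback.lift_fst _ _ _)).app F).symm) hflat x')

/-- Over a field the pullback is flat. -/
theorem flatPb_field [Coh.IsQCoh F] {k : Type u} [Field k] (g : Spec (CommRingCat.of k) ⟶ S) : FlatPb f F g := by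
  haveI := Groth.L16.AffineBC.isQCoh_pullback (pullback.fst f g) F
  exact Groth.L03.ShStab.TwistFlat.isFlatOver_field _ _

/-- Flatness of pullbacks through a cartesian square. -/
theorem flatPb_change_iff {X' S' : Scheme.{u}} {f' : X' ⟶ S'} {F' : X'.Modules} {g' : X' ⟶ X} {φ : S' ⟶ S}
    (hc : IsPullback g' f' f φ) (e : (Scheme.Modules.pullback g').obj F ≅ F') {T : Scheme.{u}} (ψ : T ⟶ S') :
    FlatPb f' F' ψ ↔ FlatPb f F (ψ ≫ φ) := by
  have sq : IsPullback (pullback.fst f' ψ ≫ g') (pullback.snd f' ψ) f (ψ ≫ φ) :=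
    (IsPullback.of_hasPullback f' ψ).paste_horiz hc
  let α : (Scheme.Modules.pullback (pullback.fst f' ψ ≫ g')).obj F ≅
      (Scheme.Modules.pullback (pullback.fst f' ψ)).obj F' :=
    ((Scheme.Modules.pullbackComp _ g').app F).symm ≪≫ (Scheme.Modules.pullback _).mapIso e
  exact ⟨fun h => flatPb_of_isPullback sq (Groth.L29.DC.RelBC.isFlatOver_of_iso _ α.symm h),
    fun h => Groth.L29.DC.RelBC.isFlatOver_of_iso _ α (h.isFlatOver sq)⟩

end Groth.L17.Strat
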