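import Groth.Agent.L17.Strat.Poly
import Groth.Agent.L17.BC.Sheaf

/-!
# Flattening stratification indexed by the Hilbert polynomials
-/

set_option autoImplicit false
set_option linter.style.haveILetI false
set_option linter.unusedSectionVars false
set_option backward.isDefEq.respectTransparency false

universe u

open CategoryTheory CategoryTheory.Limits AlgebraicGeometry TopologicalSpace
open scoped TensorProduct

noncomputable section

namespace Groth.L17.Strat

open Groth.L00.Tensor (tensorIso)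
open Groth.L01.FlatCx (mu mu_baseChange mu_eq_rankAtStalk)

theorem finrank_eq_mu {A : Type u} [CommRing A] (M : Type u) [AddCommGroup M] [Module A M] [Module.Finite A M]
    (k : Type u) [Field k] [Algebra A k] :
    Module.finrank k (k ⊗[A] M) = mu M (PrimeSpectrum.comap (algebraMap A k) ⊥) := by
  rw [← mu_baseChange, mu_eq_rankAtStalk, Module.rankAtStalk_eq_finrank_of_free]
  rfl

theorem eulerCharLE_iso {k : Type u} [Field k] {X : Scheme.{u}} [X.Over (Spec (CommRingCat.of k))]
    {M N : X.Modules} (e : M ≅ N) (d : ℕ) : FGA.eulerCharLE k X M d = FGA.eulerCharLE k X N d :=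
  Finset.sum_congr rfl fun i _ => by rw [Groth.L03.Euler.finrank_HH_of_iso (k := k) e i]

variable (n : ℕ) {S : Scheme.{u}} (F : (CohB1.ProjSpaceOver n S).Modules)

/-- The fibre of projective space at a point, mapped to the total space. -/
abbrev fibreMap (s : (Over.mk (𝟙 S)).left) :
    (FGA.fibreAt (CohB1.ProjSpaceOver.toBase n S) (Over.mk (𝟙 S)) s).left ⟶ CohB1.ProjSpaceOver n S :=
  pullback.fst (PicF.XTproj (CohB1.ProjSpaceOver.toBase n S) (Over.mk (𝟙 S)))
      ((Over.mk (𝟙 S)).left.fromSpecResidueField s) ≫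
    pullback.fst (CohB1.ProjSpaceOver.toBase n S) (Over.mk (𝟙 S)).hom

/-- Euler characteristic of a twist on a fibre, as in the statement. -/
abbrev fibreEuler (s : (Over.mk (𝟙 S)).left) (m : ℤ) : ℤ :=
  FGA.eulerCharLE ((Over.mk (𝟙 S)).left.residueField s)
    (FGA.fibreAt (CohB1.ProjSpaceOver.toBase n S) (Over.mk (𝟙 S)) s).left
    (CohB1.tensorMod
      (FGA.restrFibre (CohB1.ProjSpaceOver.toBase n S) (Over.mk (𝟙 S)) s
        (FGA.ET (CohB1.ProjSpaceOver.toBase n S) F (Over.mk (𝟙 S))))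
      (FGA.restrFibre (CohB1.ProjSpaceOver.toBase n S) (Over.mk (𝟙 S)) s
        (FGA.ET (CohB1.ProjSpaceOver.toBase n S) (Twist.twistOver n S m) (Over.mk (𝟙 S))))) n

theorem isPullback_fibreMap (s : (Over.mk (𝟙 S)).left) :
    IsPullback (fibreMap n s)
      ((FGA.fibreAt (CohB1.ProjSpaceOver.toBase n S) (Over.mk (𝟙 S)) s).left ↘
        Spec ((Over.mk (𝟙 S)).left.residueField s))
      (CohB1.ProjSpaceOver.toBase n S) (S.fromSpecResidueField s) := by
  have h := (IsPullback.of_hasPullback (PicF.XTproj (CohB1.ProjSpaceOver.toBase n S) (Over.mk (𝟙 S)))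
    ((Over.mk (𝟙 S)).left.fromSpecResidueField s)).paste_horiz
      (IsPullback.of_hasPullback (CohB1.ProjSpaceOver.toBase n S) (Over.mk (𝟙 S)).hom)
  rw [show ((Over.mk (𝟙 S)).left.fromSpecResidueField s ≫ (Over.mk (𝟙 S)).hom) = S.fromSpecResidueField s
    from Category.comp_id _] at h
  exact h

theorem fibreEuler_eq (s : (Over.mk (𝟙 S)).left) (m : ℤ) :
    fibreEuler n F s m = chi n (fibreMap n s) F (k := (Over.mk (𝟙 S)).left.residueField s) m := by
  refine eulerCharLE_iso (k := (Over.mk (𝟙 S)).left.residueField s) ?_ n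
  exact tensorIso ((Scheme.Modules.pullbackComp _ _).app F) ((Scheme.Modules.pullbackComp _ _).app _) ≪≫
    Groth.L29.DC.PullTensor.pullTensor _ _ _

variable [AlgebraicGeometry.IsNoetherian S] (hF : Coh.IsCoh F)

include hF in
theorem exists_fibreEuler_eq_rk :
    ∃ N : ℕ, ∀ j : ℕ, N ≤ j → ∀ s : (Over.mk (𝟙 S)).left, fibreEuler n F s (j : ℤ) =
      rk (Mn (CohB1.ProjSpaceOver.toBase n S) (Twist.twistOver n S 1) F j) (show S from s) := by
  haveI : IsProper (CohB1.ProjSpaceOver.toBase n S) := by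
    show IsProper (Limits.pullback.snd _ _)
    infer_instance
  have hL := isInvertible_twistOver n S 1
  have hamp := Groth.L18.VeryAmpleOver.isRelAmple_twistOver n S
  choose V hV hsV using fun s : S => (Opens.isBasis_iff_nbhd.1 S.isBasis_affineOpens) (Opens.mem_top s)
  obtain ⟨C, hC⟩ := isCompact_univ.elim_finite_subcover (fun s : S => (V s : Set S)) (fun s => (V s).2)
    (fun s _ => Set.mem_iUnion.2 ⟨s, (hsV s).1⟩)
  choose N hN using fun s => exists_fibre_euler (CohB1.ProjSpaceOver.toBase n S) hL hF hamp (hV s)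
  refine ⟨C.sup N, fun j hj s => ?_⟩
  obtain ⟨c, hc, hs⟩ := Set.mem_iUnion₂.1 (hC (Set.mem_univ (show S from s)))
  have hM := isCoh_Mn (CohB1.ProjSpaceOver.toBase n S) (Twist.twistOver n S 1) F hL hF j
  letI : Algebra Γ(S, V c) ((Over.mk (𝟙 S)).left.residueField s) :=
    (S.evaluation (V c) (show S from s) hs).hom.toAlgebra
  haveI := Groth.L20.ModStalk.finite_sections _ hM (hV c)
  have hb : Spec.map (S.evaluation (V c) (show S from s) hs) ≫ (hV c).fromSpec =
      S.fromSpecResidueField (show S from s) := by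
    rw [← Scheme.germ_residue, Spec.map_comp, Category.assoc]
    exact congrArg (Spec.map (S.residue _) ≫ ·) ((hV c).fromSpecStalk_eq_fromSpecStalk hs)
  have pb : IsPullback (fibreMap n s)
      ((FGA.fibreAt (CohB1.ProjSpaceOver.toBase n S) (Over.mk (𝟙 S)) s).left ↘
        Spec ((Over.mk (𝟙 S)).left.residueField s))
      (CohB1.ProjSpaceOver.toBase n S) (Spec.map (S.evaluation (V c) (show S from s) hs) ≫ (hV c).fromSpec) := by
    rw [hb]; exact isPullback_fibreMap n s
  obtain ⟨e⟩ := nonempty_tensorPow_twistOver n S j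
  rw [fibreEuler_eq, rk_eq_mu hM (hV c) hs, chi,
    eulerCharLE_iso (k := (Over.mk (𝟙 S)).left.residueField s)
      ((Scheme.Modules.pullback (fibreMap n s)).mapIso (tensorIso (Iso.refl F) e.symm)) n]
  obtain ⟨hvan, hfr⟩ := hN c j ((Finset.le_sup hc).trans hj) ((Over.mk (𝟙 S)).left.residueField s) (fibreMap n s) pb
  rw [eulerCharLE_eq_finrank hvan, hfr, finrank_eq_mu]
  exact congrArg (fun p => ((mu _ p : ℕ) : ℤ)) (Groth.L17.BC.Classes.comap_evaluation (hV c) hs)

include hF in
/-- The flattening stratification by Hilbert polynomials. -/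
theorem exists_hilbert_stratification :
    ∃ (I : Finset (Polynomial ℚ)) (St : ↥I → Scheme.{u}) (e : ∀ P : ↥I, St P ⟶ S),
      (∀ P, IsImmersion (e P)) ∧
      (∀ (P : ↥I) (s : (Over.mk (𝟙 S)).left), (show S from s) ∈ Set.range (e P) ↔
          ∀ m : ℤ, (fibreEuler n F s m : ℚ) = (P : Polynomial ℚ).eval (m : ℚ)) ∧
      (∀ (T : Scheme.{u}) [IsLocallyNoetherian T] (φ : T ⟶ S),
        FlatMod.IsFlatOver (CohB1.ProjSpaceOver.toBase n T)
            ((Scheme.Modules.pullback (FGA.projMap n φ)).obj F) ↔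
          ∃ g : T ⟶ ∐ St, g ≫ Limits.Sigma.desc e = φ) ∧
      (∀ P : ↥I, closure (Set.range (e P)) ⊆
          ⋃ Q ∈ {Q : ↥I | ∃ m₀ : ℤ, ∀ m : ℤ, m₀ ≤ m →
              (P : Polynomial ℚ).eval (m : ℚ) ≤ (Q : Polynomial ℚ).eval (m : ℚ)},
            Set.range (e Q)) := by
  classical
  haveI : IsProper (CohB1.ProjSpaceOver.toBase n S) := by
    show IsProper (Limits.pullback.snd _ _)
    infer_instance
  let f := CohB1.ProjSpaceOver.toBase n S
  let L := Twist.twistOver n S 1
  obtain ⟨N₀, hN₀⟩ := exists_fibreEuler_eq_rk n F hF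
  obtain ⟨N, M, σ, St, e, hNle, hσ, himm, hrange, hex, hne, huniv⟩ :=
    exists_flattening f L F (isInvertible_twistOver n S 1) hF (Groth.L18.VeryAmpleOver.isRelAmple_twistOver n S) N₀
  have hpoly : ∀ s : (Over.mk (𝟙 S)).left, ∃ P : Polynomial ℚ, ∀ m : ℤ, (fibreEuler n F s m : ℚ) = P.eval (m : ℚ) := by
    intro s
    simp only [fibreEuler_eq]
    exact exists_poly n (k := (Over.mk (𝟙 S)).left.residueField s) (fibreMap n s) (isPullback_fibreMap n s) F hF
  choose P hP using hpoly
  have htail : ∀ (s : (Over.mk (𝟙 S)).left) (j : ℕ),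
      (seq f L F N (show S from s) j : ℚ) = (P s).eval (((N + j : ℕ) : ℤ) : ℚ) := fun s j => by
    rw [← hP s, hN₀ (N + j) (by omega) s]
    exact (Int.cast_natCast _).symm
  choose pt hpt using hne
  let Pσ : Fin M → Polynomial ℚ := fun i => P (pt i)
  have hPeq : ∀ (i : Fin M) (s : (Over.mk (𝟙 S)).left), seq f L F N (show S from s) = σ i ↔ P s = Pσ i := by
    intro i s
    constructor
    · intro h
      refine Groth.L03.Euler.eq_of_eventually_eval_eq N fun m hm => ?_
      obtain ⟨j, rfl⟩ := Nat.exists_eq_add_of_le hm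
      have h1 := htail s j
      have h2 := htail (pt i) j
      simp only [Int.cast_natCast] at h1 h2
      rw [← h1, ← h2]
      exact congrArg Nat.cast (congrFun (h.trans (hpt i).symm) j)
    · intro h
      refine (funext fun j => ?_).trans (hpt i)
      exact Nat.cast_injective (R := ℚ) ((htail s j).trans ((congrArg (fun p => Polynomial.eval _ p) h).trans
        (htail (pt i) j).symm))
  have hinj : Function.Injective Pσ := fun i i' h =>
    hσ ((hpt i).symm.trans ((hPeq i' (pt i)).2 h))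
  let I : Finset (Polynomial ℚ) := Finset.univ.image Pσ
  let φ : Fin M ≃ ↥I := Equiv.ofBijective (fun i => ⟨Pσ i, Finset.mem_image_of_mem _ (Finset.mem_univ i)⟩)
    ⟨fun i i' h => hinj (congrArg Subtype.val h), fun Q => by
      obtain ⟨i, -, hi⟩ := Finset.mem_image.1 Q.2
      exact ⟨i, Subtype.ext hi⟩⟩
  have hφ : ∀ Q, Pσ (φ.symm Q) = (Q : Polynomial ℚ) := fun Q =>
    congrArg Subtype.val (φ.apply_symm_apply Q)
  refine ⟨I, St ∘ φ.symm, fun Q => e (φ.symm Q), fun Q => himm _, fun Q s => ?_, fun T _ ψ => ?_, fun Q t ht => ?_⟩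
  · show (show S from s) ∈ Set.range (e (φ.symm Q)) ↔ _
    rw [hrange, Set.mem_ofPred_eq, hPeq, hφ]
    constructor
    · intro h m
      rw [hP s m, h]
    · intro h
      refine Groth.L03.Euler.eq_of_eventually_eval_eq 0 fun m _ => ?_
      have := (hP s m).symm.trans (h m)
      simpa using this
  · refine (huniv (isPullback_projMap n ψ)).trans ?_
    have hdesc : (Limits.Sigma.reindex φ.symm St).hom ≫ Limits.Sigma.desc e =
        Limits.Sigma.desc (fun Q => e (φ.symm Q) : ∀ Q, (St ∘ φ.symm) Q ⟶ S) :=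
      Limits.Sigma.hom_ext _ _ fun Q => by
        rw [Limits.Sigma.ι_reindex_hom_assoc, Limits.Sigma.ι_desc, Limits.Sigma.ι_desc]
    constructor
    · rintro ⟨g, hg⟩
      refine ⟨g ≫ (Limits.Sigma.reindex φ.symm St).inv,
        ((congrArg ((g ≫ (Limits.Sigma.reindex φ.symm St).inv) ≫ ·) hdesc).symm.trans ?_)⟩
      simp only [Category.assoc, Iso.inv_hom_id_assoc, hg]
    · rintro ⟨g, hg⟩
      exact ⟨g ≫ (Limits.Sigma.reindex φ.symm St).hom,
        ((Category.assoc _ _ _).trans (congrArg (g ≫ ·) hdesc)).trans hg⟩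
  · obtain ⟨i, hi⟩ := hex t
    refine Set.mem_iUnion₂.2 ⟨φ i, ⟨N, fun m hm => ?_⟩, ?_⟩
    · obtain ⟨j, rfl⟩ : ∃ j : ℕ, m = ((N + j : ℕ) : ℤ) := ⟨(m - N).toNat, by omega⟩
      have hle : σ (φ.symm Q) j ≤ σ i j := by
        by_contra hlt
        obtain ⟨y, hy, hy'⟩ := mem_closure_iff.1 ht {s : S | rk (Mn f L F (N + j)) s ≤ σ i j}
          (isOpen_rk_le (isCoh_Mn f L F (isInvertible_twistOver n S 1) hF _) _) (le_of_eq (congrFun hi j))
        replace hy' : y ∈ Set.range (e (φ.symm Q)) := hy'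
        rw [hrange] at hy'
        exact hlt ((congrFun hy' j).symm.trans_le hy)
      have h1 := htail (pt (φ.symm Q)) j
      have h2 := htail (pt i) j
      rw [hpt] at h1 h2
      rw [← hφ Q, show ((φ i : ↥I) : Polynomial ℚ) = Pσ i from rfl, ← h1, ← h2]
      exact_mod_cast hle
    · show t ∈ Set.range (e (φ.symm (φ i)))
      rw [φ.symm_apply_apply, hrange]
      exact hi

end Groth.L17.Strat
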