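import Groth.Agent.L17.Strat.Euler
import Groth.Agent.L17.BC.Sheaf
import Groth.Agent.L03.Euler.Hilb
import Groth.Agent.L22.Inter.FlatTwist

/-!
# Hilbert functions of the fibres for a relatively ample sheaf
-/

set_option autoImplicit false
set_option linter.style.haveILetI false
set_option linter.unusedSectionVars false
set_option backward.isDefEq.respectTransparency false

universe u

open CategoryTheory CategoryTheory.Limits AlgebraicGeometry TopologicalSpace
open scoped TensorProduct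

noncomputable section

namespace Groth.L17.Strat

open Groth.L00.Tensor (tensorIso)
open Groth.L01.FlatCx (mu mu_baseChange mu_eq_rankAtStalk)

theorem finrank_eq_mu' {A : Type u} [CommRing A] (M : Type u) [AddCommGroup M] [Module A M] [Module.Finite A M]
    (k : Type u) [Field k] [Algebra A k] :
    Module.finrank k (k ⊗[A] M) = mu M (PrimeSpectrum.comap (algebraMap A k) ⊥) := by
  rw [← mu_baseChange, mu_eq_rankAtStalk, Module.rankAtStalk_eq_finrank_of_free]
  rfl

theorem flat_of_flat_baseChange {A B M : Type u} [CommRing A] [CommRing B] [Algebra A B] [AddCommGroup M] [Module A M]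
    (hb : Function.Bijective (algebraMap A B)) (h : Module.Flat B (B ⊗[A] M)) : Module.Flat A M := by
  haveI := h
  let e : A ≃ₗ[A] B := LinearEquiv.ofBijective (Algebra.linearMap A B) hb
  haveI : Module.Flat A B := Module.Flat.of_linearEquiv e.symm
  haveI : Module.Flat A (B ⊗[A] M) := Module.Flat.trans A B _
  exact Module.Flat.of_linearEquiv ((TensorProduct.lid A M).symm.trans (e.rTensor M))

theorem flat_baseChange_of_flat {A B M : Type u} [CommRing A] [CommRing B] [Algebra A B] [AddCommGroup M] [Module A M]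
    (h : Module.Flat A M) : Module.Flat B (B ⊗[A] M) :=
  inferInstance

theorem isInvertible_of_isRelAmple {X S : Scheme.{u}} {f : X ⟶ S} {L : X.Modules}
    (hL : RelAmple.IsRelAmple f L) : PicF.IsInvertible L := by
  refine Groth.L18.GenLoc.isInvertible_of_frames fun x => ?_
  obtain ⟨_, ⟨V', hV', rfl⟩, hxV', -⟩ := S.isBasis_affineOpens.exists_subset_of_mem_open
    (Set.mem_univ (f x)) isOpen_univ
  obtain ⟨U, e, hxU, he⟩ := Groth.L18.Frame.exists_frame (hL.2 ⟨V', hV'⟩).1 ⟨x, hxV'⟩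
  exact ⟨(f ⁻¹ᵁ V').ι ''ᵁ U, e, ⟨⟨x, hxV'⟩, hxU, rfl⟩,
    (Groth.L18.Ample.isFrame_restrict_iff L (f ⁻¹ᵁ V') U e).mp he⟩

variable {X S : Scheme.{u}} (f : X ⟶ S) (L F : X.Modules)

/-- Euler characteristic of a twist on the fibre at a point. -/
abbrev fib (s : S) (n : ℕ) : ℤ :=
  @Curv2.euler (S.residueField s) _ (f.fiber s) ⟨f.fiberToSpecResidueField s⟩
    ((Scheme.Modules.pullback (f.fiberι s)).obj (CohB1.tensorMod F (CohB1.tensorPow L n)))

variable [IsProper f] [IsLocallyNoetherian S] (hL : PicF.IsInvertible L) (hF : Coh.IsCoh F)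
  (hamp : RelAmple.IsRelAmple f L)

include hL hF hamp in
theorem exists_fib_eq_rk {V : S.Opens} (hV : IsAffineOpen V) :
    ∃ N : ℕ, ∀ n, N ≤ n → ∀ s ∈ V, fib f L F s n = rk (Mn f L F n) s := by
  obtain ⟨N, hN⟩ := exists_fibre_euler f hL hF hamp hV
  refine ⟨N, fun n hn s hs => ?_⟩
  have hM := isCoh_Mn f L F hL hF n
  letI : (f.fiber s).Over (Spec (CommRingCat.of (S.residueField s))) := ⟨f.fiberToSpecResidueField s⟩
  letI : Algebra Γ(S, V) (S.residueField s) := (S.evaluation V s hs).hom.toAlgebra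
  haveI : IsProper (f.fiber s ↘ Spec (CommRingCat.of (S.residueField s))) :=
    MorphismProperty.pullback_snd (P := @IsProper) _ _ inferInstance
  haveI := Groth.L20.ModStalk.finite_sections _ hM hV
  have hb : Spec.map (S.evaluation V s hs) ≫ hV.fromSpec = S.fromSpecResidueField s := by
    rw [← Scheme.germ_residue, Spec.map_comp, Category.assoc]
    exact congrArg (Spec.map (S.residue s) ≫ ·) (hV.fromSpecStalk_eq_fromSpecStalk hs)
  have pb : IsPullback (f.fiberι s) (f.fiber s ↘ Spec (CommRingCat.of (S.residueField s))) f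
      (Spec.map (S.evaluation V s hs) ≫ hV.fromSpec) := by
    rw [hb]; exact IsPullback.of_hasPullback f (S.fromSpecResidueField s)
  obtain ⟨hvan, hfr⟩ := hN n hn (S.residueField s) (f.fiberι s) pb
  show Curv2.euler (S.residueField s) (f.fiber s)
    ((Scheme.Modules.pullback (f.fiberι s)).obj (CohB1.tensorMod F (CohB1.tensorPow L n))) = _
  rw [euler_eq_finrank hvan, rk_eq_mu hM hV hs, hfr, finrank_eq_mu']
  exact congrArg (fun p => ((mu _ p : ℕ) : ℤ)) (Groth.L17.BC.Classes.comap_evaluation hV hs)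

include hL hF in
theorem exists_fib_poly (s : S) : ∃ P : Polynomial ℚ, ∀ n : ℕ, (fib f L F s n : ℚ) = P.eval (n : ℚ) := by
  letI : (f.fiber s).Over (Spec (CommRingCat.of (S.residueField s))) := ⟨f.fiberToSpecResidueField s⟩
  haveI : IsProper (f.fiber s ↘ Spec (CommRingCat.of (S.residueField s))) :=
    MorphismProperty.pullback_snd (P := @IsProper) _ _ inferInstance
  obtain ⟨d, U, hsU, hU⟩ := Groth.L22.Inter.FlatTwist.exists_dim_bound f s
  haveI : IsLocallyNoetherian X := LocallyOfFiniteType.isLocallyNoetherian f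
  obtain ⟨P, -, hP⟩ := Groth.L03.Euler.exists_isHilbPoly (k := S.residueField s)
    (Groth.L18.Ample.isInvertible_pullback (f.fiberι s) hL) (Groth.L16.AffineBC.isCoh_pullback (f.fiberι s) hF)
    (d := d) (Topology.IsInducing.subtypeVal.topologicalKrullDim_le.trans (hU s hsU))
  refine ⟨P, fun n => ?_⟩
  rw [← hP n]
  exact congrArg Int.cast (Groth.L03.Euler.euler_iso (k := S.residueField s)
    (tensorIso (Iso.refl _) (Groth.L18.Ample.pullPow (f.fiberι s) L n).symm ≪≫
      Groth.L29.DC.PullTensor.pullTensor (f.fiberι s) _ _)).symm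

include hL hF in
/-- The Hilbert functions of two fibres agree once they agree for large twists. -/
theorem fib_eq_of_eventually (N : ℕ) {s s' : S} (h : ∀ n, N ≤ n → fib f L F s n = fib f L F s' n) (n : ℕ) :
    fib f L F s n = fib f L F s' n := by
  obtain ⟨P, hP⟩ := exists_fib_poly f L F hL hF s
  obtain ⟨Q, hQ⟩ := exists_fib_poly f L F hL hF s'
  have : P = Q := Groth.L03.Euler.eq_of_eventually_eval_eq N fun m hm => by rw [← hP, ← hQ, h m hm]
  exact Int.cast_injective (α := ℚ) (by rw [hP, hQ, this])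

include hL hF hamp in
/-- Over a compact base the identification with ranks is uniform. -/
theorem exists_fib_eq_rk_uniform [CompactSpace S] :
    ∃ N : ℕ, ∀ n, N ≤ n → ∀ s : S, fib f L F s n = rk (Mn f L F n) s := by
  choose V hV hsV using fun s : S => (Opens.isBasis_iff_nbhd.1 S.isBasis_affineOpens) (Opens.mem_top s)
  obtain ⟨C, hC⟩ := isCompact_univ.elim_finite_subcover (fun s : S => (V s : Set S)) (fun s => (V s).2)
    (fun s _ => Set.mem_iUnion.2 ⟨s, (hsV s).1⟩)
  choose N hN using fun s => exists_fib_eq_rk f L F hL hF hamp (hV s)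
  refine ⟨C.sup N, fun n hn s => ?_⟩
  obtain ⟨c, hc, hs⟩ := Set.mem_iUnion₂.1 (hC (Set.mem_univ s))
  exact hN c n ((Finset.le_sup hc).trans hn) s hs

include hL hF hamp in
/-- Over a reduced chart, locally constant ranks of large direct images give flat sections. -/
theorem flat_sections_of_isLocallyConstant [IsReduced S] {V : S.Opens} (hV : IsAffineOpen V) (n : ℕ)
    (h : ∀ s ∈ V, ∃ U : S.Opens, s ∈ U ∧ ∀ s' ∈ U, s' ∈ V → rk (Mn f L F n) s' = rk (Mn f L F n) s) :
    Module.Flat Γ(S, V) Γ(Mn f L F n, V) := by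
  have hM := isCoh_Mn f L F hL hF n
  haveI := Groth.L20.ModStalk.finite_sections _ hM hV
  refine Groth.L01.FlatCx.flat_of_isLocallyConstant _ ((IsLocallyConstant.iff_exists_open _).2 fun x => ?_)
  obtain ⟨y, hy, rfl⟩ := Groth.L17.BC.Classes.exists_primeIdealOf hV x
  obtain ⟨U, hyU, hU⟩ := h y hy
  refine ⟨hV.fromSpec ⁻¹' U, U.2.preimage hV.fromSpec.continuous, ?_, fun x' hx' => ?_⟩
  · show hV.fromSpec (hV.primeIdealOf ⟨y, hy⟩) ∈ U
    rw [hV.fromSpec_primeIdealOf]
    exact hyU
  · obtain ⟨y', hy', rfl⟩ := Groth.L17.BC.Classes.exists_primeIdealOf hV x'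
    rw [← rk_eq_mu hM hV hy', ← rk_eq_mu hM hV hy]
    refine hU y' ?_ hy'
    replace hx' : hV.fromSpec (hV.primeIdealOf ⟨y', hy'⟩) ∈ U := hx'
    rwa [hV.fromSpec_primeIdealOf] at hx'

include hL hF hamp in
/-- Flatness from locally constant Hilbert functions over a reduced base. -/
theorem isFlatOver_of_fib [IsReduced S]
    (h : ∀ s : S, ∃ U : S.Opens, s ∈ U ∧ ∀ s' ∈ U, ∀ n, fib f L F s' n = fib f L F s n) :
    FlatMod.IsFlatOver f F := by
  have hc : IsPullback (𝟙 X) f f (𝟙 S) := IsPullback.of_id_fst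
  have key : FlatMod.IsFlatOver f ((Scheme.Modules.pullback (𝟙 X)).obj F) := by
    refine isFlatOver_of_flat_push f hamp hF hc fun t => ?_
    obtain ⟨_, ⟨V, hV, rfl⟩, htV, -⟩ :=
      S.isBasis_affineOpens.exists_subset_of_mem_open (Set.mem_univ t) isOpen_univ
    obtain ⟨N, hN⟩ := exists_fib_eq_rk f L F hL hF hamp hV
    refine ⟨V, hV, V, hV, le_rfl, htV, N, fun n hn => ?_⟩
    letI := ((𝟙 S : S ⟶ S).appLE V V le_rfl).hom.toAlgebra
    haveI : Module.Flat Γ(S, V) Γ(Mn f L F n, V) := by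
      refine flat_sections_of_isLocallyConstant f L F hL hF hamp hV n fun s hs => ?_
      obtain ⟨U, hsU, hU⟩ := h s
      refine ⟨U, hsU, fun s' hs' hs'V => ?_⟩
      have h1 := hU s' hs' n
      rw [hN n hn s hs, hN n hn s' hs'V] at h1
      exact_mod_cast h1
    exact @flat_baseChange_of_flat Γ(S, V) Γ(S, V) _ _ _ ((𝟙 S : S ⟶ S).appLE V V le_rfl).hom.toAlgebra _ _ this
  exact Groth.L29.DC.RelBC.isFlatOver_of_iso f ((Scheme.Modules.pullbackId X).app F) key

include hL hF hamp in
/-- Flatness makes the Hilbert functions locally constant. -/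
theorem fib_locallyConstant_of_flat (hfl : FlatMod.IsFlatOver f F) (s : S) :
    ∃ U : S.Opens, s ∈ U ∧ ∀ s' ∈ U, ∀ n, fib f L F s' n = fib f L F s n := by
  haveI := hF.1
  obtain ⟨_, ⟨V, hV, rfl⟩, hsV, -⟩ :=
    S.isBasis_affineOpens.exists_subset_of_mem_open (Set.mem_univ s) isOpen_univ
  haveI : IsNoetherianRing Γ(S, V) := IsLocallyNoetherian.component_noetherian ⟨V, hV⟩
  obtain ⟨N₁, hN₁⟩ := exists_fib_eq_rk f L F hL hF hamp hV
  obtain ⟨N₂, hN₂⟩ := exists_fwd f hV hamp hF
  let x := hV.primeIdealOf ⟨s, hsV⟩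
  have hfin : {Z ∈ irreducibleComponents (PrimeSpectrum Γ(S, V)) | x ∉ Z}.Finite :=
    (NoetherianSpace.finite_irreducibleComponents).subset fun Z hZ => hZ.1
  let C : Set (PrimeSpectrum Γ(S, V)) := ⋃₀ {Z ∈ irreducibleComponents (PrimeSpectrum Γ(S, V)) | x ∉ Z}
  have hC : IsClosed C := by
    rw [show C = _ from Set.sUnion_eq_biUnion]
    exact hfin.isClosed_biUnion fun Z hZ => isClosed_of_mem_irreducibleComponents Z hZ.1
  have hxC : x ∉ C := fun ⟨Z, hZ, hxZ⟩ => hZ.2 hxZ
  refine ⟨⟨hV.fromSpec '' Cᶜ, hV.fromSpec.isOpenEmbedding.isOpenMap _ hC.isOpen_compl⟩,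
    ⟨x, hxC, hV.fromSpec_primeIdealOf _⟩, ?_⟩
  rintro _ ⟨y, hy, rfl⟩ n
  obtain ⟨s', hs', rfl⟩ := Groth.L17.BC.Classes.exists_primeIdealOf hV y
  rw [hV.fromSpec_primeIdealOf]
  refine fib_eq_of_eventually f L F hL hF (max N₁ N₂) (fun m hm => ?_) n
  rw [hN₁ m ((le_max_left _ _).trans hm) s' hs', hN₁ m ((le_max_left _ _).trans hm) s hsV]
  have hM := isCoh_Mn f L F hL hF m
  haveI := Groth.L20.ModStalk.finite_sections _ hM hV
  haveI : Module.FinitePresentation Γ(S, V) Γ(Mn f L F m, V) := Module.finitePresentation_of_finite _ _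
  haveI : Module.Flat Γ(S, V) Γ(Mn f L F m, V) := by
    have hfl' : FlatMod.IsFlatOver f ((Scheme.Modules.pullback (𝟙 X)).obj F) :=
      Groth.L29.DC.RelBC.isFlatOver_of_iso f ((Scheme.Modules.pullbackId X).app F).symm hfl
    have h1 := hN₂ m ((le_max_right _ _).trans hm) (φ := 𝟙 S) IsPullback.of_id_fst hfl' hV le_rfl
    exact @flat_of_flat_baseChange Γ(S, V) Γ(S, V) _ _ _ ((𝟙 S : S ⟶ S).appLE V V le_rfl).hom.toAlgebra _ _
      (by
        haveI : IsIso ((𝟙 S : S ⟶ S).appLE V V le_rfl) := by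
          simp [Scheme.Hom.appLE, Scheme.Hom.id_app]; infer_instance
        exact ConcreteCategory.bijective_of_isIso ((𝟙 S : S ⟶ S).appLE V V le_rfl)) h1
  have hlc := Groth.L01.FlatCx.isLocallyConstant_mu (A := Γ(S, V)) Γ(Mn f L F m, V)
  rw [rk_eq_mu hM hV hs', rk_eq_mu hM hV hsV]
  have hcomp : hV.primeIdealOf ⟨s', hs'⟩ ∈ irreducibleComponent (hV.primeIdealOf ⟨s', hs'⟩) := mem_irreducibleComponent
  have hxmem : x ∈ irreducibleComponent (hV.primeIdealOf ⟨s', hs'⟩) := by
    by_contra hne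
    exact hy ⟨_, ⟨irreducibleComponent_mem_irreducibleComponents _, hne⟩, hcomp⟩
  exact_mod_cast hlc.apply_eq_of_isPreconnected isIrreducible_irreducibleComponent.isPreirreducible.isPreconnected
    hcomp hxmem

end Groth.L17.Strat
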