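import Groth.Agent.L17.Strat.LocusChart
import Groth.Agent.L13.FixedLocus.Glue

/-!
# The stratum of a Hilbert polynomial
-/

set_option autoImplicit false
set_option linter.style.haveILetI false
set_option linter.unusedSectionVars false
set_option backward.isDefEq.respectTransparency false

universe u

open CategoryTheory CategoryTheory.Limits AlgebraicGeometry TopologicalSpace

noncomputable section

namespace Groth.L17.Strat

/-- A closed immersion of finite presentation into an affine scheme is cut out by a finitely generated ideal. -/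
theorem exists_fg_ideal {A : CommRingCat.{u}} {W : Scheme.{u}} (w : W ⟶ Spec A) [IsClosedImmersion w]
    [LocallyOfFinitePresentation w] :
    ∃ I : Ideal A, I.FG ∧ ∀ (R : CommRingCat.{u}) (φ : A ⟶ R),
      (∃ h : Spec R ⟶ W, h ≫ w = Spec.map φ) ↔ I ≤ RingHom.ker φ.hom := by
  obtain ⟨I, e, he⟩ := IsClosedImmersion.Spec_iff.1 ‹IsClosedImmersion w›
  refine ⟨I, ?_, fun R φ => ⟨?_, fun h => ?_⟩⟩
  · have h1 : LocallyOfFinitePresentation (Spec.map (CommRingCat.ofHom (Ideal.Quotient.mk I))) :=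
      (MorphismProperty.cancel_left_of_respectsIso @LocallyOfFinitePresentation e.hom _).1 (he ▸ ‹LocallyOfFinitePresentation w›)
    rw [HasRingHomProperty.Spec_iff (P := @LocallyOfFinitePresentation)] at h1
    haveI : Algebra.FinitePresentation A (A ⧸ I) := h1
    have := Algebra.FinitePresentation.ker_fG_of_surjective (Ideal.Quotient.mkₐ A I) Ideal.Quotient.mk_surjective
    rw [AlgHom.toRingHom_eq_coe] at this
    exact (Ideal.Quotient.mkₐ_ker (A : Type u) I) ▸ this
  · rintro ⟨h, hh⟩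
    obtain ⟨ψ, hψ⟩ := Spec.map_surjective (h ≫ e.hom)
    have : CommRingCat.ofHom (Ideal.Quotient.mk I) ≫ ψ = φ := Spec.map_injective (by
      rw [Spec.map_comp, hψ, Category.assoc, ← he, hh])
    intro r hr
    rw [RingHom.mem_ker, ← this, CommRingCat.hom_comp, RingHom.comp_apply, CommRingCat.hom_ofHom,
      Ideal.Quotient.eq_zero_iff_mem.2 hr, map_zero]
  · refine ⟨Spec.map (CommRingCat.ofHom (Ideal.Quotient.lift I φ.hom fun r hr => RingHom.mem_ker.1 (h hr))) ≫ e.inv,
      ?_⟩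
    rw [he, Category.assoc, Iso.inv_hom_id_assoc, ← Spec.map_comp]
    rfl

variable {X S : Scheme.{u}} (f : X ⟶ S) [IsProper f] [LocallyOfFinitePresentation f] (L F : X.Modules)
  (Φ : Polynomial ℚ)

variable {f L F Φ} in
theorem InLocus.comp {T T' : Scheme.{u}} {g : T ⟶ S} (h : InLocus f L F Φ g) (a : T' ⟶ T) :
    InLocus f L F Φ (a ≫ g) :=
  ⟨h.1.comp a, fun t => by rw [Scheme.Hom.comp_apply]; exact h.2 _⟩

theorem inLocus_of_local {T : Scheme.{u}} (g : T ⟶ S)
    (h : ∀ t : T, ∃ W : T.Opens, t ∈ W ∧ InLocus f L F Φ (W.ι ≫ g)) : InLocus f L F Φ g := by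
  refine ⟨flatPb_of_local g fun t => (h t).imp fun W hW => ⟨hW.1, hW.2.1⟩, fun t => ?_⟩
  obtain ⟨W, htW, hW⟩ := h t
  have := hW.2 ⟨t, htW⟩
  rwa [Scheme.Hom.comp_apply] at this

/-- The stratum of a Hilbert polynomial, with its universal property. -/
theorem exists_locus (hamp : RelAmple.IsRelAmple f L) (hfp : CohB1.IsFP F) :
    ∃ (W : Scheme.{u}) (i : W ⟶ S), IsImmersion i ∧ QuasiCompact i ∧ LocallyOfFinitePresentation i ∧
      Set.range i = locus f L F Φ ∧
      ∀ (T : Scheme.{u}) (g : T ⟶ S), (∃ h : T ⟶ W, h ≫ i = g) ↔ InLocus f L F Φ g := by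
  haveI := isQCoh_of_isFP F hfp
  let Z := locus f L F Φ
  let U : S.Opens := ⟨⋃₀ {O : Set S | IsOpen O ∧ closure Z ∩ O ⊆ Z}, isOpen_sUnion fun O hO => hO.1⟩
  have hU : closure Z ∩ (U : Set S) ⊆ Z := by
    rintro y ⟨hy, O, hO, hyO⟩
    exact hO.2 ⟨hy, hyO⟩
  have hZU : Z ⊆ (U : Set S) := by
    intro s hs
    obtain ⟨_, ⟨V, hV, rfl⟩, hsV, -⟩ :=
      S.isBasis_affineOpens.exists_subset_of_mem_open (Set.mem_univ s) isOpen_univ
    obtain ⟨W, w, hw, -, -, hrange, -⟩ := exists_locus_chart f L F Φ hamp hfp hV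
    haveI := hw
    obtain ⟨O', Z', hO', hZ', he⟩ := (w ≫ hV.fromSpec).isLocallyClosed_range
    have he' : Z ∩ (V : Set S) = O' ∩ Z' := by
      rw [← he, Scheme.Hom.comp_base, TopCat.coe_comp, Set.range_comp, hrange, Set.image_preimage_eq_inter_range,
        hV.range_fromSpec]
    refine ⟨O' ∩ V, ⟨hO'.inter V.2, fun y hy => ?_⟩, (he'.le ⟨hs, hsV⟩).1, hsV⟩
    have h1 : y ∈ closure (Z ∩ (O' ∩ (V : Set S))) := by
      rw [Set.inter_comm]
      exact (hO'.inter V.2).inter_closure ⟨hy.2, hy.1⟩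
    have h2 : y ∈ Z' := (closure_minimal (fun z hz => (he'.le ⟨hz.1, hz.2.2⟩).2) hZ') h1
    exact (he'.ge ⟨hy.2.1, h2⟩).1
  have hideal : ∀ U' : (U : Scheme.{u}).affineOpens, ∃ I : Ideal Γ(U, U'.1), I.FG ∧
      ∀ (R : CommRingCat.{u}) (φ : Γ(U, U'.1) ⟶ R),
        InLocus f L F Φ ((Spec.map φ ≫ U'.2.fromSpec) ≫ U.ι) ↔ I ≤ RingHom.ker φ.hom := by
    intro U'
    let V : S.Opens := U.ι ''ᵁ U'.1
    have hV : IsAffineOpen V := U'.2.image_of_isOpenImmersion U.ι
    have hVU : (V : Set S) ⊆ U := by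
      rintro _ ⟨z, -, rfl⟩
      exact z.2
    obtain ⟨W, w, hw, -, hlfp, hrange, huniv⟩ := exists_locus_chart f L F Φ hamp hfp hV
    haveI := hw; haveI := hlfp
    haveI : IsClosedImmersion w := IsClosedImmersion.of_isPreimmersion w (by
      rw [hrange]
      have : hV.fromSpec ⁻¹' Z = hV.fromSpec ⁻¹' closure Z := by
        refine Set.Subset.antisymm (Set.preimage_mono subset_closure) fun x hx => hU ⟨hx, hVU ?_⟩
        exact hV.range_fromSpec.le ⟨x, rfl⟩
      rw [this]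
      exact isClosed_closure.preimage hV.fromSpec.continuous)
    obtain ⟨I, hI, hIiff⟩ := exists_fg_ideal w
    have e : U'.1 ≤ U.ι ⁻¹ᵁ V := fun z hz => ⟨z, hz, rfl⟩
    refine ⟨I.map (U.ι.appLE V U'.1 e).hom, hI.map _, fun R φ => ?_⟩
    rw [Ideal.map_le_iff_le_comap, RingHom.comap_ker, ← CommRingCat.hom_comp, ← hIiff, huniv, Category.assoc,
      ← IsAffineOpen.SpecMap_appLE_fromSpec U.ι hV U'.2 e, ← Category.assoc, ← Spec.map_comp]
  choose I hIfg hI using hideal
  obtain ⟨W, t, ht, hker, huniv⟩ := Groth.L13.FixedLocus.exists_closedImmersion_of_ideals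
    (fun Y (g : Y ⟶ (U : Scheme.{u})) => InLocus f L F Φ (g ≫ U.ι))
    (fun Y Y' a g h => by rw [Category.assoc]; exact h.comp a)
    (fun Y g h => inLocus_of_local f L F Φ _ fun y => (h y).imp fun O hO => ⟨hO.1, by rw [← Category.assoc]; exact hO.2⟩)
    I hI
  haveI := ht
  haveI : LocallyOfFinitePresentation t :=
    Groth.L13.FixedLocus.locallyOfFinitePresentation_of_fg t fun U' => by rw [hker]; exact hIfg U'
  have hW : InLocus f L F Φ (t ≫ U.ι) := (huniv W t).1 ⟨𝟙 W, Category.id_comp t⟩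
  have key : ∀ (T : Scheme.{u}) (g : T ⟶ S), (∃ h : T ⟶ W, h ≫ t ≫ U.ι = g) ↔ InLocus f L F Φ g := by
    intro T g
    constructor
    · rintro ⟨h, rfl⟩
      exact hW.comp h
    · intro hg
      have hr : Set.range g ⊆ Set.range U.ι := by
        rintro _ ⟨x, rfl⟩
        rw [Scheme.Opens.range_ι]
        exact hZU (hg.2 x)
      obtain ⟨h, hh⟩ := (huniv T (IsOpenImmersion.lift U.ι g hr)).2 (by rw [IsOpenImmersion.lift_fac]; exact hg)
      exact ⟨h, by rw [← Category.assoc, hh, IsOpenImmersion.lift_fac]⟩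
  have hrange : Set.range (t ≫ U.ι) = Z := by
    refine Set.Subset.antisymm ?_ fun s hs => ?_
    · rintro _ ⟨x, rfl⟩
      exact hW.2 x
    · obtain ⟨h, hh⟩ := (key _ (S.fromSpecResidueField s)).2 ⟨flatPb_field _, fun y => by
        rw [Scheme.fromSpecResidueField_apply]; exact hs⟩
      refine ⟨h (default : PrimeSpectrum (S.residueField s)), ?_⟩
      rw [← Scheme.Hom.comp_apply, hh, Scheme.fromSpecResidueField_apply]
  refine ⟨W, t ≫ U.ι, inferInstance, ?_, inferInstance, hrange, key⟩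
  rw [quasiCompact_iff_forall_isAffineOpen]
  intro V hV
  obtain ⟨W', w, -, hwqc, -, hwrange, -⟩ := exists_locus_chart f L F Φ hamp hfp hV
  haveI := hwqc
  haveI : CompactSpace W' := QuasiCompact.compactSpace_of_compactSpace w
  rw [(t ≫ U.ι).isEmbedding.isCompact_iff]
  have : (t ≫ U.ι) '' ((t ≫ U.ι) ⁻¹ᵁ V : Set W) = Set.range (w ≫ hV.fromSpec) := by
    show (t ≫ U.ι) '' ((t ≫ U.ι) ⁻¹' (V : Set S)) = _
    rw [Set.image_preimage_eq_inter_range, hrange]
    rw [Scheme.Hom.comp_base, TopCat.coe_comp, Set.range_comp, hwrange, Set.image_preimage_eq_inter_range,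
      hV.range_fromSpec, Set.inter_comm]
  rw [this]
  exact isCompact_range (w ≫ hV.fromSpec).continuous

end Groth.L17.Strat
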