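import Groth.Agent.L17.Strat.Strata
import Groth.Agent.L17.BC.Flattening
import Groth.Agent.L03.Euler.Basic
import Groth.Prelude.Def_FGA

/-!
# Euler characteristic of large twists on the fibres
-/

set_option autoImplicit false
set_option linter.style.haveILetI false
set_option linter.unusedSectionVars false
set_option backward.isDefEq.respectTransparency false

universe u

open CategoryTheory CategoryTheory.Limits AlgebraicGeometry TopologicalSpace Opposite
open scoped TensorProduct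

noncomputable section

namespace Groth.L17.Strat

open Groth.L17.BC
open Groth.L01.FlatCx (dd bc bcE Cyc' cls' cls'_surjective cls'_eq_zero_iff mu mu_baseChange)
open Groth.L00.Tensor (tensorIso tensorRestrict tensorPowRestrict)

/-- Homology in the lowest degree is the kernel of the differential. -/
theorem nonempty_homology_zero {R : Type u} [CommRing R] (P : CochainComplex (ModuleCat.{u} R) ℤ)
    (h0 : IsZero (P.X (0 - 1))) :
    Nonempty ((P.homology 0 : Type u) ≃ₗ[R] LinearMap.ker (dd P 0 (0 + 1))) := by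
  have hk : Cyc' P 0 = LinearMap.ker (dd P 0 (0 + 1)) := by
    ext x
    constructor <;> intro hx
    · have := LinearMap.mem_ker.1 hx
      rw [LinearMap.mem_ker]
      rwa [CochainComplex.next] at this
    · rw [LinearMap.mem_ker] at hx ⊢
      rw [CochainComplex.next]; exact hx
  have hb : Function.Bijective (cls' P 0) := by
    refine ⟨(injective_iff_map_eq_zero _).2 fun x hx => ?_, cls'_surjective P 0⟩
    obtain ⟨y, hy⟩ := (cls'_eq_zero_iff P (i := (0 - 1 : ℤ)) (CochainComplex.prev _ _) x).1 hx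
    haveI := ModuleCat.subsingleton_of_isZero h0
    refine Subtype.ext (hy.symm.trans ?_)
    rw [Subsingleton.elim y 0, map_zero]
    rfl
  exact ⟨(LinearEquiv.ofBijective (cls' P 0) hb).symm.trans (LinearEquiv.ofEq _ _ hk)⟩

variable {X S : Scheme.{u}} (f : X ⟶ S) {L F : X.Modules} [IsProper f] [IsLocallyNoetherian S]
  (hL : PicF.IsInvertible L) (hF : Coh.IsCoh F) (hamp : RelAmple.IsRelAmple f L)
  {V : S.Opens} (hV : IsAffineOpen V)

include hL hF hamp hV in
/-- On fibres over a chart, large twists have only global sections, computed by the direct image. -/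
theorem exists_fibre_euler :
    ∃ N, ∀ n, N ≤ n → ∀ (k : Type u) [Field k] [Algebra Γ(S, V) k] {Xk : Scheme.{u}}
      [Xk.Over (Spec (CommRingCat.of k))] (gk : Xk ⟶ X),
      IsPullback gk (Xk ↘ Spec (CommRingCat.of k)) f
        (Spec.map (CommRingCat.ofHom (algebraMap Γ(S, V) k)) ≫ hV.fromSpec) →
      (∀ i : ℕ, 0 < i → Subsingleton (Coh.HH Xk ((Scheme.Modules.pullback gk).obj (Fn L F n)) i)) ∧
      Module.finrank k (Coh.HH Xk ((Scheme.Modules.pullback gk).obj (Fn L F n)) 0) =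
        Module.finrank k (k ⊗[Γ(S, V)] Γ(Mn f L F n, V)) := by
  let Z : Scheme.{u} := ↑(f ⁻¹ᵁ V)
  let A : Type u := Γ(S, V)
  haveI : IsNoetherianRing A := IsLocallyNoetherian.component_noetherian ⟨V, hV⟩
  let fz : Z ⟶ Spec (CommRingCat.of A) := fV f hV
  haveI : IsProper fz := inferInstanceAs (IsProper (fV f hV))
  haveI : IsLocallyNoetherian Z := LocallyOfFiniteType.isLocallyNoetherian fz
  have hamp' : CohB1.IsAmple (L.restrict (f ⁻¹ᵁ V).ι) := hamp.2 ⟨V, hV⟩
  haveI := hamp'.2.1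
  haveI : Z.IsSeparated := Groth.L18.Ample.isSeparated_of_isAmple hamp'
  obtain ⟨t, U, hcov, hfr, haff⟩ := exists_framed_cover hamp'.1
  have hF' := isCoh_FV (V := V) f hF
  haveI := hF'.1
  obtain ⟨N, hN⟩ := exists_fibres fz _ (FV f (V := V) F) U hcov haff hF' hamp' hfr
  refine ⟨N, fun n hn k _ _ Xk _ gk pb => ?_⟩
  let M := Fn (L.restrict (f ⁻¹ᵁ V).ι) (FV f (V := V) F) n
  haveI : Coh.IsQCoh M := isQCoh_Fn _ _ hamp'.1 n
  let ψ := Spec.map (CommRingCat.ofHom (algebraMap A k))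
  let fk := Xk ↘ Spec (CommRingCat.of k)
  have zpb := Groth.L17.BC.Classes.isPullback_ι_fV f hV
  let w : Xk ⟶ Z := zpb.lift gk (fk ≫ ψ) (by rw [pb.w, Category.assoc])
  have hw : w ≫ (f ⁻¹ᵁ V).ι = gk := zpb.lift_fst _ _ _
  have sq : IsPullback w fk fz ψ :=
    IsPullback.of_right (by rw [hw]; exact pb) (zpb.lift_snd _ _ _) zpb
  haveI := isAffineHom_of_isPullback fz fk w sq
  haveI : Coh.IsQCoh (Fb w M) := Groth.L16.AffineBC.isQCoh_pullback w _
  obtain ⟨e⟩ := nonempty_bcCx_iso w (Coh.toGlobal (A := A) fz) (Coh.toGlobal (A := k) fk) M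
    (compat_of_isPullback _ _ _ sq) U (hasBC_of_isPullback fz _ _ sq M) haff
  obtain ⟨hgood, hex⟩ := hN n hn k (Field.toIsField k)
  let α : (Scheme.Modules.pullback gk).obj (Fn L F n) ≅ Fb w M :=
    (Scheme.Modules.pullbackCongr hw.symm).app _ ≪≫
      ((Scheme.Modules.pullbackComp w (f ⁻¹ᵁ V).ι).app _).symm ≪≫
      (Scheme.Modules.pullback w).mapIso (((Scheme.Modules.restrictFunctorIsoPullback (f ⁻¹ᵁ V).ι).app _).symm ≪≫
        (tensorRestrict (f ⁻¹ᵁ V).ι F (CohB1.tensorPow L n)).symm ≪≫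
        tensorIso (Iso.refl _) (tensorPowRestrict _ L n).symm)
  let P := K (Coh.toGlobal (A := A) fz) M U
  have hK := fun i : ℕ => exists_homology_equiv (Coh.toGlobal (A := k) fk) (Fb w M) (Ub w U)
    (iSup_preimage U w hcov) (isAffineOpen_iInf_preimage w U haff) i
  have hvan : ∀ i : ℕ, 0 < i → Subsingleton (Coh.HH Xk ((Scheme.Modules.pullback gk).obj (Fn L F n)) i) := by
    intro i hi
    have h1 : Subsingleton ((bc k P).homology (i : ℤ) : Type u) := by
      refine (exact_iff_subsingleton (bc k P) _).1 ?_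
      refine (Function.Exact.iff_of_ladder_linearEquiv
        (g₁₂ := (dd (bc k P) ((i : ℤ) - 1) i).baseChange k) (g₂₃ := (dd (bc k P) (i : ℤ) (i + 1)).baseChange k)
        (e₁ := (TensorProduct.lid k ((bc k P).X ((i : ℤ) - 1))).symm)
        (e₂ := (TensorProduct.lid k ((bc k P).X (i : ℤ))).symm)
        (e₃ := (TensorProduct.lid k ((bc k P).X ((i : ℤ) + 1))).symm)
        (LinearMap.ext fun x => rfl) (LinearMap.ext fun x => rfl)).1 ?_
      exact (ex_bc_iff P k k (i : ℤ)).2 (hex _ (by omega))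
    obtain ⟨E⟩ := homologyEquiv_of_iso e (i : ℤ)
    obtain ⟨E'⟩ := hK i
    exact Groth.L16.ProjSpace.subsingleton_of_iso α i (E.trans E').symm.toEquiv.subsingleton
  refine ⟨hvan, ?_⟩
  rw [Groth.L03.Euler.finrank_HH_of_iso (k := k) α 0]
  obtain ⟨E⟩ := homologyEquiv_of_iso e ((0 : ℕ) : ℤ)
  obtain ⟨E'⟩ := hK 0
  have hzP : IsZero (P.X (0 - 1)) := isZero_K U _ _ (by omega)
  obtain ⟨E0⟩ := nonempty_homology_zero (bc k P) ((ModuleCat.extendScalars (algebraMap A k)).map_isZero hzP)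
  let e1 : LinearMap.ker (dd (bc k P) 0 (0 + 1)) ≃ₗ[k] LinearMap.ker ((dd P 0 (0 + 1)).baseChange k) :=
    (bcE k (P.X 0)).ofSubmodules _ _
      (map_ker (bcE k (P.X 0)) (bcE k (P.X (0 + 1))) fun x => (Groth.L01.FlatCx.bcE_dd k P 0 (0 + 1) x).symm)
  let e2 := (LinearEquiv.ofBijective (theta (dd P 0 (0 + 1)) k) hgood).symm
  obtain ⟨T₁⟩ := nonempty_topEquiv (Coh.toGlobal (A := A) fz) M U hcov
  obtain ⟨T₂⟩ := nonempty_twistTop f hV F L n
  let e3 : k ⊗[A] LinearMap.ker (dd P 0 (0 + 1)) ≃ₗ[k] k ⊗[A] Γ(Mn f L F n, V) :=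
    LinearEquiv.baseChange A k _ _ (T₁.symm.trans T₂)
  exact ((E.trans E').symm.trans (E0.trans (e1.trans (e2.trans e3)))).finrank_eq

theorem eulerCharLE_eq_finrank {k : Type u} [Field k] {Y : Scheme.{u}} [Y.Over (Spec (CommRingCat.of k))]
    {M : Y.Modules} (h : ∀ i : ℕ, 0 < i → Subsingleton (Coh.HH Y M i)) (d : ℕ) :
    FGA.eulerCharLE k Y M d = Module.finrank k (Coh.HH Y M 0) := by
  rw [FGA.eulerCharLE, Finset.sum_eq_single 0 (fun i _ hi => ?_) (fun h => absurd (Finset.mem_range.2 (Nat.succ_pos d)) h),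
    pow_zero, one_mul]
  haveI := h i (Nat.pos_of_ne_zero hi)
  rw [Groth.L03.Euler.finrank_eq_zero_of_subsingleton, Nat.cast_zero, mul_zero]

theorem euler_eq_finrank {k : Type u} [Field k] {Y : Scheme.{u}} [Y.Over (Spec (CommRingCat.of k))]
    [IsProper (Y ↘ Spec (CommRingCat.of k))]
    {M : Y.Modules} (h : ∀ i : ℕ, 0 < i → Subsingleton (Coh.HH Y M i)) :
    Curv2.euler k Y M = Module.finrank k (Coh.HH Y M 0) := by
  rw [Groth.L03.Euler.euler_eq_sum (k := k) (N := 1) fun i hi => h i hi]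
  simp

end Groth.L17.Strat
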