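import Groth.Agent.L17.Strat.Strata
import Groth.Agent.L18.VeryAmpleOver
import Groth.Agent.L16.ProjSpace.AmpleIff
import Groth.Prelude.Def_FGA

/-!
# Base change of projective space
-/

set_option autoImplicit false
universe u

open CategoryTheory CategoryTheory.Limits AlgebraicGeometry

namespace Groth.L17.Strat

theorem isPullback_projMap (n : ℕ) {T S : Scheme.{u}} (φ : T ⟶ S) :
    IsPullback (FGA.projMap n φ) (CohB1.ProjSpaceOver.toBase n T) (CohB1.ProjSpaceOver.toBase n S) φ := by
  have h1 : FGA.projMap n φ ≫ pullback.fst (CohB1.ProjSpace.toSpec n (ULift.{u} ℤ)) (specULiftZIsTerminal.from S) =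
      pullback.fst (CohB1.ProjSpace.toSpec n (ULift.{u} ℤ)) (specULiftZIsTerminal.from T) :=
    (pullback.lift_fst _ _ _).trans (Category.comp_id _)
  refine IsPullback.of_right ?_ (pullback.lift_snd _ _ _) (IsPullback.of_hasPullback _ _)
  rw [h1, specULiftZIsTerminal.hom_ext (φ ≫ specULiftZIsTerminal.from S) (specULiftZIsTerminal.from T)]
  exact IsPullback.of_hasPullback _ _

end Groth.L17.Strat
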