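import Groth.Agent.L17.Strat.Euler
import Groth.Agent.L17.Strat.ProjSq
import Groth.Agent.L03.Euler.Hilb
import Groth.Agent.L22.Inter.Fga
import Groth.Agent.L16.ProjSpace.BaseChange
import Groth.Agent.L16.ProjSpace.Dim

/-!
# Hilbert polynomials of the fibres of projective space over a base
-/

set_option autoImplicit false
set_option linter.style.haveILetI false
set_option linter.unusedSectionVars false
set_option backward.isDefEq.respectTransparency false

universe u

open CategoryTheory CategoryTheory.Limits AlgebraicGeometry TopologicalSpace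
open scoped TensorProduct

noncomputable section

namespace Groth.L17.Strat

open Groth.L00.Tensor (tensorIso tensorAssoc)
open Polynomial (eval)

variable (n : ℕ) (S : Scheme.{u})

theorem isInvertible_twistOver (d : ℤ) : PicF.IsInvertible (Twist.twistOver n S d) :=
  Groth.L18.Ample.isInvertible_pullback _ (Groth.L16.ProjTwist.isInvertible_twistProjSpace n _ d)

theorem exists_degree_one (x : CohB1.ProjSpace n (ULift.{u} ℤ)) :
    ∃ f : CohB1.polyGrading n (ULift.{u} ℤ) 1, x ∈ Proj.basicOpen (CohB1.polyGrading n (ULift.{u} ℤ)) f.1 := by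
  obtain ⟨k, hk⟩ := Groth.L16.ProjSpace.exists_mem_basicOpen_X n (ULift.{u} ℤ) x
  exact ⟨⟨MvPolynomial.X k, Groth.L16.ProjSpace.X_mem n (ULift.{u} ℤ) k⟩, hk⟩

theorem nonempty_tensorPow_twistOver (j : ℕ) :
    Nonempty (CohB1.tensorPow (Twist.twistOver n S 1) j ≅ Twist.twistOver n S (j : ℤ)) := by
  obtain ⟨τ⟩ := Groth.L16.ProjTwist.nonempty_tensorPow_twist_iso (CohB1.polyGrading n (ULift.{u} ℤ)) 1
    (exists_degree_one n) j
  exact ⟨(Groth.L18.Ample.pullPow _ _ j).symm ≪≫ (Scheme.Modules.pullback _).mapIso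
    (τ ≪≫ eqToIso (congrArg (Twist.twist _) (mul_one _)))⟩

/-- `O(a) ⊗ O(1)^{⊗ j} ≅ O(a + j)`. -/
theorem nonempty_twistOver_add (a : ℤ) (j : ℕ) :
    Nonempty (CohB1.tensorMod (Twist.twistOver n S a) (CohB1.tensorPow (Twist.twistOver n S 1) j) ≅
      Twist.twistOver n S (a + j)) := by
  obtain ⟨e⟩ := nonempty_tensorPow_twistOver n S j
  obtain ⟨t⟩ := Groth.L16.ProjTwist.nonempty_tensor_twist_iso_one (CohB1.polyGrading n (ULift.{u} ℤ))
    (exists_degree_one n) a (j : ℤ)
  exact ⟨tensorIso (Iso.refl _) e ≪≫ Groth.L29.DC.PullTensor.pullTensor _ _ _ ≪≫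
    (Scheme.Modules.pullback _).mapIso t⟩

variable {S} {k : Type u} [Field k] {Xk : Scheme.{u}} [Xk.Over (Spec (CommRingCat.of k))]
  (q : Xk ⟶ CohB1.ProjSpaceOver n S) {v : Spec (CommRingCat.of k) ⟶ S}
  (pb : IsPullback q (Xk ↘ Spec (CommRingCat.of k)) (CohB1.ProjSpaceOver.toBase n S) v)

include pb in
theorem isProper_fibre : IsProper (Xk ↘ Spec (CommRingCat.of k)) := by
  haveI : IsProper (CohB1.ProjSpaceOver.toBase n S) := by
    show IsProper (Limits.pullback.snd _ _)
    infer_instance
  exact MorphismProperty.of_isPullback pb inferInstance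

include pb in
theorem topologicalKrullDim_fibre : topologicalKrullDim Xk = n := by
  have h1 : IsPullback (q ≫ pullback.fst (CohB1.ProjSpace.toSpec n (ULift.{u} ℤ)) (specULiftZIsTerminal.from S))
      (Xk ↘ Spec (CommRingCat.of k)) (CohB1.ProjSpace.toSpec n (ULift.{u} ℤ))
      (specULiftZIsTerminal.from (Spec (CommRingCat.of k))) := by
    rw [specULiftZIsTerminal.hom_ext (specULiftZIsTerminal.from (Spec (CommRingCat.of k)))
      (v ≫ specULiftZIsTerminal.from S)]
    exact pb.paste_horiz (IsPullback.of_hasPullback _ _)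
  let e := IsPullback.isoIsPullback _ _ h1 (Groth.L16.ProjSpace.isPullback_over n (R := k))
  rw [IsHomeomorph.topologicalKrullDim_eq (Scheme.homeoOfIso e) (Scheme.homeoOfIso e).isHomeomorph,
    Groth.L16.ProjSpace.topologicalKrullDim_eq_of_field]

variable (F : (CohB1.ProjSpaceOver n S).Modules)

/-- Euler characteristic of a twist of the restriction of `F` to a fibre. -/
def chi (m : ℤ) : ℤ :=
  FGA.eulerCharLE k Xk ((Scheme.Modules.pullback q).obj (CohB1.tensorMod F (Twist.twistOver n S m))) n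

theorem nonempty_twist_iso (a : ℤ) (j : ℕ) :
    Nonempty (ShStab.twist Xk ((Scheme.Modules.pullback q).obj (Twist.twistOver n S 1))
        ((Scheme.Modules.pullback q).obj (CohB1.tensorMod F (Twist.twistOver n S a))) j ≅
      (Scheme.Modules.pullback q).obj (CohB1.tensorMod F (Twist.twistOver n S (a + j)))) := by
  obtain ⟨e⟩ := nonempty_twistOver_add n S a j
  exact ⟨tensorIso (Iso.refl _) (Groth.L18.Ample.pullPow q _ j).symm ≪≫
    Groth.L29.DC.PullTensor.pullTensor q _ _ ≪≫
    (Scheme.Modules.pullback q).mapIso (tensorAssoc _ _ _ ≪≫ tensorIso (Iso.refl F) e)⟩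

include pb in
/-- On a fibre the Euler characteristic of the twists is one polynomial for all integers. -/
theorem exists_poly [IsLocallyNoetherian S] (hF : Coh.IsCoh F) :
    ∃ P : Polynomial ℚ, ∀ m : ℤ, (chi n q F (k := k) m : ℚ) = P.eval (m : ℚ) := by
  haveI := isProper_fibre n q pb
  haveI : IsLocallyNoetherian Xk := LocallyOfFiniteType.isLocallyNoetherian (Xk ↘ Spec (CommRingCat.of k))
  haveI : CompactSpace Xk := QuasiCompact.compactSpace_of_compactSpace (Xk ↘ Spec (CommRingCat.of k))
  haveI : AlgebraicGeometry.IsNoetherian Xk := {}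
  haveI : IsProper (CohB1.ProjSpaceOver.toBase n S) := by
    show IsProper (Limits.pullback.snd _ _)
    infer_instance
  haveI : IsLocallyNoetherian (CohB1.ProjSpaceOver n S) :=
    LocallyOfFiniteType.isLocallyNoetherian (CohB1.ProjSpaceOver.toBase n S)
  have hd := (topologicalKrullDim_fibre n q pb).le
  have hL : PicF.IsInvertible ((Scheme.Modules.pullback q).obj (Twist.twistOver n S 1)) :=
    Groth.L18.Ample.isInvertible_pullback _ (isInvertible_twistOver n S 1)
  have hE : ∀ a, Coh.IsCoh ((Scheme.Modules.pullback q).obj (CohB1.tensorMod F (Twist.twistOver n S a))) :=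
    fun a => Groth.L16.AffineBC.isCoh_pullback q (Groth.L03.Euler.isCoh_tensor (isInvertible_twistOver n S a) hF)
  have hex : ∀ a : ℤ, ∃ P : Polynomial ℚ, ∀ j : ℕ, (chi n q F (k := k) (a + j) : ℚ) = P.eval (j : ℚ) := fun a => by
    obtain ⟨P, -, hP⟩ := Groth.L03.Euler.exists_isHilbPoly (k := k) hL (hE a) (d := n)
      (Topology.IsInducing.subtypeVal.topologicalKrullDim_le.trans hd)
    refine ⟨P, fun j => ?_⟩
    obtain ⟨e⟩ := nonempty_twist_iso n q F a j
    rw [chi, Groth.L22.Inter.eulerCharLE_eq k hd, ← Groth.L03.Euler.euler_iso (k := k) e]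
    exact hP j
  choose P hP using hex
  refine ⟨P 0, fun m => ?_⟩
  have h : P m = (P 0).comp (Polynomial.X + Polynomial.C (m : ℚ)) := by
    refine Groth.L03.Euler.eq_of_eventually_eval_eq m.natAbs fun j hj => ?_
    obtain ⟨i, hi⟩ : ∃ i : ℕ, (i : ℤ) = m + j := ⟨(m + j).toNat, by omega⟩
    rw [← hP m j, ← hi, Polynomial.eval_comp, Polynomial.eval_add, Polynomial.eval_X, Polynomial.eval_C,
      ← zero_add (i : ℤ), hP 0 i]
    congr 1
    exact_mod_cast (hi.trans (add_comm _ _))
  simpa [h] using hP m 0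

end Groth.L17.Strat
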