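import Groth.Agent.L17.Strat.Alg
import Groth.Agent.L17.BC.HAbK
import Groth.Agent.L17.BC.TensorA
import Groth.Agent.L16.Existence.AmpleVanish
import Groth.Agent.L16.DevissageKilled
import Groth.Agent.L16.CohSupport
import Groth.Agent.L16.Devissage
import Groth.Agent.L03.Euler.Twist

/-!
# Global sections of large twists commute with quotients of the base ring
-/

set_option autoImplicit false
set_option linter.style.haveILetI false
set_option linter.unusedSectionVars false
set_option backward.isDefEq.respectTransparency false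

universe u

open CategoryTheory CategoryTheory.Limits AlgebraicGeometry TopologicalSpace Opposite
open scoped TensorProduct

noncomputable section

namespace Groth.L17.Strat

open Groth.L17.BC Groth.L17.BC.Cochains
open Groth.L01.FlatCx (dd)

variable {X : Scheme.{u}} {A : Type u} [CommRing A] (ρ : A →+* Coh.Γtop X) {ι : Type u} (U : ι → X.Opens)
  (haff : ∀ (n : ℕ) (a : Fin (n + 1) → ι), IsAffineOpen (⨅ k, U (a k)))

include haff in
theorem exact_one_of_subsingleton (hcov : ⨆ i, U i = ⊤) (M : X.Modules) [Coh.IsQCoh M]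
    (h : Subsingleton (Coh.HH X M 1)) (q : C ρ M U (0 + 1)) (hq : dL ρ M U (0 + 1) q = 0) :
    ∃ v, dL ρ M U 0 v = q := by
  letI : Module A (Coh.HH X M 1) := Module.compHom _ ρ
  obtain ⟨e⟩ := exists_homology_equiv ρ M U hcov haff 1
  haveI : Subsingleton ((K ρ M U).homology ((1 : ℕ) : ℤ) : Type u) := e.toEquiv.subsingleton
  obtain ⟨w, hw⟩ := Groth.L28.HomElt.exists_cycle (K := K ρ M U) (j := (0 + 1 : ℤ)) (k := 0 + 1 + 1)
    (CochainComplex.next _ _) q ((K_d ρ M U _ q).trans hq)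
  have h0 : (K ρ M U).homologyπ (0 + 1 : ℤ) w = 0 := Subsingleton.elim (α := ((K ρ M U).homology ((1 : ℕ) : ℤ) : Type u)) _ _
  obtain ⟨v, hv⟩ := (Groth.L28.HomElt.π_eq_zero_iff (K := K ρ M U) (i := (0 : ℤ)) (by simp) w).1 h0
  exact ⟨v, (K_d ρ M U 0 v).symm.trans (hv.trans hw)⟩

include haff in
/-- Cycles lift along an epimorphism whose kernel has no first cohomology. -/
theorem exists_cycle_lift (hcov : ⨆ i, U i = ⊤) {S : ShortComplex X.Modules} (hS : S.ShortExact)
    [Coh.IsQCoh S.X₁] [Coh.IsQCoh S.X₂] [Coh.IsQCoh S.X₃] (h : Subsingleton (Coh.HH X S.X₁ 1))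
    (z : C ρ S.X₃ U 0) (hz : dL ρ S.X₃ U 0 z = 0) :
    ∃ y, dL ρ S.X₂ U 0 y = 0 ∧ mapC ρ U S.g 0 y = z := by
  haveI := hS.mono_f
  haveI := hS.epi_g
  obtain ⟨y, hy⟩ := mapC_surjective ρ U S.g haff 0 z
  obtain ⟨q, hq⟩ := (mapC_exact ρ U hS.exact (0 + 1)).2 (dL ρ S.X₂ U 0 y)
    ((mapC_dL ρ U S.g 0 y).trans ((congrArg _ hy).trans hz))
  obtain ⟨v, hv⟩ := exact_one_of_subsingleton ρ U haff hcov S.X₁ h q
    ((mapC_exact ρ U hS.exact (0 + 1 + 1)).1 (by rw [mapC_dL, hq, dL_dL, map_zero]))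
  refine ⟨y - mapC ρ U S.f 0 v, ?_, ?_⟩
  · rw [map_sub, ← mapC_dL, hv, hq, sub_self]
  · rw [map_sub, hy, mapC_comp]
    have : ∀ x, mapC ρ U (S.f ≫ S.g) 0 x = 0 := fun x => by
      rw [S.zero]
      exact funext fun a => rfl
    rw [this, sub_zero]

theorem mapC_smulModΓ (a : A) (M : X.Modules) (i : ℤ) (x : C ρ M U i) :
    mapC ρ U (Formal.smulModΓ M (ρ a)) i x = a • x :=
  funext fun b => (Groth.L16.Rees.smulModΓ_app M (ρ a) _ _).trans rfl

theorem mapC_sum {M N : X.Modules} {κ : Type*} (s : Finset κ) (φ : κ → (M ⟶ N)) (i : ℤ) (x : C ρ M U i) :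
    mapC ρ U (∑ k ∈ s, φ k) i x = ∑ k ∈ s, mapC ρ U (φ k) i x :=
  map_sum (AddMonoidHom.mk' (fun φ : M ⟶ N => mapC ρ U φ i x) fun _ _ => rfl) φ s

end Groth.L17.Strat

namespace Groth.L17.Strat

open Groth.L17.BC Groth.L17.BC.Cochains
open Groth.L01.FlatCx (dd)
open Groth.L00.Tensor (tensorRightF)

variable {X : Scheme.{u}}

instance additive_tensorRightF (N : X.Modules) : (tensorRightF N).Additive :=
  haveI := preservesBinaryBiproducts_of_preservesBinaryCoproducts (tensorRightF N)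
  Functor.additive_of_preservesBinaryBiproducts _

theorem tensorRightF_map_eq (N : X.Modules) {M M' : X.Modules} (φ : M ⟶ M') :
    (tensorRightF N).map φ = (DCoh.tensorRightMod N).map φ := by
  refine congrArg (Groth.L00.Tensor.shf X).map ?_
  exact (congrArg (fun k => MonoidalCategoryStruct.tensorHom ((Groth.L00.Tensor.preF X).map φ) k)
    ((Groth.L00.Tensor.preF X).map_id N)).trans (MonoidalCategory.tensorHom_id _ _)

theorem tensorRightF_smulModΓ (N M : X.Modules) (r : Coh.Γtop X) :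
    (tensorRightF N).map (Formal.smulModΓ M r) = Formal.smulModΓ ((tensorRightF N).obj M) r :=
  (tensorRightF_map_eq N _).trans (TensorA.tensor_smulModΓ N M r)

variable {A : Type u} [CommRing A] [IsNoetherianRing A] (f : X ⟶ Spec (CommRingCat.of A)) [IsProper f]
  {L : X.Modules} (hamp : CohB1.IsAmple L) (F : X.Modules) (hF : Coh.IsCoh F)
  {ι : Type u} (U : ι → X.Opens) (hcov : ⨆ i, U i = ⊤)
  (haff : ∀ (n : ℕ) (a : Fin (n + 1) → ι), IsAffineOpen (⨅ k, U (a k)))

/-- The twist. -/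
abbrev Fn (L F : X.Modules) (n : ℕ) : X.Modules := CohB1.tensorMod F (CohB1.tensorPow L n)

/-- The Čech complex of a twist. -/
abbrev Kn (n : ℕ) : CochainComplex (ModuleCat.{u} A) ℤ := K (Coh.toGlobal (A := A) f) (Fn L F n) U

include hamp hF hcov haff in
/-- For large twists the cycles in degree zero commute with the quotient by an ideal. -/
theorem exists_good_quotient (J : Ideal A) :
    ∃ N : ℕ, ∀ n, N ≤ n → Good (dd (Kn f (L := L) F U n) 0 (0 + 1)) (A ⧸ J) := by
  classical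
  letI : X.Over (Spec (CommRingCat.of A)) := ⟨f⟩
  haveI : IsProper (X ↘ Spec (CommRingCat.of A)) := ‹IsProper f›
  haveI : IsLocallyNoetherian X := LocallyOfFiniteType.isLocallyNoetherian f
  obtain ⟨r, j, hj⟩ := Submodule.fg_iff_exists_fin_generating_family.1 (IsNoetherian.noetherian J)
  let ρ := Coh.toGlobal (A := A) f
  let E : X.Modules := ∐ fun _ : Fin r => F
  let ψ : E ⟶ F := Sigma.desc fun k => Formal.smulModΓ F (ρ (j k))
  let π : Fin r → (E ⟶ F) := fun k => Sigma.desc fun l => if l = k then 𝟙 F else 0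
  let ι' : Fin r → (F ⟶ E) := fun k => Sigma.ι (fun _ : Fin r => F) k
  have hid : ∑ k, π k ≫ ι' k = 𝟙 E := by
    refine Sigma.hom_ext _ _ fun l => ?_
    rw [Preadditive.comp_sum, Category.comp_id]
    refine (Finset.sum_eq_single l (fun k _ hk => ?_) (fun h => absurd (Finset.mem_univ l) h)).trans ?_
    · simp [π, Ne.symm hk]
    · simp [π, ι']
  have hιψ : ∀ k, ι' k ≫ ψ = Formal.smulModΓ F (ρ (j k)) := fun k => Sigma.ι_desc _ _
  haveI : Coh.IsQCoh F := hF.1
  have hE : Coh.IsCoh E := Groth.L16.Devissage.isCoh_sigma _ fun _ => hF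
  have hP : Coh.IsCoh (Abelian.image ψ) := Groth.L16.CohSupport.isCoh_image hE ψ
  have hQ : Coh.IsCoh (kernel ψ) := Groth.L16.CohSupport.isCoh_kernel hE ψ
  obtain ⟨N₁, h₁⟩ := Groth.L16.Existence.exists_vanishing_of_isAmple (A := A) hamp hP
  obtain ⟨N₂, h₂⟩ := Groth.L16.Existence.exists_vanishing_of_isAmple (A := A) hamp hQ
  refine ⟨max N₁ N₂, fun n hn => ?_⟩
  have hLn := Groth.L18.Ample.isInvertible_tensorPow hamp.1 n
  let T := tensorRightF (X := X) (CohB1.tensorPow L n)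
  let S := ShortComplex.mk (kernel.ι ψ) (Abelian.factorThruImage ψ)
    (zero_of_comp_mono (Abelian.image.ι ψ) (by rw [Category.assoc, Abelian.image.fac, kernel.condition]))
  have hST : (S.map T).ShortExact := Groth.L03.Euler.shortExact_tensor hLn (Groth.L16.Devissage.shortExact_kernel_image ψ)
  haveI : Mono (T.map (Abelian.image.ι ψ)) := by
    have h := Groth.L03.Euler.shortExact_tensor hLn
      (S := ShortComplex.mk (Abelian.image.ι ψ) (cokernel.π ψ) (kernel.condition _))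
      { exact := ShortComplex.exact_of_f_is_kernel _ (kernelIsKernel (cokernel.π ψ)) }
    exact h.mono_f
  haveI : Coh.IsQCoh (T.obj (kernel ψ)) := (Groth.L03.Euler.isCoh_tensor hLn hQ).1
  haveI : Coh.IsQCoh (T.obj (Abelian.image ψ)) := (Groth.L03.Euler.isCoh_tensor hLn hP).1
  haveI : Coh.IsQCoh (T.obj E) := (Groth.L03.Euler.isCoh_tensor hLn hE).1
  haveI : Coh.IsQCoh (S.map T).X₁ := ‹Coh.IsQCoh (T.obj (kernel ψ))›
  haveI : Coh.IsQCoh (S.map T).X₂ := ‹Coh.IsQCoh (T.obj E)›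
  haveI : Coh.IsQCoh (S.map T).X₃ := ‹Coh.IsQCoh (T.obj (Abelian.image ψ))›
  have hvP : Subsingleton (Coh.HH X (T.obj (Abelian.image ψ)) 1) := Groth.L16.ProjSpace.subsingleton_of_iso
    (Groth.L00.Tensor.tensorComm _ _) 1 (h₁ n ((le_max_left _ _).trans hn) 1 one_pos)
  have hvQ : Subsingleton (Coh.HH X (T.obj (kernel ψ)) 1) := Groth.L16.ProjSpace.subsingleton_of_iso
    (Groth.L00.Tensor.tensorComm _ _) 1 (h₂ n ((le_max_right _ _).trans hn) 1 one_pos)
  let Te := T.map (Abelian.factorThruImage ψ)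
  let Ti := T.map (Abelian.image.ι ψ)
  have hψ : ∀ i y, mapC ρ U (T.map ψ) i y = ∑ k, j k • mapC ρ U (T.map (π k)) i y := fun i y => by
    have h : T.map ψ = ∑ k, T.map (π k) ≫ Formal.smulModΓ (T.obj F) (ρ (j k)) := by
      rw [← Category.id_comp ψ, ← hid, Preadditive.sum_comp, T.map_sum]
      refine Finset.sum_congr rfl fun k _ => ?_
      rw [Category.assoc, hιψ, T.map_comp, tensorRightF_smulModΓ]
    rw [h, mapC_sum]
    exact Finset.sum_congr rfl fun k _ => (mapC_comp ρ U _ _ i y).symm.trans (mapC_smulModΓ ρ U (j k) _ i _)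
  have hfac : ∀ i y, mapC ρ U Ti i (mapC ρ U Te i y) = mapC ρ U (T.map ψ) i y := fun i y => by
    rw [mapC_comp, ← T.map_comp, Abelian.image.fac]
  have hrange : ∀ i (x : C ρ (T.obj F) U i), x ∈ J • (⊤ : Submodule A (C ρ (T.obj F) U i)) →
      ∃ y, mapC ρ U (T.map ψ) i y = x := fun i x hx => by
    rw [← hj] at hx
    induction hx using Submodule.smul_induction_on' with
    | smul a ha x _ =>
      induction ha using Submodule.span_induction with
      | mem a ha =>
        obtain ⟨k, rfl⟩ := ha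
        refine ⟨mapC ρ U (T.map (ι' k)) i x, ?_⟩
        rw [mapC_comp, ← T.map_comp, hιψ, tensorRightF_smulModΓ]
        exact mapC_smulModΓ ρ U (j k) _ i x
      | zero => exact ⟨0, by rw [map_zero, zero_smul]⟩
      | add a b _ _ ha hb =>
        obtain ⟨⟨y, hy⟩, ⟨y', hy'⟩⟩ := And.intro ha hb
        exact ⟨y + y', by rw [map_add, hy, hy', add_smul]⟩
      | smul c a _ ha =>
        obtain ⟨y, hy⟩ := ha
        exact ⟨c • y, by rw [map_smul, hy, smul_assoc]⟩
    | add x y _ _ hx hy =>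
      obtain ⟨⟨a, ha⟩, ⟨b, hb⟩⟩ := And.intro hx hy
      exact ⟨a + b, by rw [map_add, ha, hb]⟩
  have hmem : ∀ k, j k ∈ J := fun k => hj.le (Submodule.subset_span ⟨k, rfl⟩)
  refine good_quotient _ J (fun x hx => ?_) (fun z hz => ?_)
  · have hx' : dL ρ (T.obj F) U 0 x ∈ J • (⊤ : Submodule A (C ρ (T.obj F) U (0 + 1))) :=
      (K_d ρ (T.obj F) U 0 x) ▸ hx
    obtain ⟨y, hy⟩ := hrange _ _ hx'
    obtain ⟨q, hq⟩ := exact_one_of_subsingleton ρ U haff hcov _ hvP (mapC ρ U Te (0 + 1) y) (by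
      refine (mapC_exact ρ U (S := ShortComplex.mk Ti (T.map (cokernel.π ψ))
        (by rw [← T.map_comp, kernel.condition, T.map_zero])) ?_ (0 + 1 + 1)).1 ?_
      · exact (Groth.L03.Euler.shortExact_tensor hLn
          (S := ShortComplex.mk (Abelian.image.ι ψ) (cokernel.π ψ) (kernel.condition _))
          { exact := ShortComplex.exact_of_f_is_kernel _ (kernelIsKernel (cokernel.π ψ)) }).exact
      · show mapC ρ U Ti _ _ = mapC ρ U Ti _ 0
        rw [map_zero, mapC_dL, hfac, hy, dL_dL])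
    haveI : Epi Te := hST.epi_g
    obtain ⟨w, hw⟩ := mapC_surjective ρ U Te haff 0 q
    refine ⟨(show C ρ (T.obj F) U 0 from x) - mapC ρ U (T.map ψ) 0 w, (K_d ρ (T.obj F) U 0 _).trans ?_, ?_⟩
    · rw [map_sub, ← hfac, hw, ← mapC_dL, hq, hfac, hy, sub_self]
    · rw [sub_sub_cancel, hψ]
      exact Submodule.sum_mem _ fun k _ => Submodule.smul_mem_smul (hmem k) Submodule.mem_top
  · obtain ⟨y, hy⟩ := hrange 0 z.1 hz
    have hp : dL ρ (T.obj (Abelian.image ψ)) U 0 (mapC ρ U Te 0 y) = 0 := by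
      refine (mapC_exact ρ U (S := ShortComplex.mk Ti (T.map (cokernel.π ψ))
        (by rw [← T.map_comp, kernel.condition, T.map_zero])) ?_ (0 + 1)).1 ?_
      · exact (Groth.L03.Euler.shortExact_tensor hLn
          (S := ShortComplex.mk (Abelian.image.ι ψ) (cokernel.π ψ) (kernel.condition _))
          { exact := ShortComplex.exact_of_f_is_kernel _ (kernelIsKernel (cokernel.π ψ)) }).exact
      · show mapC ρ U Ti _ _ = mapC ρ U Ti _ 0
        rw [map_zero, mapC_dL, hfac, hy]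
        exact (K_d ρ (T.obj F) U 0 z.1).symm.trans z.2
    obtain ⟨w, hw, hwy⟩ := exists_cycle_lift ρ U haff hcov hST hvQ _ hp
    have hz' : z = ∑ k, j k • (⟨mapC ρ U (T.map (π k)) 0 w, by
        refine (K_d ρ (T.obj F) U 0 _).trans ?_
        rw [← mapC_dL]
        exact (congrArg (mapC ρ U _ _) hw).trans (map_zero _)⟩ :
        LinearMap.ker (dd (Kn f (L := L) F U n) 0 (0 + 1))) := by
      refine Subtype.ext ?_
      rw [Submodule.coe_sum]
      show z.1 = ∑ k, j k • mapC ρ U (T.map (π k)) 0 w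
      rw [← hψ, ← hfac, show mapC ρ U Te 0 w = mapC ρ U Te 0 y from hwy, hfac]
      exact hy.symm
    rw [hz']
    exact Submodule.sum_mem _ fun k _ => Submodule.smul_mem_smul (hmem k) Submodule.mem_top

end Groth.L17.Strat
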