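import Groth.Agent.L17.Approx.Model
import Groth.Agent.L22.VeryAmple.Over
import Groth.Agent.L18.VeryAmpleOver
import Groth.Agent.L19.Limit.Hom
import Groth.Agent.L19.Limit.Immersion
import Groth.Agent.L17.Strat.ProjSq

/-!
# Noetherian models of a proper scheme with an ample sheaf and a module
-/

set_option autoImplicit false
set_option linter.style.haveILetI false
set_option linter.unusedSectionVars false
set_option backward.isDefEq.respectTransparency false

universe u

open CategoryTheory CategoryTheory.Limits AlgebraicGeometry TopologicalSpace Opposite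

noncomputable section

namespace Groth.L17.Strat

variable {A : Type u} [CommRing A]

/-- Noetherian models of the scheme, of a power of the ample sheaf, and of any module, with uniform power. -/
theorem exists_ample_model {X : Scheme.{u}} (f : X ⟶ Spec (CommRingCat.of A)) [IsProper f]
    [LocallyOfFinitePresentation f] {L : X.Modules} (hamp : CohB1.IsAmple L) :
    ∃ (d : ℕ), 0 < d ∧ ∀ (F : X.Modules) [Coh.IsQCoh F], CohB1.IsFP F →
      ∃ (A₂ : Subalgebra ℤ A) (_ : IsNoetherianRing A₂) (X₂ : Scheme.{u})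
      (f₂ : X₂ ⟶ Spec (CommRingCat.of ↥A₂)) (g : X ⟶ X₂) (L₂ F₂ : X₂.Modules),
      IsProper f₂ ∧ RelAmple.IsRelAmple f₂ L₂ ∧ Coh.IsCoh F₂ ∧
        IsPullback g f f₂ (Spec.map (CommRingCat.ofHom (algebraMap (↥A₂) A))) ∧
        Nonempty ((Scheme.Modules.pullback g).obj L₂ ≅ CohB1.tensorPow L d) ∧
        Nonempty ((Scheme.Modules.pullback g).obj F₂ ≅ F) := by
  obtain ⟨n₀, hn₀⟩ := Groth.L22.VeryAmple.exists_forall_isRelVeryAmplePn f hamp
  obtain ⟨n, i, hi, hif, ⟨τ⟩⟩ := hn₀ (n₀ + 1) (Nat.le_succ _)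
  haveI := hi
  refine ⟨n₀ + 1, Nat.succ_pos _, fun F _ hfp => ?_⟩
  obtain ⟨A₁, hA₁, X₁, f₁, g₁, F₁, hf₁, hlfp₁, hF₁, sq₁, ⟨iso⟩⟩ := Groth.L17.Approx.exists_coherent_model f F hfp
  haveI := hf₁; haveI := hlfp₁
  let D := Groth.L05.ModelFG.specDiagram A
  let c := Groth.L05.ModelFG.specCone A
  let i₁ : (Groth.L05.ModelFG.FG A)ᵒᵖ := op ⟨A₁, hA₁⟩
  haveI : CompactSpace (D.obj i₁) := inferInstanceAs (CompactSpace (Spec (CommRingCat.of ↥A₁)))
  haveI : QuasiSeparatedSpace (D.obj i₁) := inferInstanceAs (QuasiSeparatedSpace (Spec (CommRingCat.of ↥A₁)))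
  haveI : CompactSpace X₁ := QuasiCompact.compactSpace_of_compactSpace f₁
  haveI : QuasiSeparatedSpace X₁ := quasiSeparatedSpace_of_quasiSeparated f₁
  let f₁' : X₁ ⟶ D.obj i₁ := f₁
  haveI : IsProper f₁' := hf₁
  haveI : LocallyOfFinitePresentation f₁' := hlfp₁
  let f' : X ⟶ c.pt := f
  have hX : IsPullback g₁ f' f₁' (c.π.app i₁) := sq₁
  let yi := CohB1.ProjSpaceOver.toBase n (D.obj i₁)
  haveI : LocallyOfFinitePresentation yi := by
    show LocallyOfFinitePresentation (pullback.snd _ _)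
    infer_instance
  have hY : IsPullback (FGA.projMap n (c.π.app i₁)) (CohB1.ProjSpaceOver.toBase n c.pt) yi (c.π.app i₁) :=
    isPullback_projMap n _
  have hif' : i ≫ CohB1.ProjSpaceOver.toBase n c.pt = f' := hif
  obtain ⟨j, φ, fj, sX, sY, hfj, hsX1, hsX2, hsY1, hsY2, hcomm⟩ :=
    Groth.L19.Limit.exists_hom_stage (Groth.L05.ModelFG.isLimitSpecCone A) hX hY i hif'
  let Y₀ := pullback yi (D.map φ)
  let g₀ : Y₀ ⟶ D.obj j := pullback.snd yi (D.map φ)
  haveI : CompactSpace (D.obj j) := inferInstanceAs (CompactSpace (Spec (CommRingCat.of ↥j.unop.1)))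
  haveI : IsProper yi := by
    show IsProper (pullback.snd _ _)
    infer_instance
  haveI : IsProper g₀ := MorphismProperty.pullback_snd _ _ ‹IsProper yi›
  haveI : CompactSpace Y₀ := QuasiCompact.compactSpace_of_compactSpace g₀
  haveI : IsProper (fj ≫ g₀) := by rw [hfj]; infer_instance
  haveI : IsProper fj := IsProper.of_comp fj g₀
  have hY' : IsPullback sY (CohB1.ProjSpaceOver.toBase n c.pt) g₀ (c.π.app j) :=
    IsPullback.of_right (by rw [hsY1, c.w]; exact hY) hsY2 (IsPullback.of_hasPullback yi (D.map φ))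
  have hbig : IsPullback sX f' (pullback.snd f₁' (D.map φ)) (c.π.app j) :=
    IsPullback.of_right (by rw [hsX1, c.w]; exact hX) hsX2 (IsPullback.of_hasPullback f₁' (D.map φ))
  have hX' : IsPullback sX i fj sY :=
    IsPullback.of_bot (by rw [hif', hfj]; exact hbig) hcomm hY'
  obtain ⟨k, ψ, Xk, Yk, fk, gk, pY, pX, hk1, hk2, hk3⟩ :=
    Groth.L19.Limit.descends_isImmersion.exists_stage (Groth.L05.ModelFG.isLimitSpecCone A)
      (f₀ := fj) (g₀ := g₀) ⟨⟨inferInstance, inferInstance⟩, inferInstance⟩ hY' hX' hi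
  haveI := hk3
  let e := (hk1.paste_horiz (IsPullback.of_hasPullback yi (D.map φ))).isoIsPullback _ _
    (by rw [← D.map_comp]; exact isPullback_projMap n (D.map (ψ ≫ φ)))
  have he1 : e.hom ≫ FGA.projMap n (D.map (ψ ≫ φ)) = pY ≫ pullback.fst yi (D.map φ) :=
    IsPullback.isoIsPullback_hom_fst _ _ _ _
  have he2 : e.hom ≫ CohB1.ProjSpaceOver.toBase n (D.obj k) = gk := IsPullback.isoIsPullback_hom_snd _ _ _ _
  have hk : IsPullback (pX ≫ pullback.fst f₁' (D.map φ)) (fk ≫ gk) f₁' (D.map ψ ≫ D.map φ) := by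
    refine IsPullback.paste_horiz ?_ (IsPullback.of_hasPullback f₁' (D.map φ))
    rw [← hfj]
    exact hk2.paste_vert hk1
  haveI hf₂ : IsProper (fk ≫ gk) := MorphismProperty.of_isPullback hk ‹IsProper f₁'›
  let g : X ⟶ Xk := hk.lift g₁ (f' ≫ c.π.app k) (by rw [Category.assoc, ← D.map_comp, c.w]; exact hX.w)
  have hg1 : g ≫ pX ≫ pullback.fst f₁' (D.map φ) = g₁ := hk.lift_fst _ _ _
  have hg2 : g ≫ fk ≫ gk = f' ≫ c.π.app k := hk.lift_snd _ _ _
  have sq₂ : IsPullback g f' (fk ≫ gk) (c.π.app k) :=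
    IsPullback.of_right (by rw [hg1, ← D.map_comp, c.w]; exact hX) hg2 hk
  let r : Xk ⟶ CohB1.ProjSpaceOver n (D.obj k) := fk ≫ e.hom
  have hr : r ≫ CohB1.ProjSpaceOver.toBase n (D.obj k) = fk ≫ gk := by rw [Category.assoc, he2]
  haveI : IsProper (CohB1.ProjSpaceOver.toBase n (D.obj k)) := by
    show IsProper (pullback.snd _ _)
    infer_instance
  haveI : IsProper (r ≫ CohB1.ProjSpaceOver.toBase n (D.obj k)) := by rw [hr]; exact hf₂
  haveI : IsProper r := IsProper.of_comp r (CohB1.ProjSpaceOver.toBase n (D.obj k))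
  have hqa : Mor2.IsQuasiAffine r := ⟨inferInstance, fun W hW => by
    haveI : IsAffine W.toScheme := hW
    haveI : CompactSpace (r ⁻¹ᵁ W : Scheme.{u}) := isCompact_iff_compactSpace.1 (r.isCompact_preimage hW.isCompact)
    exact Scheme.IsQuasiAffine.of_isImmersion (r ∣_ W)⟩
  have hamp₂ : RelAmple.IsRelAmple (fk ≫ gk) ((Scheme.Modules.pullback r).obj (Twist.twistOver n (D.obj k) 1)) := by
    rw [← hr]
    exact Groth.L18.Ample.isRelAmple_pullback_quasiAffine _ r hqa (Groth.L18.VeryAmpleOver.isRelAmple_twistOver n _)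
  haveI : Algebra.FiniteType ℤ A₁ := A₁.fg_iff_finiteType.mp hA₁
  haveI : IsNoetherianRing A₁ := Algebra.FiniteType.isNoetherianRing ℤ A₁
  haveI : IsLocallyNoetherian X₁ := LocallyOfFiniteType.isLocallyNoetherian f₁
  have hfst : (g ≫ r) ≫ pullback.fst (CohB1.ProjSpace.toSpec n (ULift.{u} ℤ)) (specULiftZIsTerminal.from (D.obj k)) =
      i ≫ pullback.fst (CohB1.ProjSpace.toSpec n (ULift.{u} ℤ)) (specULiftZIsTerminal.from _) := by
    have h1 : ∀ {T S : Scheme.{u}} (ψ : T ⟶ S), FGA.projMap n ψ ≫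
        pullback.fst (CohB1.ProjSpace.toSpec n (ULift.{u} ℤ)) (specULiftZIsTerminal.from S) =
          pullback.fst (CohB1.ProjSpace.toSpec n (ULift.{u} ℤ)) (specULiftZIsTerminal.from T) :=
      fun ψ => (pullback.lift_fst _ _ _).trans (Category.comp_id _)
    have h2 : g ≫ pX = sX := by
      apply pullback.hom_ext
      · rw [Category.assoc, hg1, hsX1]
      · have h3 : pX ≫ pullback.snd f₁' (D.map φ) = fk ≫ gk ≫ D.map ψ := by
          rw [← hfj, reassoc_of% hk2.w, hk1.w]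
        rw [Category.assoc, h3, ← Category.assoc fk, ← Category.assoc g, hg2, Category.assoc, c.w, hsX2]
    have h4 : (g ≫ r) ≫ FGA.projMap n (D.map (ψ ≫ φ)) = i ≫ FGA.projMap n (c.π.app i₁) := by
      simp only [r, Category.assoc, he1]
      rw [← reassoc_of% hk2.w, reassoc_of% h2, reassoc_of% hcomm, hsY1]
    rw [← h1 (D.map (ψ ≫ φ)), ← Category.assoc, h4, Category.assoc, h1]
  refine ⟨k.unop.1, ?_, Xk, fk ≫ gk, g,
    (Scheme.Modules.pullback r).obj (Twist.twistOver n (D.obj k) 1),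
    (Scheme.Modules.pullback (pX ≫ pullback.fst f₁' (D.map φ))).obj F₁, hf₂, hamp₂,
    Groth.L16.AffineBC.isCoh_pullback _ hF₁, sq₂, ?_, ?_⟩
  · haveI : Algebra.FiniteType ℤ k.unop.1 := k.unop.1.fg_iff_finiteType.mp k.unop.2
    exact Algebra.FiniteType.isNoetherianRing ℤ k.unop.1
  · refine ⟨?_⟩
    exact (Scheme.Modules.pullbackComp g r).app _ ≪≫ (Scheme.Modules.pullbackComp (g ≫ r) _).app _ ≪≫
      (Scheme.Modules.pullbackCongr hfst).app _ ≪≫ ((Scheme.Modules.pullbackComp i _).app _).symm ≪≫ τ.symm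
  · exact ⟨(Scheme.Modules.pullbackComp g _).app F₁ ≪≫ (Scheme.Modules.pullbackCongr hg1).app F₁ ≪≫ iso⟩

end Groth.L17.Strat
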