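import Groth.Agent.L17.Strat.GenFibre
import Groth.Agent.L17.Strat.Model
import Groth.Agent.L21.RR.BaseChange
import Groth.Agent.L18.FibrePoints
import Groth.Agent.L17.Approx.RestrictFP
import Groth.Agent.L20.ResDescent

/-!
# Fibre Hilbert functions over an arbitrary base
-/

set_option autoImplicit false
set_option linter.style.haveILetI false
set_option linter.unusedSectionVars false
set_option backward.isDefEq.respectTransparency false

universe u

open CategoryTheory CategoryTheory.Limits AlgebraicGeometry TopologicalSpace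

noncomputable section

namespace Groth.L17.Strat

open Groth.L00.Tensor (tensorIso tensorPowMul tensorPowIso)

variable {X S : Scheme.{u}} (f : X ⟶ S) (L F : X.Modules)

theorem isQCoh_of_isFP (hfp : CohB1.IsFP F) : Coh.IsQCoh F :=
  { nonempty_quasicoherentData := ⟨hfp.exists_quasicoherentData.choose⟩ }

variable [IsProper f]

theorem isCoh_fibre (hfp : CohB1.IsFP F) (s : S) : Coh.IsCoh ((Scheme.Modules.pullback (f.fiberι s)).obj F) := by
  haveI := isQCoh_of_isFP F hfp
  exact ⟨Groth.L16.AffineBC.isQCoh_pullback _ F,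
    Groth.L20.ResDescent.isFT_pullback _ F (by haveI : SheafOfModules.IsFinitePresentation (R := X.ringCatSheaf) F := hfp; exact inferInstance)⟩

theorem nonempty_fibre_twist (s : S) (n : ℕ) :
    Nonempty (ShStab.twist (f.fiber s) ((Scheme.Modules.pullback (f.fiberι s)).obj L)
        ((Scheme.Modules.pullback (f.fiberι s)).obj F) n ≅
      (Scheme.Modules.pullback (f.fiberι s)).obj (CohB1.tensorMod F (CohB1.tensorPow L n))) :=
  ⟨tensorIso (Iso.refl _) (Groth.L18.Ample.pullPow (f.fiberι s) L n).symm ≪≫
    Groth.L29.DC.PullTensor.pullTensor (f.fiberι s) _ _⟩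

/-- On any base the fibre Hilbert function is polynomial. -/
theorem exists_fib_poly' (hL : PicF.IsInvertible L) (hfp : CohB1.IsFP F) (s : S) :
    ∃ P : Polynomial ℚ, ∀ n : ℕ, (fib f L F s n : ℚ) = P.eval (n : ℚ) := by
  letI : (f.fiber s).Over (Spec (CommRingCat.of (S.residueField s))) := ⟨f.fiberToSpecResidueField s⟩
  haveI : IsProper (f.fiber s ↘ Spec (CommRingCat.of (S.residueField s))) :=
    MorphismProperty.pullback_snd (P := @IsProper) _ _ inferInstance
  obtain ⟨d, U, hsU, hU⟩ := Groth.L22.Inter.FlatTwist.exists_dim_bound f s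
  obtain ⟨P, -, hP⟩ := Groth.L03.Euler.exists_isHilbPoly (k := S.residueField s)
    (Groth.L18.Ample.isInvertible_pullback (f.fiberι s) hL) (isCoh_fibre f F hfp s)
    (d := d) (Topology.IsInducing.subtypeVal.topologicalKrullDim_le.trans (hU s hsU))
  refine ⟨P, fun n => ?_⟩
  obtain ⟨e⟩ := nonempty_fibre_twist f L F s n
  rw [← hP n]
  exact congrArg Int.cast (Groth.L03.Euler.euler_iso (k := S.residueField s) e).symm

theorem fib_pow (d : ℕ) (s : S) (q : ℕ) : fib f (CohB1.tensorPow L d) F s q = fib f L F s (d * q) := by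
  letI : (f.fiber s).Over (Spec (CommRingCat.of (S.residueField s))) := ⟨f.fiberToSpecResidueField s⟩
  exact Groth.L03.Euler.euler_iso (k := S.residueField s)
    ((Scheme.Modules.pullback (f.fiberι s)).mapIso (tensorIso (Iso.refl F) (tensorPowMul L d q)))

variable {X' S' : Scheme.{u}} {f' : X' ⟶ S'} {g' : X' ⟶ X} {φ : S' ⟶ S}

/-- Invariance of the fibre Hilbert function under base change. -/
theorem fib_baseChange (hL : PicF.IsInvertible L)
    (hfib : ∀ s, Coh.IsCoh ((Scheme.Modules.pullback (f.fiberι s)).obj F)) (sq : IsPullback g' f' f φ)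
    (L' F' : X'.Modules) (eL : (Scheme.Modules.pullback g').obj L ≅ L')
    (eF : (Scheme.Modules.pullback g').obj F ≅ F') (s' : S') (n : ℕ) :
    fib f' L' F' s' n = fib f L F (φ s') n := by
  obtain ⟨p, hp, hι⟩ := Groth.L18.FP.exists_fiberMap f sq s'
  letI : Algebra (S.residueField (φ s')) (S'.residueField s') := (φ.residueFieldMap s').hom.toAlgebra
  letI : (f.fiber (φ s')).Over (Spec (CommRingCat.of (S.residueField (φ s')))) :=
    ⟨f.fiberToSpecResidueField (φ s')⟩
  letI : (f'.fiber s').Over (Spec (CommRingCat.of (S'.residueField s'))) := ⟨f'.fiberToSpecResidueField s'⟩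
  haveI : IsProper ((f.fiber (φ s')) ↘ Spec (CommRingCat.of (S.residueField (φ s')))) :=
    MorphismProperty.of_isPullback (P := @IsProper) (IsPullback.of_hasPullback f (S.fromSpecResidueField _))
      inferInstance
  haveI : IsLocallyNoetherian (f.fiber (φ s')) :=
    LocallyOfFiniteType.isLocallyNoetherian ((f.fiber (φ s')) ↘ Spec (CommRingCat.of (S.residueField (φ s'))))
  obtain ⟨e⟩ := nonempty_fibre_twist f L F (φ s') n
  have hc : Coh.IsCoh ((Scheme.Modules.pullback (f.fiberι (φ s'))).obj (CohB1.tensorMod F (CohB1.tensorPow L n))) :=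
    Groth.L16.CohSupport.isCoh_of_iso e (Groth.L03.Euler.isCoh_tensor
      (Groth.L18.Ample.isInvertible_tensorPow (Groth.L18.Ample.isInvertible_pullback _ hL) n) (hfib _))
  refine Eq.trans ?_ (Groth.L21.RR.euler_pullback (k := S.residueField (φ s')) (K := S'.residueField s') p hp hc)
  exact Groth.L03.Euler.euler_iso (k := S'.residueField s')
    ((Scheme.Modules.pullback (f'.fiberι s')).mapIso (tensorIso eF.symm (tensorPowIso eL.symm n) ≪≫
        tensorIso (Iso.refl _) (Groth.L18.Ample.pullPow g' L n).symm ≪≫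
        Groth.L29.DC.PullTensor.pullTensor g' _ _) ≪≫
      (Scheme.Modules.pullbackComp (f'.fiberι s') g').app _ ≪≫ (Scheme.Modules.pullbackCongr hι.symm).app _ ≪≫
      ((Scheme.Modules.pullbackComp p (f.fiberι (φ s'))).app _).symm)

end Groth.L17.Strat

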