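import Groth.Agent.L15.FittSheaf
import Groth.Agent.L22.Ideal
import Groth.Agent.L17.BC.SplitCoker
import Groth.Agent.L17.BC.Flattening
import Groth.Agent.L01.FlatCx.Rank

/-!
# Fibre rank of a coherent module and Fitting ideals of its pullbacks
-/

set_option autoImplicit false
set_option linter.style.haveILetI false
set_option linter.unusedSectionVars false
set_option backward.isDefEq.respectTransparency false

universe u

open CategoryTheory AlgebraicGeometry TopologicalSpace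
open scoped TensorProduct

noncomputable section

namespace Groth.L17.Strat

open Groth.L01.FlatCx (mu mu_baseChange mu_eq_rankAtStalk isLocallyConstant_mu)

/-- The dimension of the fibre of a coherent module, as the first Fitting ideal not vanishing there. -/
def rk {S : Scheme.{u}} (M : S.Modules) (s : S) : ℕ :=
  sInf {r | s ∉ (Fitt.sheafIdeal M r).support}

variable {S : Scheme.{u}} {M : S.Modules} (hM : Coh.IsCoh M)

include hM in
theorem rk_eq_mu {V : S.Opens} (hV : IsAffineOpen V) {s : S} (hs : s ∈ V) :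
    rk M s = mu Γ(M, V) (hV.primeIdealOf ⟨s, hs⟩) := by
  haveI := hM.1
  haveI := Groth.L20.ModStalk.finite_sections M hM hV
  have h : {r | s ∉ (Fitt.sheafIdeal M r).support} = Set.Ici (mu Γ(M, V) (hV.primeIdealOf ⟨s, hs⟩)) :=
    Set.ext fun r => (Groth.L15.FittSheaf.notMem_support_iff M hM.2 r (U := ⟨V, hV⟩) hs).trans
      (Groth.L13.Fitting.not_le_iff_finrank _ r)
  rw [rk, h, csInf_Ici]

include hM in
theorem notMem_support_iff_rk_le (r : ℕ) (s : S) : s ∉ (Fitt.sheafIdeal M r).support ↔ rk M s ≤ r := by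
  obtain ⟨_, ⟨V, hV, rfl⟩, hs, -⟩ :=
    S.isBasis_affineOpens.exists_subset_of_mem_open (Set.mem_univ s) isOpen_univ
  haveI := hM.1
  haveI := Groth.L20.ModStalk.finite_sections M hM hV
  rw [rk_eq_mu hM hV hs]
  exact (Groth.L15.FittSheaf.notMem_support_iff M hM.2 r (U := ⟨V, hV⟩) hs).trans
    (Groth.L13.Fitting.not_le_iff_finrank _ r)

include hM in
theorem isOpen_rk_le (r : ℕ) : IsOpen {s : S | rk M s ≤ r} := by
  have h : {s : S | rk M s ≤ r} = ((Fitt.sheafIdeal M r).support : Set S)ᶜ :=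
    Set.ext fun s => (notMem_support_iff_rk_le hM r s).symm
  rw [h]
  exact (Fitt.sheafIdeal M r).support.isClosed.isOpen_compl

section Chart

variable {T : Scheme.{u}} {v : T ⟶ S} {V : S.Opens} (hV : IsAffineOpen V) {W' : T.Opens}
  (hW' : IsAffineOpen W') (e : W' ≤ v ⁻¹ᵁ V)

include hM hV hW' in
theorem mu_pullback {t : T} (ht : t ∈ W') :
    letI := (v.appLE V W' e).hom.toAlgebra
    mu (Γ(T, W') ⊗[Γ(S, V)] Γ(M, V)) (hW'.primeIdealOf ⟨t, ht⟩) = rk M (v t) := by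
  letI := (v.appLE V W' e).hom.toAlgebra
  rw [mu_baseChange, rk_eq_mu hM hV (e ht)]
  exact congrArg (mu Γ(M, V)) (IsAffineOpen.comap_primeIdealOf_appLE V hV W' hW' e ht)

include hM hV hW' in
theorem forall_mu_iff (p : ℕ → Prop) :
    letI := (v.appLE V W' e).hom.toAlgebra
    (∀ q : PrimeSpectrum Γ(T, W'), p (mu (Γ(T, W') ⊗[Γ(S, V)] Γ(M, V)) q)) ↔ ∀ t ∈ W', p (rk M (v t)) := by
  letI := (v.appLE V W' e).hom.toAlgebra
  constructor
  · intro h t ht
    rw [← mu_pullback hM hV hW' e ht]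
    exact h _
  · intro h q
    obtain ⟨t, ht, rfl⟩ := Groth.L17.BC.Classes.exists_primeIdealOf hW' q
    rw [mu_pullback hM hV hW' e ht]
    exact h t ht

include hM hV hW' in
theorem ideal_comap_chart (k : ℕ) :
    letI := (v.appLE V W' e).hom.toAlgebra
    ((Fitt.sheafIdeal M k).comap v).ideal ⟨W', hW'⟩ =
      Fitt.ideal Γ(T, W') (Γ(T, W') ⊗[Γ(S, V)] Γ(M, V)) k := by
  letI := (v.appLE V W' e).hom.toAlgebra
  haveI := hM.1
  haveI := Groth.L20.ModStalk.finite_sections M hM hV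
  rw [Groth.L22.Ideals.comap_ideal v _ ⟨V, hV⟩ ⟨W', hW'⟩ e, Groth.L15.FittSheaf.sheafIdeal_ideal M hM.2,
    Groth.L13.Fitting.ideal_baseChange]
  rfl

variable [IsLocallyNoetherian T]

include hM hV hW' in
theorem chart_iff (r : ℕ) :
    letI := (v.appLE V W' e).hom.toAlgebra
    (Module.Flat Γ(T, W') (Γ(T, W') ⊗[Γ(S, V)] Γ(M, V)) ∧ ∀ t ∈ W', rk M (v t) = r) ↔
      ((∀ k, k < r → ((Fitt.sheafIdeal M k).comap v).ideal ⟨W', hW'⟩ = ⊥) ∧ ∀ t ∈ W', rk M (v t) ≤ r) := by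
  letI := (v.appLE V W' e).hom.toAlgebra
  haveI : IsNoetherianRing Γ(T, W') := IsLocallyNoetherian.component_noetherian ⟨W', hW'⟩
  haveI := Groth.L20.ModStalk.finite_sections M hM hV
  haveI : Module.FinitePresentation Γ(T, W') (Γ(T, W') ⊗[Γ(S, V)] Γ(M, V)) :=
    Module.finitePresentation_of_finite _ _
  simp only [ideal_comap_chart hM hV hW' e]
  constructor
  · rintro ⟨hfl, hr⟩
    haveI := hfl
    haveI : Module.Projective Γ(T, W') (Γ(T, W') ⊗[Γ(S, V)] Γ(M, V)) :=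
      Module.Flat.projective_of_finitePresentation
    refine ⟨((Groth.L13.Fitting.projective_rank_iff r).1 ⟨inferInstance, fun q => ?_⟩).1,
      fun t ht => (hr t ht).le⟩
    rw [← mu_eq_rankAtStalk]
    exact (forall_mu_iff hM hV hW' e (· = r)).2 hr q
  · rintro ⟨h0, hr⟩
    have htop : Fitt.ideal Γ(T, W') (Γ(T, W') ⊗[Γ(S, V)] Γ(M, V)) r = ⊤ :=
      Groth.L17.BC.SplitCoker.ideal_eq_top_of_mu_le ((forall_mu_iff hM hV hW' e (· ≤ r)).2 hr)
    obtain ⟨hP, hrk⟩ := (Groth.L13.Fitting.projective_rank_iff r).2 ⟨h0, htop⟩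
    haveI := hP
    haveI : Module.Flat Γ(T, W') (Γ(T, W') ⊗[Γ(S, V)] Γ(M, V)) := Module.Flat.of_projective
    refine ⟨inferInstance, (forall_mu_iff hM hV hW' e (· = r)).1 fun q => ?_⟩
    rw [mu_eq_rankAtStalk]
    exact hrk q

include hM hV hW' in
theorem rk_eventually_eq
    (hfl : letI := (v.appLE V W' e).hom.toAlgebra; Module.Flat Γ(T, W') (Γ(T, W') ⊗[Γ(S, V)] Γ(M, V)))
    {t : T} (ht : t ∈ W') : ∃ O : T.Opens, t ∈ O ∧ ∀ t' ∈ O, rk M (v t') = rk M (v t) := by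
  letI := (v.appLE V W' e).hom.toAlgebra
  haveI := hfl
  haveI : IsNoetherianRing Γ(T, W') := IsLocallyNoetherian.component_noetherian ⟨W', hW'⟩
  haveI := Groth.L20.ModStalk.finite_sections M hM hV
  haveI : Module.FinitePresentation Γ(T, W') (Γ(T, W') ⊗[Γ(S, V)] Γ(M, V)) :=
    Module.finitePresentation_of_finite _ _
  let O₀ : Set (PrimeSpectrum Γ(T, W')) := mu (Γ(T, W') ⊗[Γ(S, V)] Γ(M, V)) ⁻¹' {rk M (v t)}
  have hO₀ : IsOpen O₀ := isLocallyConstant_mu (Γ(T, W') ⊗[Γ(S, V)] Γ(M, V)) _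
  refine ⟨⟨hW'.fromSpec '' O₀, hW'.fromSpec.isOpenEmbedding.isOpenMap _ hO₀⟩,
    ⟨hW'.primeIdealOf ⟨t, ht⟩, mu_pullback hM hV hW' e ht, hW'.fromSpec_primeIdealOf _⟩, ?_⟩
  rintro _ ⟨q, hq, rfl⟩
  obtain ⟨t', ht', rfl⟩ := Groth.L17.BC.Classes.exists_primeIdealOf hW' q
  rw [hW'.fromSpec_primeIdealOf]
  exact (mu_pullback hM hV hW' e ht').symm.trans hq

end Chart

end Groth.L17.Strat
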