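import Groth.Agent.L17.Strat.GenBase
import Mathlib.Analysis.Polynomial.Basic

/-!
# Local Noetherian models for Hilbert functions of fibres
-/

set_option autoImplicit false
set_option linter.style.haveILetI false
set_option linter.unusedSectionVars false
set_option backward.isDefEq.respectTransparency false

universe u

open CategoryTheory CategoryTheory.Limits AlgebraicGeometry TopologicalSpace

noncomputable section

namespace Groth.L17.Strat

open Groth.L17.BC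
open Filter (atTop atBot Tendsto)

/-- A polynomial which is eventually nonnegative on multiples is eventually nonnegative. -/
theorem eventually_nonneg_of_mul (R : Polynomial ℚ) {d : ℕ} (hd : 0 < d) (N : ℕ)
    (h : ∀ q, N ≤ q → 0 ≤ R.eval ((d * q : ℕ) : ℚ)) : ∃ N', ∀ n : ℕ, N' ≤ n → 0 ≤ R.eval (n : ℚ) := by
  rcases le_or_gt R.degree 0 with hdeg | hdeg
  · refine ⟨0, fun n _ => ?_⟩
    have := h N le_rfl
    rw [Polynomial.eq_C_of_degree_le_zero hdeg, Polynomial.eval_C] at this ⊢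
    exact this
  rcases le_or_gt 0 R.leadingCoeff with hc | hc
  · have h1 : Tendsto (fun n : ℕ => R.eval (n : ℚ)) atTop atTop :=
      (R.tendsto_atTop_of_leadingCoeff_nonneg hdeg hc).comp tendsto_natCast_atTop_atTop
    exact Filter.eventually_atTop.1 (h1.eventually_ge_atTop 0)
  · exfalso
    have h1 : Tendsto (fun q : ℕ => R.eval ((d * q : ℕ) : ℚ)) atTop atBot :=
      (R.tendsto_atBot_of_leadingCoeff_nonpos hdeg hc.le).comp
        (tendsto_natCast_atTop_atTop.comp (Filter.tendsto_atTop_atTop.2 fun b => ⟨b, fun q hq =>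
          hq.trans (Nat.le_mul_of_pos_left q hd)⟩))
    obtain ⟨M, hM⟩ := Filter.eventually_atTop.1 (h1.eventually_le_atBot (-1))
    linarith [h (max M N) (le_max_right _ _), hM (max M N) (le_max_left _ _)]

section Noetherian

variable {X S : Scheme.{u}} (f : X ⟶ S) (L F : X.Modules) [IsProper f] [IsNoetherian S]
  (hL : PicF.IsInvertible L) (hF : Coh.IsCoh F) (hamp : RelAmple.IsRelAmple f L)

include hL hF hamp in
theorem finite_range_fib : (Set.range fun (s : S) (n : ℕ) => fib f L F s n).Finite := by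
  obtain ⟨N₀, hN₀⟩ := exists_fib_eq_rk_uniform f L F hL hF hamp
  obtain ⟨N, hN, hfin, -⟩ := exists_uniform f L F hL hF hamp N₀
  haveI : Finite (Set.range (seq f L F N)) := hfin
  choose rep hrep using fun σ : Set.range (seq f L F N) => σ.2
  refine (Set.finite_range fun σ : Set.range (seq f L F N) => fun n => fib f L F (rep σ) n).subset ?_
  rintro _ ⟨s, rfl⟩
  refine ⟨⟨_, s, rfl⟩, funext fun n => fib_eq_of_eventually f L F hL hF N (fun m hm => ?_) n⟩
  obtain ⟨j, rfl⟩ := Nat.exists_eq_add_of_le hm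
  rw [hN₀ _ (hN.trans hm), hN₀ _ (hN.trans hm)]
  exact congrArg Nat.cast (congrFun (hrep ⟨_, s, rfl⟩) j)

include hL hF hamp in
theorem isClosed_fib_ge (c : ℕ → ℚ) :
    IsClosed {s : S | ∃ N, ∀ q, N ≤ q → c q ≤ (fib f L F s q : ℚ)} := by
  obtain ⟨N₀, hN₀⟩ := exists_fib_eq_rk_uniform f L F hL hF hamp
  let cl : (ℕ → ℤ) → Set S := fun σ => {s | (fun n => fib f L F s n) = σ}
  have hset : {s : S | ∃ N, ∀ q, N ≤ q → c q ≤ (fib f L F s q : ℚ)} =
      ⋃ σ ∈ (Set.range fun (s : S) (n : ℕ) => fib f L F s n) ∩ {σ | ∃ N, ∀ q, N ≤ q → c q ≤ (σ q : ℚ)},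
        closure (cl σ) := by
    ext t
    constructor
    · intro ht
      exact Set.mem_biUnion (x := fun n => fib f L F t n) ⟨⟨t, rfl⟩, ht⟩ (subset_closure rfl)
    · intro ht
      obtain ⟨σ, ⟨-, N, hN⟩, ht⟩ := Set.mem_iUnion₂.1 ht
      refine ⟨max N N₀, fun q hq => (hN q ((le_max_left _ _).trans hq)).trans ?_⟩
      have hq₀ : N₀ ≤ q := (le_max_right _ _).trans hq
      by_contra hlt
      obtain ⟨y, hy, hy'⟩ := mem_closure_iff.1 ht {s : S | rk (Mn f L F q) s ≤ rk (Mn f L F q) t}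
        (isOpen_rk_le (isCoh_Mn f L F hL hF q) _) (le_refl (rk (Mn f L F q) t))
      replace hy : rk (Mn f L F q) y ≤ rk (Mn f L F q) t := hy
      have h1 : fib f L F y q = σ q := congrFun hy' q
      rw [← h1, hN₀ q hq₀, hN₀ q hq₀] at hlt
      exact hlt (by exact_mod_cast hy)
  rw [hset]
  exact ((finite_range_fib f L F hL hF hamp).inter_of_left _).isClosed_biUnion fun σ _ => isClosed_closure

end Noetherian

variable {X S : Scheme.{u}} (f : X ⟶ S) (L F : X.Modules) [IsProper f]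

theorem fib_eq_of_mul (hL : PicF.IsInvertible L) (hfp : CohB1.IsFP F) {d : ℕ} (hd : 0 < d) {s s' : S}
    (h : ∀ q, fib f L F s (d * q) = fib f L F s' (d * q)) (n : ℕ) : fib f L F s n = fib f L F s' n := by
  obtain ⟨P, hP⟩ := exists_fib_poly' f L F hL hfp s
  obtain ⟨Q, hQ⟩ := exists_fib_poly' f L F hL hfp s'
  have : P = Q := Polynomial.eq_of_infinite_eval_eq P Q <| ((Set.infinite_range_of_injective (f := fun q : ℕ => ((d * q : ℕ) : ℚ))
    fun a b hab => mul_left_cancel₀ hd.ne' (Nat.cast_injective hab)).mono (by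
      rintro _ ⟨q, rfl⟩
      show P.eval _ = Q.eval _
      rw [← hP, ← hQ, h q]))
  exact Int.cast_injective (α := ℚ) (by rw [hP, hQ, this])

variable [LocallyOfFinitePresentation f]

/-- Noetherian models over an affine open of the base, with uniform power. -/
theorem exists_local_models (hamp : RelAmple.IsRelAmple f L) {V : S.Opens} (hV : IsAffineOpen V) :
    ∃ (d : ℕ), 0 < d ∧ ∀ F : X.Modules, CohB1.IsFP F →
      ∃ (S₂ X₂ : Scheme.{u}) (_ : IsNoetherian S₂) (f₂ : X₂ ⟶ S₂) (_ : IsProper f₂)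
      (L₂ F₂ : X₂.Modules) (φ : Spec Γ(S, V) ⟶ S₂) (g : ↑(f ⁻¹ᵁ V) ⟶ X₂),
      RelAmple.IsRelAmple f₂ L₂ ∧ Coh.IsCoh F₂ ∧ IsAffineHom φ ∧ IsPullback g (fV f hV) f₂ φ ∧
        Nonempty ((Scheme.Modules.pullback g).obj F₂ ≅ FV f (V := V) F) ∧
        Nonempty ((Scheme.Modules.pullback g).obj L₂ ≅ CohB1.tensorPow (L.restrict (f ⁻¹ᵁ V).ι) d) ∧
        IsAffine S₂ ∧ ∀ x q, fib f₂ L₂ F₂ (φ x) q = fib f L F (hV.fromSpec x) (d * q) := by
  haveI : LocallyOfFinitePresentation (fV f hV) :=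
    MorphismProperty.of_isPullback (Groth.L17.BC.Classes.isPullback_ι_fV f hV) ‹_›
  obtain ⟨d, hd, hmodel⟩ := exists_ample_model (A := Γ(S, V)) (fV f hV) (hamp.2 ⟨V, hV⟩)
  refine ⟨d, hd, fun F hfp => ?_⟩
  haveI := isQCoh_of_isFP F hfp
  haveI : Coh.IsQCoh (FV f (V := V) F) := Scheme.Modules.isQuasicoherent_restrictFunctor _ F
  have hfp' : CohB1.IsFP (FV f (V := V) F) := Groth.L17.Approx.isFP_restrict _ F hfp
  obtain ⟨A₂, hA₂, X₂, f₂, g, L₂, F₂, hf₂, hamp₂, hF₂, sq, ⟨eL⟩, ⟨eF⟩⟩ := hmodel (FV f (V := V) F) hfp'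
  haveI := hf₂
  haveI := hA₂
  haveI : IsLocallyNoetherian X₂ := LocallyOfFiniteType.isLocallyNoetherian f₂
  haveI : IsProper (fV f hV) := inferInstance
  refine ⟨Spec (CommRingCat.of ↥A₂), X₂, inferInstance, f₂, hf₂, L₂, F₂, _, g, hamp₂, hF₂, inferInstance, sq,
    ⟨eF⟩, ⟨eL⟩, inferInstance, fun x q => ?_⟩
  rw [← fib_baseChange f₂ L₂ F₂ (isInvertible_of_isRelAmple hamp₂) (fun s => Groth.L16.AffineBC.isCoh_pullback _ hF₂)
      sq _ _ eL eF x q, fib_pow,
    fib_baseChange f L F (isInvertible_of_isRelAmple hamp) (isCoh_fibre f F hfp)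
      (Groth.L17.BC.Classes.isPullback_ι_fV f hV) _ _
      ((Scheme.Modules.restrictFunctorIsoPullback (f ⁻¹ᵁ V).ι).app L).symm
      ((Scheme.Modules.restrictFunctorIsoPullback (f ⁻¹ᵁ V).ι).app F).symm x (d * q)]

/-- A Noetherian model over an affine open of the base. -/
theorem exists_local_model (hamp : RelAmple.IsRelAmple f L) (hfp : CohB1.IsFP F) {V : S.Opens} (hV : IsAffineOpen V) :
    ∃ (d : ℕ) (_ : 0 < d) (S₂ X₂ : Scheme.{u}) (_ : IsNoetherian S₂) (f₂ : X₂ ⟶ S₂) (_ : IsProper f₂)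
      (L₂ F₂ : X₂.Modules) (φ : Spec Γ(S, V) ⟶ S₂) (g : ↑(f ⁻¹ᵁ V) ⟶ X₂),
      RelAmple.IsRelAmple f₂ L₂ ∧ Coh.IsCoh F₂ ∧ IsAffineHom φ ∧ IsPullback g (fV f hV) f₂ φ ∧
        Nonempty ((Scheme.Modules.pullback g).obj F₂ ≅ FV f (V := V) F) ∧
        ∀ x q, fib f₂ L₂ F₂ (φ x) q = fib f L F (hV.fromSpec x) (d * q) := by
  obtain ⟨d, hd, h⟩ := exists_local_models f L hamp hV
  obtain ⟨S₂, X₂, i, f₂, hf₂, L₂, F₂, φ, g, a, b, c, sq, eF, -, -, hfib⟩ := h F hfp
  exact ⟨d, hd, S₂, X₂, i, f₂, hf₂, L₂, F₂, φ, g, a, b, c, sq, eF, hfib⟩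

end Groth.L17.Strat
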