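import Groth.Agent.L17.Strat.FlatAny
import Groth.Agent.L17.Strat.LocalModel
import Groth.Agent.L17.Strat.Euler
import Groth.Agent.L17.BC.GenApply
import Groth.Agent.L17.BC.Bc0
import Groth.Agent.L22.Inter.FlatTwist

/-!
# Flatness and local freeness of the direct images of large twists, over a quasi-compact base
-/

set_option autoImplicit false
set_option linter.style.haveILetI false
set_option linter.unusedSectionVars false
set_option backward.isDefEq.respectTransparency false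

universe u

open CategoryTheory CategoryTheory.Limits AlgebraicGeometry TopologicalSpace

noncomputable section

namespace Groth.L17.Strat

open Groth.L17.BC
open Groth.L00.Tensor (tensorIso tensorRestrict tensorPowRestrict tensorPowMul tensorPowIso tensorAssoc tensorPowAdd tensorComm)
open Groth.L18.Ample (isInvertible_tensorPow pullPow)

variable {X S : Scheme.{u}} (f : X ⟶ S) [IsProper f] [LocallyOfFinitePresentation f] (L F : X.Modules)

/-- Large twists have no higher cohomology on the fibres over an affine open. -/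
theorem exists_fibre_vanishing_chart (hamp : RelAmple.IsRelAmple f L) (hfp : CohB1.IsFP F) {V : S.Opens}
    (hV : IsAffineOpen V) :
    ∃ N : ℕ, ∀ n, N ≤ n → ∀ s ∈ V, ∀ i : ℕ, 0 < i →
      Subsingleton (Coh.HH (f.fiber s)
        ((Scheme.Modules.pullback (f.fiberι s)).obj (CohB1.tensorMod F (CohB1.tensorPow L n))) i) := by
  have hL := isInvertible_of_isRelAmple hamp
  obtain ⟨d, hd, hmodel⟩ := exists_local_models f L hamp hV
  have hj : ∀ j : Fin d, ∃ N : ℕ, ∀ q, N ≤ q → ∀ s ∈ V, ∀ i : ℕ, 0 < i →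
      Subsingleton (Coh.HH (f.fiber s)
        ((Scheme.Modules.pullback (f.fiberι s)).obj (CohB1.tensorMod F (CohB1.tensorPow L (d * q + j)))) i) := by
    intro j
    obtain ⟨S₂, X₂, hN₂, f₂, hf₂, L₂, F₂, φ, g, hamp₂, hF₂, -, sq, ⟨eF⟩, ⟨eL⟩, haff, -⟩ :=
      hmodel _ (Groth.L22.Inter.FlatTwist.isFP_tensor hfp (isInvertible_tensorPow hL j))
    haveI := hN₂; haveI := hf₂; haveI := haff
    obtain ⟨N, hN⟩ := exists_fibre_euler f₂ (isInvertible_of_isRelAmple hamp₂) hF₂ hamp₂
      (isAffineOpen_top S₂)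
    refine ⟨N, fun q hq s hs i hi => ?_⟩
    obtain ⟨x, hx⟩ : s ∈ Set.range hV.fromSpec := hV.range_fromSpec.ge hs
    subst hx
    let s := hV.fromSpec x
    let κ : Type u := S.residueField s
    let fk := f.fiberToSpecResidueField s
    letI : (f.fiber s).Over (Spec (CommRingCat.of κ)) := ⟨fk⟩
    let ev : Spec (CommRingCat.of κ) ⟶ Spec Γ(S, V) := Spec.map (S.evaluation V s hs)
    have hev : ev ≫ hV.fromSpec = S.fromSpecResidueField s := by
      show Spec.map (S.presheaf.germ V s hs ≫ S.residue s) ≫ hV.fromSpec = _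
      rw [Spec.map_comp, Category.assoc]
      show _ ≫ hV.fromSpecStalk hs = _
      rw [hV.fromSpecStalk_eq_fromSpecStalk]
      rfl
    let ψ : Spec (CommRingCat.of κ) ⟶ S₂ := ev ≫ φ
    letI : Algebra Γ(S₂, (⊤ : S₂.Opens)) κ := (ψ.appTop ≫ (Scheme.ΓSpecIso (CommRingCat.of κ)).hom).hom.toAlgebra
    have hψ : Spec.map (CommRingCat.ofHom (algebraMap Γ(S₂, (⊤ : S₂.Opens)) κ)) ≫ (isAffineOpen_top S₂).fromSpec
        = ψ := by
      rw [IsAffineOpen.fromSpec_top, Iso.comp_inv_eq, ← Scheme.isoSpec_hom_naturality, Scheme.isoSpec_Spec_hom,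
        ← Spec.map_comp]
      rfl
    have zpb := Groth.L17.BC.Classes.isPullback_ι_fV f hV
    let w : f.fiber s ⟶ ↑(f ⁻¹ᵁ V) := zpb.lift (f.fiberι s) (fk ≫ ev) (by
      rw [Category.assoc, hev]; exact f.fiber_fac s)
    have hw : w ≫ (f ⁻¹ᵁ V).ι = f.fiberι s := zpb.lift_fst _ _ _
    have pb : IsPullback (f.fiberι s) fk f (ev ≫ hV.fromSpec) := by
      rw [hev]; exact IsPullback.of_hasPullback f (S.fromSpecResidueField s)
    have sq₁ : IsPullback w fk (fV f hV) ev :=
      IsPullback.of_right (by rw [hw]; exact pb) (zpb.lift_snd _ _ _) zpb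
    have sq₂ : IsPullback (w ≫ g) fk f₂ (Spec.map (CommRingCat.ofHom (algebraMap Γ(S₂, (⊤ : S₂.Opens)) κ)) ≫
        (isAffineOpen_top S₂).fromSpec) := by
      rw [hψ]; exact sq₁.paste_horiz sq
    refine Groth.L16.ProjSpace.subsingleton_of_iso ?_ i ((hN q hq κ (w ≫ g) sq₂).1 i hi)
    let j' := (f ⁻¹ᵁ V).ι
    let α : CohB1.tensorMod F (CohB1.tensorPow L (d * q + (j : ℕ))) ≅
        CohB1.tensorMod (CohB1.tensorMod F (CohB1.tensorPow L (j : ℕ))) (CohB1.tensorPow L (d * q)) :=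
      tensorIso (Iso.refl _) (eqToIso (by rw [Nat.add_comm]) ≪≫ (tensorPowAdd L (j : ℕ) (d * q)).symm) ≪≫
        (tensorAssoc F _ _).symm
    let β : (Scheme.Modules.pullback g).obj (CohB1.tensorMod F₂ (CohB1.tensorPow L₂ q)) ≅
        (CohB1.tensorMod (CohB1.tensorMod F (CohB1.tensorPow L (j : ℕ))) (CohB1.tensorPow L (d * q))).restrict j' :=
      (Groth.L29.DC.PullTensor.pullTensor g _ _).symm ≪≫
        tensorIso eF (pullPow g L₂ q ≪≫ tensorPowIso eL q ≪≫ tensorPowMul _ d q ≪≫ tensorPowRestrict _ L (d * q)) ≪≫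
        tensorRestrict j' _ _
    exact ((Scheme.Modules.pullbackCongr hw.symm).app _ ≪≫ ((Scheme.Modules.pullbackComp w j').app _).symm ≪≫
      (Scheme.Modules.pullback w).mapIso (((Scheme.Modules.restrictFunctorIsoPullback j').app _).symm ≪≫
        (Scheme.Modules.restrictFunctor j').mapIso α ≪≫ β.symm) ≪≫
      (Scheme.Modules.pullbackComp w g).app _)
  choose N hN using hj
  obtain ⟨M, hM⟩ := (Set.finite_range N).bddAbove
  refine ⟨d * M + d, fun n hn s hs i hi => ?_⟩
  have h := hN ⟨n % d, Nat.mod_lt _ hd⟩ (n / d) ((hM ⟨_, rfl⟩).trans ((Nat.le_div_iff_mul_le hd).2 (by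
    rw [Nat.mul_comm]; omega))) s hs i hi
  rwa [Nat.div_add_mod] at h

/-- Large twists have no higher cohomology on the fibres. -/
theorem exists_fibre_vanishing [CompactSpace S] (hamp : RelAmple.IsRelAmple f L) (hfp : CohB1.IsFP F) :
    ∃ N : ℕ, ∀ n, N ≤ n → ∀ (s : S) (i : ℕ), 0 < i →
      Subsingleton (Coh.HH (f.fiber s)
        ((Scheme.Modules.pullback (f.fiberι s)).obj (CohB1.tensorMod F (CohB1.tensorPow L n))) i) := by
  choose W hW hxW using fun y : S => show ∃ W : S.Opens, IsAffineOpen W ∧ y ∈ W by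
    obtain ⟨_, ⟨W, hW, rfl⟩, hxW, -⟩ := S.isBasis_affineOpens.exists_subset_of_mem_open (Set.mem_univ y) isOpen_univ
    exact ⟨W, hW, hxW⟩
  obtain ⟨T, hT⟩ := isCompact_univ.elim_finite_subcover (fun y : S => (W y : Set S)) (fun y => (W y).2)
    (fun y _ => Set.mem_iUnion.2 ⟨y, hxW y⟩)
  choose N hN using fun t : T => exists_fibre_vanishing_chart f L F hamp hfp (hW t.1)
  obtain ⟨M, hM⟩ := (Set.finite_range N).bddAbove
  refine ⟨M, fun n hn s => ?_⟩
  obtain ⟨t, ht, hst⟩ := Set.mem_iUnion₂.1 (hT (Set.mem_univ s))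
  exact hN ⟨t, ht⟩ n ((hM ⟨⟨t, ht⟩, rfl⟩).trans hn) s hst

/-- Direct images of large twists of a flat module are locally free. -/
theorem exists_locFree_twists [CompactSpace S] (hamp : RelAmple.IsRelAmple f L) (hfp : CohB1.IsFP F)
    (hfl : FlatMod.IsFlatOver f F) :
    ∃ N : ℕ, ∀ n, N ≤ n → FlatMod.IsFinLocFree ((Coh.push f).obj (CohB1.tensorMod F (CohB1.tensorPow L n))) := by
  have hL := isInvertible_of_isRelAmple hamp
  haveI := isQCoh_of_isFP F hfp
  haveI := PushQCoh.hasInjectiveResolutions X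
  obtain ⟨N, hN⟩ := exists_fibre_vanishing f L F hamp hfp
  refine ⟨N, fun n hn y => ?_⟩
  haveI := isQCoh_twist F L hL n
  obtain ⟨U, hyU, ⟨e⟩⟩ := exists_free_of_vanishing f (CohB1.tensorMod F (CohB1.tensorPow L n))
    (Groth.L22.Inter.FlatTwist.isFP_tensor hfp (isInvertible_tensorPow hL n))
    (Groth.L22.Inter.FlatTwist.isFlatOver_tensor f hfl (isInvertible_tensorPow hL n)) y 0
    (fun q hq => absurd hq (Nat.succ_ne_zero q)) (hN n hn y 1 Nat.one_pos)
  obtain ⟨e₀⟩ := Groth.L17.BC.Classes.nonempty_Rpush_zero_iso f (CohB1.tensorMod F (CohB1.tensorPow L n))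
  exact ⟨U, _, hyU, ⟨(Scheme.Modules.restrictFunctor U.ι).mapIso e₀.symm ≪≫ e⟩⟩

end Groth.L17.Strat
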