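import Groth.Agent.L01.FlatCx.Seq
import Mathlib.RingTheory.Flat.Equalizer
import Mathlib.RingTheory.Flat.Stability
import Mathlib.LinearAlgebra.TensorProduct.Quotient
import Mathlib.LinearAlgebra.TensorProduct.Tower
import Mathlib.RingTheory.Nakayama
import Mathlib.RingTheory.Ideal.Maximal

/-!
# Kernels and base change
-/

set_option autoImplicit false
set_option linter.style.haveILetI false

universe u

open scoped TensorProduct

noncomputable section

namespace Groth.L17.Strat

variable {A : Type u} [CommRing A] {P Q : Type u} [AddCommGroup P] [Module A P] [AddCommGroup Q] [Module A Q]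
  (d : P →ₗ[A] Q) (B : Type u) [CommRing B] [Algebra A B]

/-- The base change of the kernel maps to the kernel of the base change. -/
def theta : B ⊗[A] LinearMap.ker d →ₗ[B] LinearMap.ker (d.baseChange B) :=
  ((LinearMap.ker d).subtype.baseChange B).codRestrict _ fun z => by
    rw [LinearMap.mem_ker, ← LinearMap.comp_apply, ← LinearMap.baseChange_comp,
      show d ∘ₗ (LinearMap.ker d).subtype = 0 from LinearMap.ext fun x => x.2, LinearMap.baseChange_zero,
      LinearMap.zero_apply]

theorem theta_coe (z : B ⊗[A] LinearMap.ker d) :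
    (theta d B z : B ⊗[A] P) = (LinearMap.ker d).subtype.baseChange B z := rfl

/-- The kernel commutes with the base change. -/
def Good : Prop := Function.Bijective (theta d B)

theorem exact_subtype_baseChange (h : Good d B) :
    Function.Exact ((LinearMap.ker d).subtype.baseChange B) (d.baseChange B) := fun x =>
  ⟨fun hx => (h.2 ⟨x, hx⟩).imp fun _ hy => congrArg Subtype.val hy, fun ⟨y, hy⟩ => hy ▸ (theta d B y).2⟩

theorem good_of_injective_of_exact (hinj : Function.Injective ((LinearMap.ker d).subtype.baseChange B))
    (hex : ∀ x, d.baseChange B x = 0 → ∃ y, (LinearMap.ker d).subtype.baseChange B y = x) : Good d B :=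
  ⟨fun a b h => hinj (congrArg Subtype.val h), fun x => (hex x.1 x.2).imp fun _ hy => Subtype.ext hy⟩

/-- A flat algebra. -/
theorem good_of_flat [Module.Flat A B] : Good d B := by
  refine good_of_injective_of_exact d B ?_ fun x hx => ?_
  · rw [LinearMap.baseChange_eq_ltensor]
    exact Module.Flat.lTensor_preserves_injective_linearMap _ Subtype.val_injective
  · exact (Module.Flat.lTensor_exact B (LinearMap.exact_subtype_ker_map d) x).1 hx

/-- Flat cokernel: the kernel commutes with every base change. -/
theorem good_of_flat_coker [Module.Flat A Q] [Module.Flat A (Q ⧸ LinearMap.range d)] : Good d B := by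
  haveI : Module.Flat A (LinearMap.range d) :=
    Groth.L01.FlatCx.flat_left (f := (LinearMap.range d).subtype) (g := (LinearMap.range d).mkQ)
      Subtype.val_injective (Submodule.mkQ_surjective _) (LinearMap.exact_subtype_mkQ _)
  have hker : LinearMap.ker d.rangeRestrict = LinearMap.ker d := LinearMap.ker_rangeRestrict d
  have hex₁ : Function.Exact (LinearMap.ker d).subtype d.rangeRestrict :=
    LinearMap.exact_iff.mpr (hker.trans (Submodule.range_subtype _).symm)
  refine good_of_injective_of_exact d B ?_ fun x hx => ?_
  · rw [LinearMap.baseChange_eq_ltensor]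
    exact LinearMap.lTensor_injective_of_exact_of_flat d.rangeRestrict d.surjective_rangeRestrict _
      Subtype.val_injective hex₁ B
  · have hi : Function.Injective ((LinearMap.range d).subtype.lTensor B) :=
      LinearMap.lTensor_injective_of_exact_of_flat (LinearMap.range d).mkQ (Submodule.mkQ_surjective _)
        _ Subtype.val_injective (LinearMap.exact_subtype_mkQ _) B
    refine (lTensor_exact B hex₁ d.surjective_rangeRestrict x).1 (hi ?_)
    rw [map_zero, ← LinearMap.comp_apply, ← LinearMap.lTensor_comp]
    exact hx

/-- The quotient by an ideal, elementwise. -/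
theorem good_quotient (J : Ideal A)
    (hS : ∀ x : P, d x ∈ J • (⊤ : Submodule A Q) → ∃ z : P, d z = 0 ∧ x - z ∈ J • (⊤ : Submodule A P))
    (hI : ∀ z : LinearMap.ker d, (z : P) ∈ J • (⊤ : Submodule A P) → z ∈ J • (⊤ : Submodule A (LinearMap.ker d))) :
    Good d (A ⧸ J) := by
  have hmk : ∀ {M : Type u} [AddCommGroup M] [Module A M] (w : (A ⧸ J) ⊗[A] M), ∃ m : M, w = 1 ⊗ₜ m := by
    intro M _ _ w
    obtain ⟨m, hm⟩ := Submodule.Quotient.mk_surjective _ (TensorProduct.quotTensorEquivQuotSMul M J w)
    refine ⟨m, (TensorProduct.quotTensorEquivQuotSMul M J).injective (hm.symm.trans ?_)⟩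
    exact (congrArg Submodule.Quotient.mk (one_smul A m).symm).trans
      (TensorProduct.quotTensorEquivQuotSMul_mk_tmul J 1 m).symm
  have hzero : ∀ {M : Type u} [AddCommGroup M] [Module A M] (m : M),
      (1 : A ⧸ J) ⊗ₜ[A] m = 0 ↔ m ∈ J • (⊤ : Submodule A M) := by
    intro M _ _ m
    rw [← (TensorProduct.quotTensorEquivQuotSMul M J).map_eq_zero_iff, ← Submodule.Quotient.mk_eq_zero]
    rw [show TensorProduct.quotTensorEquivQuotSMul M J (1 ⊗ₜ m) = Submodule.Quotient.mk m from
      (TensorProduct.quotTensorEquivQuotSMul_mk_tmul J 1 m).trans (by rw [one_smul])]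
  refine good_of_injective_of_exact d _ ((injective_iff_map_eq_zero _).2 fun w hw => ?_) fun w hw => ?_
  · obtain ⟨z, rfl⟩ := hmk w
    rw [LinearMap.baseChange_tmul] at hw
    exact (hzero z).2 (hI z ((hzero _).1 hw))
  · obtain ⟨x, rfl⟩ := hmk w
    rw [LinearMap.baseChange_tmul] at hw
    obtain ⟨z, hz, hxz⟩ := hS x ((hzero _).1 hw)
    refine ⟨1 ⊗ₜ (⟨z, hz⟩ : LinearMap.ker d), ?_⟩
    rw [LinearMap.baseChange_tmul]
    exact (sub_eq_zero.1 ((TensorProduct.tmul_sub _ _ _).symm.trans ((hzero _).2 hxz))).symm

section Tower

variable (C : Type u) [CommRing C] [Algebra A C] [Algebra B C] [IsScalarTower A B C]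

/-- The cancellation isomorphism. -/
abbrev cc (M : Type u) [AddCommGroup M] [Module A M] : C ⊗[B] (B ⊗[A] M) ≃ₗ[C] C ⊗[A] M :=
  TensorProduct.AlgebraTensorModule.cancelBaseChange A B C C M

theorem cc_natural {M N : Type u} [AddCommGroup M] [Module A M] [AddCommGroup N] [Module A N] (f : M →ₗ[A] N)
    (z : C ⊗[B] (B ⊗[A] M)) :
    cc B C N ((f.baseChange B).baseChange C z) = f.baseChange C (cc B C M z) := by
  induction z using TensorProduct.induction_on with
  | zero => simp only [map_zero]
  | add a b ha hb => simp only [map_add, ha, hb]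
  | tmul c w =>
    induction w using TensorProduct.induction_on with
    | zero => simp only [TensorProduct.tmul_zero, map_zero]
    | add a b ha hb => simp only [TensorProduct.tmul_add, map_add, ha, hb]
    | tmul b m => simp [LinearMap.baseChange_tmul]

/-- The kernels upstairs. -/
def ccKer : LinearMap.ker ((d.baseChange B).baseChange C) ≃ₗ[C] LinearMap.ker (d.baseChange C) :=
  (cc B C P).ofSubmodules _ _ (by
    ext x
    obtain ⟨z, rfl⟩ := (cc B C P).surjective x
    rw [Submodule.mem_map_equiv, LinearEquiv.symm_apply_apply, LinearMap.mem_ker, LinearMap.mem_ker,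
      ← cc_natural, LinearEquiv.map_eq_zero_iff])

theorem ccKer_coe (x : LinearMap.ker ((d.baseChange B).baseChange C)) :
    (ccKer d B C x : C ⊗[A] P) = cc B C P x.1 := rfl

theorem theta_tower (w : C ⊗[B] (B ⊗[A] LinearMap.ker d)) :
    theta d C (cc B C _ w) = ccKer d B C (theta (d.baseChange B) C ((theta d B).baseChange C w)) := by
  refine Subtype.ext ?_
  rw [theta_coe, ← cc_natural, ccKer_coe, theta_coe, ← LinearMap.comp_apply _ ((theta d B).baseChange C),
    ← LinearMap.baseChange_comp]
  rfl

theorem good_trans (h₁ : Good d B) (h₂ : Good (d.baseChange B) C) : Good d C := by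
  have h₁' : Function.Bijective ((theta d B).baseChange C) :=
    (LinearEquiv.baseChange B C _ _ (LinearEquiv.ofBijective _ h₁)).bijective
  have h : Function.Bijective fun w => theta d C (cc B C (LinearMap.ker d) w) := by
    simp only [theta_tower]
    exact (ccKer d B C).bijective.comp (h₂.comp h₁')
  exact (Function.Bijective.of_comp_iff (theta d C) (cc B C _).bijective).1 h

theorem bijective_baseChange_theta (h : Good d C) (h₂ : Good (d.baseChange B) C) :
    Function.Bijective ((theta d B).baseChange C) := by
  have h' : Function.Bijective fun w => ccKer d B C (theta (d.baseChange B) C ((theta d B).baseChange C w)) := by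
    simp only [← theta_tower]
    exact h.comp (cc B C _).bijective
  exact (Function.Bijective.of_comp_iff' ((ccKer d B C).bijective.comp h₂) _).1 h'

end Tower

section Congr

variable {P' Q' : Type u} [AddCommGroup P'] [Module A P'] [AddCommGroup Q'] [Module A Q'] {d} {d' : P' →ₗ[A] Q'}
  (eP : P ≃ₗ[A] P') (eQ : Q ≃ₗ[A] Q') (hd : ∀ x, d' (eP x) = eQ (d x))

include hd in
theorem map_ker : (LinearMap.ker d).map eP.toLinearMap = LinearMap.ker d' := by
  ext x
  obtain ⟨z, rfl⟩ := eP.surjective x
  rw [Submodule.mem_map_equiv, LinearEquiv.symm_apply_apply, LinearMap.mem_ker, LinearMap.mem_ker, hd,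
    LinearEquiv.map_eq_zero_iff]

include hd in
theorem good_congr (h : Good d B) : Good d' B := by
  let eZ : LinearMap.ker d ≃ₗ[A] LinearMap.ker d' := eP.ofSubmodules _ _ (map_ker eP eQ hd)
  have hd' : ∀ x, d'.baseChange B (LinearEquiv.baseChange A B _ _ eP x) =
      LinearEquiv.baseChange A B _ _ eQ (d.baseChange B x) := fun x => by
    induction x using TensorProduct.induction_on with
    | zero => simp only [map_zero]
    | add a b ha hb => simp only [map_add, ha, hb]
    | tmul b m => simp [hd]
  let eZB : LinearMap.ker (d.baseChange B) ≃ₗ[B] LinearMap.ker (d'.baseChange B) :=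
    (LinearEquiv.baseChange A B _ _ eP).ofSubmodules _ _ (map_ker (A := B) _ _ hd')
  have key : ∀ w, theta d' B (LinearEquiv.baseChange A B _ _ eZ w) = eZB (theta d B w) := fun w => by
    induction w using TensorProduct.induction_on with
    | zero => simp only [map_zero]
    | add a b ha hb => simp only [map_add, ha, hb]
    | tmul b m => exact Subtype.ext rfl
  have h' : Function.Bijective fun w => theta d' B (LinearEquiv.baseChange A B _ _ eZ w) := by
    simp only [key]
    exact eZB.bijective.comp h
  exact (Function.Bijective.of_comp_iff (theta d' B) (LinearEquiv.baseChange A B _ _ eZ).bijective).1 h'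

end Congr

/-- A finite module equal to all its multiples by maximal ideals vanishes. -/
theorem subsingleton_of_le_smul {R M : Type u} [CommRing R] [AddCommGroup M] [Module R M] [Module.Finite R M]
    (h : ∀ m : Ideal R, m.IsMaximal → (⊤ : Submodule R M) ≤ m • ⊤) : Subsingleton M := by
  suffices (Module.annihilator R M) = ⊤ by
    rwa [Module.annihilator_eq_top_iff] at this
  by_contra hne
  obtain ⟨m, hm, hle⟩ := Ideal.exists_le_maximal _ hne
  obtain ⟨r, hr, hr0⟩ := Submodule.exists_sub_one_mem_and_smul_eq_zero_of_fg_of_le_smul m ⊤ Module.Finite.fg_top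
    (h m hm)
  have hrm : r ∈ m := hle (Module.mem_annihilator.2 fun x => hr0 x trivial)
  exact hm.ne_top ((Ideal.eq_top_iff_one _).2 (by simpa using m.sub_mem hrm hr))

end Groth.L17.Strat
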