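import Groth.Agent.L17.Strat.Univ

/-!
# Base changed complexes: kernels and exactness
-/

set_option autoImplicit false
set_option linter.style.haveILetI false
set_option backward.isDefEq.respectTransparency false

universe u

open CategoryTheory CategoryTheory.Limits MonoidalCategory
open scoped TensorProduct

noncomputable section

namespace Groth.L17.Strat

open Groth.L01.FlatCx (dd bc bcE bcE_dd)

variable {A : Type u} [CommRing A] (P : CochainComplex (ModuleCat.{u} A) ℤ)
  (B : Type u) [CommRing B] [Algebra A B]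

theorem good_bc_iff (i j : ℤ) (C : Type u) [CommRing C] [Algebra B C] :
    Good (dd (bc B P) i j) C ↔ Good ((dd P i j).baseChange B) C :=
  ⟨good_congr C (bcE B (P.X i)) (bcE B (P.X j)) fun x => (bcE_dd B P i j x).symm,
    good_congr C (bcE B (P.X i)).symm (bcE B (P.X j)).symm fun x => (bcE B (P.X j)).injective
      ((bcE_dd B P i j _).trans ((congrArg _ ((bcE B (P.X i)).apply_symm_apply x)).trans
        ((bcE B (P.X j)).apply_symm_apply _).symm))⟩

theorem ex_bc_iff (C : Type u) [CommRing C] [Algebra A C] [Algebra B C] [IsScalarTower A B C] (i : ℤ) :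
    Ex (bc B P) C i ↔ Ex P C i := by
  let e : ∀ j : ℤ, C ⊗[B] ((bc B P).X j : Type u) ≃ₗ[C] C ⊗[A] (P.X j : Type u) := fun j =>
    (LinearEquiv.baseChange B C _ _ (bcE B (P.X j))).trans (cc B C (P.X j))
  have key : ∀ a b z, (dd P a b).baseChange C (e a z) = e b ((dd (bc B P) a b).baseChange C z) := fun a b z => by
    induction z using TensorProduct.induction_on with
    | zero => simp only [map_zero]
    | add x y hx hy => simp only [map_add, hx, hy]
    | tmul c x =>
      simp only [e, LinearEquiv.trans_apply]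
      rw [← cc_natural, LinearMap.baseChange_tmul]
      refine congrArg (cc B C (P.X b)) ?_
      show ((dd P a b).baseChange B).baseChange C (c ⊗ₜ[B] bcE B (P.X a) x) = c ⊗ₜ[B] bcE B (P.X b) (dd (bc B P) a b x)
      rw [LinearMap.baseChange_tmul, bcE_dd]
  exact (Function.Exact.iff_of_ladder_linearEquiv (e₁ := e (i - 1)) (e₂ := e i) (e₃ := e (i + 1))
    (LinearMap.ext (key _ _)) (LinearMap.ext (key _ _))).symm

variable {P} {P' : CochainComplex (ModuleCat.{u} A) ℤ}

theorem flat_X_of_iso (e : P ≅ P') (i : ℤ) (h : Module.Flat A (P'.X i)) : Module.Flat A (P.X i) :=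
  haveI := h
  let e' : (P.X i : Type u) ≃ₗ[A] (P'.X i : Type u) := ((HomologicalComplex.eval _ _ i).mapIso e).toLinearEquiv
  Module.Flat.of_linearEquiv e'

theorem isZero_T_of_iso (e : P ≅ P') (i : ℤ) (M : ModuleCat.{u} A) (h : IsZero (CohIII.T P' i M)) :
    IsZero (CohIII.T P i M) :=
  h.of_iso ((HomologicalComplex.homologyFunctor _ _ i).mapIso
    (((tensorRight M).mapHomologicalComplex _).mapIso e))

theorem homologyEquiv_of_iso (e : P ≅ P') (i : ℤ) : Nonempty ((P.homology i : Type u) ≃ₗ[A] (P'.homology i : Type u)) :=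
  ⟨((HomologicalComplex.homologyFunctor _ _ i).mapIso e).toLinearEquiv⟩

end Groth.L17.Strat
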