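import Groth.Agent.L17.BC.FlatTwist
import Mathlib.RingTheory.TensorProduct.DirectLimitFG
import Mathlib.RingTheory.Flat.Basic
import Mathlib.RingTheory.Flat.Stability

/-!
# Flatness after base change from the sections of large twists
-/

set_option autoImplicit false
set_option linter.style.haveILetI false
set_option backward.isDefEq.respectTransparency false

universe u

open CategoryTheory AlgebraicGeometry TopologicalSpace Opposite
open scoped TensorProduct

noncomputable section

namespace Groth.L17.Strat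

section Sys

variable {A : Type u} [CommRing A] {N : Type u} [AddCommGroup N] [Module A N] {M : ℕ → Type u}
  [∀ k, AddCommGroup (M k)] [∀ k, Module A (M k)] (ψ : ∀ k, M k →ₗ[A] N) (t : ∀ k d, M k →ₗ[A] M (k + d))
  (hψ : ∀ k d x, ψ (k + d) (t k d x) = ψ k x)

include hψ in
theorem range_mono {k l : ℕ} (h : k ≤ l) : LinearMap.range (ψ k) ≤ LinearMap.range (ψ l) := by
  obtain ⟨d, rfl⟩ := Nat.exists_eq_add_of_le h
  rintro _ ⟨x, rfl⟩
  exact ⟨t k d x, hψ k d x⟩

variable (hsurj : ∀ x : N, ∃ k, x ∈ LinearMap.range (ψ k))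
  (hker : ∀ (k : ℕ) (x : M k), ψ k x = 0 → ∃ d, t k d x = 0)
  (hmono : ∀ (k a b : ℕ) (x : M k), t k a x = 0 → t k (a + b) x = 0)

include hψ hsurj in
theorem exists_le_range {Q : Submodule A N} (hQ : Q.FG) (k : ℕ) : ∃ d, Q ≤ LinearMap.range (ψ (k + d)) := by
  obtain ⟨s, rfl⟩ := hQ
  choose c hc using hsurj
  refine ⟨s.sup c, Submodule.span_le.2 fun x hx => ?_⟩
  exact range_mono ψ t hψ ((Finset.le_sup (f := c) hx).trans (Nat.le_add_left _ _)) (hc x)

include hψ hsurj hker hmono in
theorem exists_kill (B : Type u) [AddCommGroup B] [Module A B] (k : ℕ) (w : M k ⊗[A] B)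
    (hw : (ψ k).rTensor B w = 0) :
    ∃ d e, (t (k + d) e).rTensor B ((t k d).rTensor B w) = 0 := by
  obtain ⟨P, hP, u, rfl⟩ := TensorProduct.exists_of_fg w
  let r₀ : P →ₗ[A] P.map (ψ k) := (ψ k).submoduleMap P
  obtain ⟨Q, hPQ, hQ, h0⟩ := TensorProduct.eq_zero_of_fg_of_subtype_eq_zero (hP.map (ψ k)) (t := r₀.rTensor B u) (by
    rw [← hw, ← LinearMap.comp_apply, ← LinearMap.rTensor_comp, ← LinearMap.comp_apply, ← LinearMap.rTensor_comp]
    rfl)
  obtain ⟨d, hd⟩ := exists_le_range ψ t hψ hsurj hQ k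
  let PL := Q.comap (ψ (k + d))
  let r : PL →ₗ[A] Q := (ψ (k + d)).restrict fun x hx => hx
  have hr : Function.Surjective r := fun q => by
    obtain ⟨x, hx⟩ := hd q.2
    exact ⟨⟨x, show ψ (k + d) x ∈ Q from hx.symm ▸ q.2⟩, Subtype.ext hx⟩
  let j : P →ₗ[A] PL := (t k d).restrict fun x hx => by
    show ψ (k + d) (t k d x) ∈ Q
    rw [hψ]
    exact hPQ ⟨x, hx, rfl⟩
  have hj : r.rTensor B (j.rTensor B u) = 0 := by
    rw [← h0, ← LinearMap.comp_apply, ← LinearMap.rTensor_comp, ← LinearMap.comp_apply, ← LinearMap.rTensor_comp]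
    exact congrArg (fun f : P →ₗ[A] Q => f.rTensor B u) (LinearMap.ext fun x => Subtype.ext (hψ k d x.1))
  obtain ⟨v, hv⟩ := (rTensor_exact B (LinearMap.exact_subtype_ker_map r) hr (j.rTensor B u)).1 hj
  obtain ⟨P', hP', v', rfl⟩ := TensorProduct.exists_of_fg v
  obtain ⟨s, hs⟩ := hP'
  choose c hc using fun x : LinearMap.ker r => hker (k + d) x.1.1 (congrArg Subtype.val x.2)
  let e := s.sup c
  have hP0 : (t (k + d) e) ∘ₗ PL.subtype ∘ₗ (LinearMap.ker r).subtype ∘ₗ P'.subtype = 0 := by
    have hle : P' ≤ LinearMap.ker ((t (k + d) e) ∘ₗ PL.subtype ∘ₗ (LinearMap.ker r).subtype) := by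
      rw [← hs]
      refine Submodule.span_le.2 fun x hx => ?_
      obtain ⟨b, hb⟩ := Nat.exists_eq_add_of_le (Finset.le_sup (f := c) hx)
      show t (k + d) e x.1.1 = 0
      rw [show e = c x + b from hb]
      exact hmono _ _ _ _ (hc x)
    exact LinearMap.ext fun x => hle x.2
  have he : ((t (k + d) e) ∘ₗ PL.subtype).rTensor B
      ((LinearMap.ker r).subtype.rTensor B (P'.subtype.rTensor B v')) = 0 := by
    rw [← LinearMap.comp_apply, ← LinearMap.rTensor_comp, ← LinearMap.comp_apply, ← LinearMap.rTensor_comp]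
    exact (congrArg (fun f : P' →ₗ[A] _ => f.rTensor B v') hP0).trans (by rw [LinearMap.rTensor_zero]; rfl)
  refine ⟨d, e, ?_⟩
  rw [hv, ← LinearMap.comp_apply _ (j.rTensor B), ← LinearMap.rTensor_comp] at he
  rw [← he, ← LinearMap.comp_apply, ← LinearMap.rTensor_comp, ← LinearMap.comp_apply, ← LinearMap.rTensor_comp]
  rfl

include hψ hsurj hker hmono in
/-- A filtered colimit of modules flat after base change is flat after base change. -/
theorem flat_baseChange_of_system (B : Type u) [CommRing B] [Algebra A B] (k₀ : ℕ)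
    (hfl : ∀ k, k₀ ≤ k → Module.Flat B (B ⊗[A] M k)) : Module.Flat B (B ⊗[A] N) := by
  rw [Module.Flat.iff_rTensor_injective']
  intro I
  rw [injective_iff_map_eq_zero]
  intro z hz
  have hcomp : ∀ k d, (ψ k).baseChange B = ((ψ (k + d)).baseChange B) ∘ₗ (t k d).baseChange B := fun k d => by
    rw [← LinearMap.baseChange_comp, show ψ (k + d) ∘ₗ t k d = ψ k from LinearMap.ext (hψ k d)]
  have hmonoT : ∀ {k l : ℕ}, k ≤ l → LinearMap.range (((ψ k).baseChange B).lTensor I) ≤
      LinearMap.range (((ψ l).baseChange B).lTensor I) := fun {k l} h => by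
    obtain ⟨d, rfl⟩ := Nat.exists_eq_add_of_le h
    rw [hcomp k d, LinearMap.lTensor_comp]
    exact LinearMap.range_comp_le_range _ _
  obtain ⟨k, hk, z', rfl⟩ : ∃ k, k₀ ≤ k ∧ z ∈ LinearMap.range (((ψ k).baseChange B).lTensor I) := by
    clear hz
    induction z using TensorProduct.induction_on with
    | zero => exact ⟨k₀, le_rfl, zero_mem _⟩
    | add x y hx hy =>
      obtain ⟨⟨a, ha, hxa⟩, ⟨b, hb, hyb⟩⟩ := And.intro hx hy
      exact ⟨max a b, ha.trans (le_max_left _ _),
        add_mem (hmonoT (le_max_left _ _) hxa) (hmonoT (le_max_right _ _) hyb)⟩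
    | tmul i w =>
      induction w using TensorProduct.induction_on with
      | zero => exact ⟨k₀, le_rfl, by rw [TensorProduct.tmul_zero]; exact zero_mem _⟩
      | add x y hx hy =>
        obtain ⟨⟨a, ha, hxa⟩, ⟨b, hb, hyb⟩⟩ := And.intro hx hy
        refine ⟨max a b, ha.trans (le_max_left _ _), ?_⟩
        rw [TensorProduct.tmul_add]
        exact add_mem (hmonoT (le_max_left _ _) hxa) (hmonoT (le_max_right _ _) hyb)
      | tmul b x =>
        obtain ⟨k, hx⟩ := hsurj x
        obtain ⟨y, hy⟩ := range_mono ψ t hψ (le_max_right k₀ k) hx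
        exact ⟨max k₀ k, le_max_left _ _, ⟨i ⊗ₜ (b ⊗ₜ y), by simp [hy]⟩⟩
  let w := TensorProduct.lid B (B ⊗[A] M k) (I.subtype.rTensor _ z')
  have hlid : ∀ (f : B ⊗[A] M k →ₗ[B] B ⊗[A] N) (y : B ⊗[B] (B ⊗[A] M k)),
      f (TensorProduct.lid B _ y) = TensorProduct.lid B _ (f.lTensor B y) := fun f y => by
    induction y using TensorProduct.induction_on with
    | zero => simp
    | tmul a m => simp
    | add a b ha hb => simp only [map_add, ha, hb]
  have hw : (ψ k).baseChange B w = 0 := by
    rw [hlid, ← LinearMap.comp_apply, LinearMap.lTensor_comp_rTensor, ← LinearMap.rTensor_comp_lTensor,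
      LinearMap.comp_apply, hz, map_zero]
  obtain ⟨d, e, he⟩ := exists_kill ψ t hψ hsurj hker hmono B k (TensorProduct.comm A B (M k) w) (by
    rw [LinearMap.rTensor, ← LinearEquiv.coe_coe, ← LinearMap.comp_apply, TensorProduct.map_comp_comm_eq,
      LinearMap.comp_apply, LinearEquiv.coe_coe]
    exact (congrArg _ hw).trans (map_zero _))
  let T := ((t (k + d) e).baseChange B) ∘ₗ (t k d).baseChange B
  have hT : T w = 0 := by
    refine (TensorProduct.comm A B (M (k + d + e))).injective ?_
    rw [map_zero, ← he, LinearMap.comp_apply]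
    generalize w = y
    induction y using TensorProduct.induction_on with
    | zero => simp
    | tmul a m => simp
    | add a b ha hb => simp only [map_add, ha, hb]
  haveI := hfl (k + d + e) (hk.trans (by omega))
  have hz' : T.lTensor I z' = 0 := by
    refine Module.Flat.rTensor_preserves_injective_linearMap (M := B ⊗[A] M (k + d + e)) I.subtype
      Subtype.val_injective ?_
    rw [map_zero, ← LinearMap.comp_apply, LinearMap.rTensor_comp_lTensor, ← LinearMap.lTensor_comp_rTensor,
      LinearMap.comp_apply]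
    refine (TensorProduct.lid B _).injective ?_
    rw [map_zero]
    refine Eq.trans ?_ hT
    show _ = T (TensorProduct.lid B _ (I.subtype.rTensor _ z'))
    generalize I.subtype.rTensor (B ⊗[A] M k) z' = y
    induction y using TensorProduct.induction_on with
    | zero => simp
    | tmul a m => simp
    | add a b ha hb => simp only [map_add, ha, hb]
  rw [show (ψ k).baseChange B = ((ψ (k + d + e)).baseChange B) ∘ₗ T by
    rw [hcomp k d, hcomp (k + d) e, LinearMap.comp_assoc], LinearMap.lTensor_comp, LinearMap.comp_apply, hz',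
    map_zero]

end Sys

open Groth.L17.BC (Sec act resL)
open Groth.L17.BC.TwistFrame
open Groth.L18.Frame (rs ro ro_ro rs_self rs_rs rs_smul IsFrame)
open Groth.L18.GenLoc
open Groth.L18.Ample

variable {X : Scheme.{u}} {L N : X.Modules} {A : Type u} [CommRing A] (ρ : A →+* Coh.Γtop X)

/-- Sections over the locus of a section are flat after base change once those of large twists are. -/
theorem flat_baseChange_genLocus [CompactSpace X] [QuasiSeparatedSpace X] [Coh.IsQCoh N]
    (hL : PicF.IsInvertible L) (s : Coh.structureModule X ⟶ L) (B : Type u) [CommRing B] [Algebra A B] (k₀ : ℕ)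
    (h : ∀ k, k₀ ≤ k → Module.Flat B (B ⊗[A] Sec ρ (tw N L k) ⊤)) :
    Module.Flat B (B ⊗[A] Sec ρ N (CohB1.genLocus L s)) := by
  let G := CohB1.genLocus L s
  let σ := secOf s
  have hb := bijective_it (N := N) σ (isFrame_genLocus s)
  let itE : ∀ k, Sec ρ N G ≃ₗ[A] Sec ρ (tw N L k) G := fun k => LinearEquiv.ofBijective
    ({ toFun := fun m => it σ G (show Γ(N, G) from m) k
       map_add' := fun a b => it_add σ a b k
       map_smul' := fun a m => by
        show it σ G (act ρ G a • (show Γ(N, G) from m)) k = act ρ G a • it σ G (show Γ(N, G) from m) k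
        exact it_smul σ _ _ k } : Sec ρ N G →ₗ[A] Sec ρ (tw N L k) G) (hb k)
  let ψ : ∀ k, Sec ρ (tw N L k) ⊤ →ₗ[A] Sec ρ N G := fun k =>
    (itE k).symm.toLinearMap ∘ₗ resL ρ (tw N L k) (le_top : G ≤ ⊤)
  let t : ∀ k d, Sec ρ (tw N L k) ⊤ →ₗ[A] Sec ρ (tw N L (k + d)) ⊤ := fun k d =>
    { toFun := fun x => up N σ ⊤ d (show Γ(tw N L k, ⊤) from x)
      map_add' := fun a b => up_add σ d _ _
      map_smul' := fun a x => by
        show up N σ ⊤ d (act ρ ⊤ a • (show Γ(tw N L k, ⊤) from x)) =
          act ρ ⊤ a • up N σ ⊤ d (show Γ(tw N L k, ⊤) from x)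
        exact up_smul σ _ _ _ }
  refine flat_baseChange_of_system ψ t (fun k d x => ?_) (fun x => ?_) (fun k x hx => ?_) (fun k a b x hx => ?_) B k₀ h
  · apply (itE (k + d)).injective
    simp only [ψ, LinearMap.comp_apply, LinearEquiv.coe_coe, LinearEquiv.apply_symm_apply]
    show rs (tw N L (k + d)) le_top (up N σ ⊤ d (show Γ(tw N L k, ⊤) from x)) = it σ G _ (k + d)
    rw [up_rs, ← up_it]
    exact congrArg (up N σ G d) ((itE k).apply_symm_apply _).symm
  · obtain ⟨k, y, hy⟩ := exists_extend_qcoh hL s (show Γ(N, G) from x)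
    refine ⟨k, y, (itE k).injective ?_⟩
    simp only [ψ, LinearMap.comp_apply, LinearEquiv.coe_coe, LinearEquiv.apply_symm_apply]
    exact hy
  · refine exists_up_eq_zero hL s (show Γ(tw N L k, ⊤) from x) ?_
    have := congrArg (itE k) hx
    simp only [ψ, LinearMap.comp_apply, LinearEquiv.coe_coe, LinearEquiv.apply_symm_apply, map_zero] at this
    exact this
  · exact up_eq_zero_mono σ (show Γ(tw N L k, ⊤) from x) (Nat.le_add_right a b) hx

end Groth.L17.Strat
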