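import Groth.Agent.L20.StrataScheme
import Groth.Agent.L17.BC.Fibre
import Groth.Agent.L16.AffineBC.Pullback

/-!
# Flatness of a pullback, on sections over affine squares
-/

set_option autoImplicit false
set_option linter.style.haveILetI false
set_option linter.unusedSectionVars false
set_option backward.isDefEq.respectTransparency false

universe u

open CategoryTheory CategoryTheory.Limits AlgebraicGeometry TopologicalSpace Opposite
open scoped TensorProduct

noncomputable section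

namespace Groth.L17.Strat

variable {X S : Scheme.{u}}

/-- A flat pullback has flat base changed sections. -/
theorem flat_tensor_of_square {X' S' : Scheme.{u}} {f : X ⟶ S} {f' : X' ⟶ S'} {g' : X' ⟶ X} {g : S' ⟶ S}
    (hc : IsPullback g' f' f g) (F : X.Modules) [Coh.IsQCoh F] {W : S.Opens} {V : X.Opens} {W' : S'.Opens}
    (hW : IsAffineOpen W) (hV : IsAffineOpen V) (hW' : IsAffineOpen W') (eV : V ≤ f ⁻¹ᵁ W) (eW : W' ≤ g ⁻¹ᵁ W)
    (hflat : FlatMod.IsFlatOver f' ((Scheme.Modules.pullback g').obj F)) :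
    letI := (g.appLE W W' eW).hom.toAlgebra
    letI := Module.compHom Γ(F, V) (f.appLE W V eV).hom
    Module.Flat Γ(S', W') (Γ(S', W') ⊗[Γ(S, W)] Γ(F, V)) := by
  have hpb := Scheme.Hom.isPullback_resLE hc (UT := W') eW eV (UY := g' ⁻¹ᵁ V ⊓ f' ⁻¹ᵁ W') rfl
  haveI : IsAffine W.toScheme := hW
  haveI : IsAffine V.toScheme := hV
  haveI : IsAffine W'.toScheme := hW'
  have hU : IsAffineOpen (g' ⁻¹ᵁ V ⊓ f' ⁻¹ᵁ W') := IsAffine.of_isPullback hpb
  have hpo : IsPushout (f.appLE W V eV) (g.appLE W W' eW)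
      (g'.appLE V (g' ⁻¹ᵁ V ⊓ f' ⁻¹ᵁ W') inf_le_left) (f'.appLE W' (g' ⁻¹ᵁ V ⊓ f' ⁻¹ᵁ W') inf_le_right) := by
    refine (isPushout_appTop_of_isPullback hpb).of_iso W.topIso V.topIso W'.topIso
      (g' ⁻¹ᵁ V ⊓ f' ⁻¹ᵁ W').topIso ?_ ?_ ?_ ?_ <;>
    simp only [Scheme.Hom.appTop, Scheme.Hom.resLE_app_top, Category.assoc, Iso.inv_hom_id, Category.comp_id]
  haveI : Coh.IsQCoh ((Scheme.Modules.pullback g').obj F) := Groth.L16.AffineBC.isQCoh_pullback g' F
  have hfl := Groth.L17.BC.flat_appLE f' ((Scheme.Modules.pullback g').obj F) hflat hU inf_le_right hW'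
  set U := g' ⁻¹ᵁ V ⊓ f' ⁻¹ᵁ W' with hUdef
  have eU : U ≤ g' ⁻¹ᵁ V := inf_le_left
  have eU' : U ≤ f' ⁻¹ᵁ W' := inf_le_right
  set P := (Scheme.Modules.pullback g').obj F with hP
  algebraize [(f.appLE W V eV).hom, (g.appLE W W' eW).hom, (g'.appLE V U eU).hom, (f'.appLE W' U eU').hom,
    ((g'.appLE V U eU).hom.comp (f.appLE W V eV).hom)]
  haveI : IsScalarTower Γ(S, W) Γ(S', W') Γ(X', U) :=
    IsScalarTower.of_algebraMap_eq' (congrArg CommRingCat.Hom.hom hpo.w)
  haveI : Algebra.IsPushout Γ(S, W) Γ(X, V) Γ(S', W') Γ(X', U) := CommRingCat.isPushout_iff_isPushout.mp hpo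
  haveI : Algebra.IsPushout Γ(S, W) Γ(S', W') Γ(X, V) Γ(X', U) := Algebra.IsPushout.symm inferInstance
  letI := Module.compHom Γ(F, V) (f.appLE W V eV).hom
  haveI : IsScalarTower Γ(S, W) Γ(X, V) Γ(F, V) := IsScalarTower.of_algebraMap_smul fun _ _ => rfl
  letI : Module Γ(X, V) Γ(P, U) := Module.compHom Γ(P, U) (g'.appLE V U eU).hom
  haveI : IsScalarTower Γ(X, V) Γ(X', U) Γ(P, U) := IsScalarTower.of_algebraMap_smul fun _ _ => rfl
  letI : Module Γ(S', W') Γ(P, U) := Module.compHom Γ(P, U) (f'.appLE W' U eU').hom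
  haveI : IsScalarTower Γ(S', W') Γ(X', U) Γ(P, U) := IsScalarTower.of_algebraMap_smul fun _ _ => rfl
  haveI : Module.Flat Γ(S', W') Γ(P, U) := hfl
  have hbc := Groth.L16.AffineBC.isBaseChange_pull g' F hV hU eU
  let E₀ := (Algebra.IsPushout.cancelBaseChange Γ(S, W) Γ(S', W') Γ(X, V) Γ(X', U) Γ(F, V)).symm
  let E : Γ(S', W') ⊗[Γ(S, W)] Γ(F, V) ≃ₗ[Γ(S', W')] Γ(P, U) :=
    { (E₀.toAddEquiv.trans hbc.equiv.toAddEquiv) with
      map_smul' := fun b z => by
        show hbc.equiv (E₀ (b • z)) = b • hbc.equiv (E₀ z)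
        induction z using TensorProduct.induction_on with
        | zero => simp
        | add x y hx hy => simp only [smul_add, map_add, hx, hy]
        | tmul c m =>
          rw [TensorProduct.smul_tmul', smul_eq_mul]
          simp only [E₀, Algebra.IsPushout.cancelBaseChange_symm_tmul, IsBaseChange.equiv_tmul, map_mul]
          exact mul_smul _ _ _ }
  exact Module.Flat.of_linearEquiv E

end Groth.L17.Strat
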