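import Groth.Agent.L17.BC.CechA
import Groth.Agent.L01.FlatCx.Basic

/-!
# Cycles in degree zero are global sections
-/

set_option autoImplicit false
set_option linter.style.haveILetI false
set_option backward.isDefEq.respectTransparency false

universe u

open CategoryTheory AlgebraicGeometry TopologicalSpace Opposite

noncomputable section

namespace Groth.L17.Strat

open Groth.L17.BC
open Groth.L18.Frame (rs rs_rs rs_self)
open Groth.L01.FlatCx (dd)

variable {X : Scheme.{u}} {A : Type u} [CommRing A] (ρ : A →+* Coh.Γtop X) (F : X.Modules)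
  {ι : Type u} (U : ι → X.Opens) (hcov : ⨆ i, U i = ⊤)

include hcov in
/-- Cycles in degree zero are the global sections. -/
theorem nonempty_topEquiv :
    Nonempty (Sec ρ F ⊤ ≃ₗ[A] LinearMap.ker (dd (K ρ F U) 0 (0 + 1))) := by
  classical
  let ε : Sec ρ F ⊤ →ₗ[A] C ρ F U 0 := LinearMap.pi fun a => resL ρ F (le_top : opn U a.1 ≤ ⊤)
  have hcyc : ∀ s, dd (K ρ F U) 0 (0 + 1) (ε s) = 0 := fun s => by
    refine (K_d ρ F U 0 _).trans (funext fun a => ?_)
    obtain ⟨l, hl, hne⟩ := a
    obtain ⟨p, q, rfl⟩ : ∃ p q, l = [p, q] := by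
      match l, hl with
      | [p, q], _ => exact ⟨p, q, rfl⟩
      | [], h => simp at h
      | [_], h => simp at h
      | _ :: _ :: _ :: _, h => simp at h; omega
    rw [dL_apply ρ F U le_rfl]
    show ∑ k : Fin 2, _ = _
    rw [Fin.sum_univ_two]
    simp only [Fin.val_zero, pow_zero, one_smul, Fin.val_one, pow_one, neg_smul]
    rw [← sub_eq_add_neg, show (0 : C ρ F U (0 + 1)) ⟨[p, q], hl, hne⟩ = 0 from rfl, sub_eq_zero]
    exact (rs_rs F _ _ (show Γ(F, ⊤) from s)).trans (rs_rs F _ _ (show Γ(F, ⊤) from s)).symm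
  let OF : TopCat.Sheaf Ab.{u} X.toTopCat := ⟨F.presheaf, F.isSheaf⟩
  have hle : ∀ i, U i ≤ opn U [i] := fun i => le_iInf fun k => by
    have : k.1 = 0 := by
      have h := k.2
      simp only [List.length_singleton] at h
      omega
    simp [this]
  have hle' : ∀ i, opn U [i] ≤ U i := fun i => (iInf_le _ (⟨0, by simp⟩ : Fin [i].length)).trans (by simp)
  have hinj : Function.Injective (ε.codRestrict (LinearMap.ker (dd (K ρ F U) 0 (0 + 1))) hcyc) := by
    intro a b h
    refine OF.eq_of_locally_eq' U ⊤ (fun i => homOfLE le_top) hcov.ge _ _ fun i => ?_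
    have h1 := congrArg (rs F (hle i)) (congrFun (congrArg Subtype.val h) (⟨[i], by simp, by simp⟩ : Idx ι 0))
    exact (rs_rs F _ _ (show Γ(F, ⊤) from a)).symm.trans (h1.trans (rs_rs F _ _ (show Γ(F, ⊤) from b)))
  have hsurj : Function.Surjective (ε.codRestrict (LinearMap.ker (dd (K ρ F U) 0 (0 + 1))) hcyc) := by
    intro x
    let y : ∀ i, Γ(F, U i) := fun i => rs F (hle i) (show Γ(F, opn U [i]) from x.1 ⟨[i], by simp, by simp⟩)
    have hxd : dL ρ F U 0 x.1 = 0 := (K_d ρ F U 0 x.1).symm.trans x.2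
    obtain ⟨s, hs, -⟩ := OF.existsUnique_gluing' U ⊤ (fun i => homOfLE le_top) hcov.ge y fun p q => by
      have h0 := congrFun hxd ⟨[p, q], by simp, by simp⟩
      rw [dL_apply ρ F U le_rfl] at h0
      have h0' : _ + _ = _ := (Fin.sum_univ_two (M := Sec ρ F (opn U [p, q])) _).symm.trans h0
      simp only [Fin.val_zero, pow_zero, one_smul, Fin.val_one, pow_one, neg_smul] at h0'
      rw [← sub_eq_add_neg, Pi.zero_apply, sub_eq_zero] at h0'
      have hpq : U p ⊓ U q ≤ opn U [p, q] := le_iInf fun k => by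
        rcases k with ⟨_ | _ | k, hk⟩
        · exact inf_le_left
        · exact inf_le_right
        · simp at hk
      have h1 := congrArg (rs F hpq) h0'
      show rs F inf_le_left (y p) = rs F inf_le_right (y q)
      refine (rs_rs F _ _ _).trans (Eq.trans ?_ (rs_rs F _ _ _).symm)
      exact ((rs_rs F _ _ _).symm.trans h1.symm).trans (rs_rs F _ _ _)
    refine ⟨s, Subtype.ext (funext fun a => ?_)⟩
    obtain ⟨l, hl, hne⟩ := a
    obtain ⟨p, rfl⟩ : ∃ p, l = [p] := by
      match l, hl with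
      | [p], _ => exact ⟨p, rfl⟩
      | [], h => simp at h
      | _ :: _ :: _, h => simp at h; omega
    show rs F le_top (show Γ(F, ⊤) from s) = x.1 ⟨[p], hl, hne⟩
    rw [← rs_rs F le_top (hle' p) (show Γ(F, ⊤) from s), show rs F le_top (show Γ(F, ⊤) from s) = y p from hs p]
    exact (rs_rs F _ _ _).trans (rs_self F _ _)
  exact ⟨LinearEquiv.ofBijective _ ⟨hinj, hsurj⟩⟩

end Groth.L17.Strat
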