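import Groth.Agent.L17.Strat.Fibres
import Groth.Agent.L17.Strat.Colim
import Groth.Agent.L17.Strat.Top
import Groth.Agent.L17.Strat.Square
import Groth.Agent.L17.BC.FlatCrit

/-!
# Flatness of pullbacks against the direct images of large twists, over an affine open of the base
-/

set_option autoImplicit false
set_option linter.style.haveILetI false
set_option linter.unusedSectionVars false
set_option backward.isDefEq.respectTransparency false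

universe u

open CategoryTheory CategoryTheory.Limits AlgebraicGeometry TopologicalSpace Opposite
open scoped TensorProduct

noncomputable section

namespace Groth.L17.Strat

open Groth.L17.BC
open Groth.L18.GenLoc (exists_affine_frame)
open Groth.L18.Frame (IsFrame)
open Groth.L00.Tensor (tensorIso tensorRestrict tensorPowRestrict)

variable {X S : Scheme.{u}} (f : X ⟶ S) {V : S.Opens} (hV : IsAffineOpen V)

/-- Sections of the restricted module are sections of the module. -/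
theorem nonempty_secFV (F : X.Modules) {W₀ : (↑(f ⁻¹ᵁ V) : Scheme.{u}).Opens}
    (hWV : (f ⁻¹ᵁ V).ι ''ᵁ W₀ ≤ f ⁻¹ᵁ V) :
    letI := Module.compHom Γ(F, (f ⁻¹ᵁ V).ι ''ᵁ W₀) (f.appLE V ((f ⁻¹ᵁ V).ι ''ᵁ W₀) hWV).hom
    Nonempty (Sec (Coh.toGlobal (A := Γ(S, V)) (fV f hV)) (FV f (V := V) F) W₀ ≃ₗ[Γ(S, V)]
      Γ(F, (f ⁻¹ᵁ V).ι ''ᵁ W₀)) := by
  letI := Module.compHom Γ(F, (f ⁻¹ᵁ V).ι ''ᵁ W₀) (f.appLE V ((f ⁻¹ᵁ V).ι ''ᵁ W₀) hWV).hom
  exact ⟨{ (AddEquiv.refl Γ(F, (f ⁻¹ᵁ V).ι ''ᵁ W₀)) with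
    map_smul' := fun a t => FlatCrit.sec_smul f hV F hWV a t }⟩

/-- Global sections of a twist of the restricted module. -/
theorem nonempty_twistTop (F L : X.Modules) (n : ℕ) :
    Nonempty (Sec (Coh.toGlobal (A := Γ(S, V)) (fV f hV)) (Fn (L.restrict (f ⁻¹ᵁ V).ι) (FV f (V := V) F) n) ⊤
      ≃ₗ[Γ(S, V)] Γ((Coh.push f).obj (Fn L F n), V)) := by
  obtain ⟨e⟩ := FlatCrit.nonempty_push_equiv f hV (Fn L F n)
  exact ⟨(FlatCrit.secIso _ (tensorIso (Iso.refl _) (tensorPowRestrict _ L n) ≪≫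
    tensorRestrict (f ⁻¹ᵁ V).ι F (CohB1.tensorPow L n)) ⊤).trans e⟩

/-- A finite affine cover by opens carrying frames. -/
theorem exists_framed_cover {Z : Scheme.{u}} [CompactSpace Z] [Z.IsSeparated] {L : Z.Modules}
    (hL : PicF.IsInvertible L) :
    ∃ (t : ℕ) (U : ULift.{u} (Fin t) → Z.Opens), ⨆ i, U i = ⊤ ∧ Framed U L ∧
      ∀ (n : ℕ) (a : Fin (n + 1) → ULift.{u} (Fin t)), IsAffineOpen (⨅ k, U (a k)) := by
  choose W ε hW hxW hε using fun x : Z => exists_affine_frame hL x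
  obtain ⟨s, hs⟩ := isCompact_univ.elim_finite_subcover (fun x : Z => (W x : Set Z)) (fun x => (W x).2)
    (fun x _ => Set.mem_iUnion.2 ⟨x, hxW x⟩)
  let e : ULift.{u} (Fin s.card) ≃ s := Equiv.ulift.trans s.equivFin.symm
  refine ⟨s.card, fun i => W (e i).1, top_unique fun x _ => ?_, fun i => ⟨_, hε (e i).1⟩,
    fun n a => IsAffineOpen.iInf fun k => hW _⟩
  obtain ⟨y, hy, hxy⟩ := Set.mem_iUnion₂.1 (hs (Set.mem_univ x))
  refine Opens.mem_iSup.2 ⟨e.symm ⟨y, hy⟩, ?_⟩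
  show x ∈ W (e (e.symm ⟨y, hy⟩)).1
  rw [e.apply_symm_apply]
  exact hxy

variable [IsProper f] [IsLocallyNoetherian S] {L : X.Modules} (hamp : RelAmple.IsRelAmple f L)
  {F : X.Modules} (hF : Coh.IsCoh F)

include hV hamp hF in
/-- A flat pullback has flat direct images of large twists. -/
theorem exists_fwd :
    ∃ N : ℕ, ∀ n, N ≤ n → ∀ {T XT : Scheme.{u}} [IsLocallyNoetherian T] {φ : T ⟶ S} {gT : XT ⟶ X}
      {fT : XT ⟶ T}, IsPullback gT fT f φ → FlatMod.IsFlatOver fT ((Scheme.Modules.pullback gT).obj F) →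
      ∀ {W' : T.Opens} (_ : IsAffineOpen W') (e : W' ≤ φ ⁻¹ᵁ V),
        letI := (φ.appLE V W' e).hom.toAlgebra
        Module.Flat Γ(T, W') (Γ(T, W') ⊗[Γ(S, V)] Γ((Coh.push f).obj (Fn L F n), V)) := by
  let Z : Scheme.{u} := ↑(f ⁻¹ᵁ V)
  let A : Type u := Γ(S, V)
  haveI : IsNoetherianRing A := IsLocallyNoetherian.component_noetherian ⟨V, hV⟩
  let fz : Z ⟶ Spec (CommRingCat.of A) := fV f hV
  haveI : IsProper fz := inferInstanceAs (IsProper (fV f hV))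
  have hamp' : CohB1.IsAmple (L.restrict (f ⁻¹ᵁ V).ι) := hamp.2 ⟨V, hV⟩
  haveI := hamp'.2.1
  haveI : Z.IsSeparated := Groth.L18.Ample.isSeparated_of_isAmple hamp'
  obtain ⟨t, U, hcov, hfr, haff⟩ := exists_framed_cover hamp'.1
  obtain ⟨N, hN⟩ := exists_flat_of_flatCov fz _ (FV f (V := V) F) U hcov haff (isCoh_FV (V := V) f hF) hamp' hfr
  refine ⟨N, fun n hn T XT _ φ gT fT hc hfl W' hW' e => ?_⟩
  letI := (φ.appLE V W' e).hom.toAlgebra
  haveI : IsNoetherianRing Γ(T, W') := IsLocallyNoetherian.component_noetherian ⟨W', hW'⟩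
  haveI := hF.1
  have hB : FlatCov (Coh.toGlobal fz) U (FV f (V := V) F) Γ(T, W') := fun a ha => by
    have hWV : (f ⁻¹ᵁ V).ι ''ᵁ opn U a ≤ f ⁻¹ᵁ V :=
      (Scheme.Hom.image_le_opensRange _ _).trans_eq (f ⁻¹ᵁ V).opensRange_ι
    have hW₀ : IsAffineOpen (opn U a) :=
      isAffineOpen_opn U haff (i := (a.length : ℤ) - 1) ⟨a, by omega, ha⟩
    letI := Module.compHom Γ(F, (f ⁻¹ᵁ V).ι ''ᵁ opn U a) (f.appLE V ((f ⁻¹ᵁ V).ι ''ᵁ opn U a) hWV).hom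
    obtain ⟨E⟩ := nonempty_secFV f hV F hWV
    haveI : Module.Flat Γ(T, W') (Γ(T, W') ⊗[Γ(S, V)] Γ(F, (f ⁻¹ᵁ V).ι ''ᵁ opn U a)) :=
      flat_tensor_of_square hc F hV (hW₀.image_of_isOpenImmersion _) hW' hWV e hfl
    exact Module.Flat.of_linearEquiv (LinearEquiv.baseChange Γ(S, V) Γ(T, W') _ _ E)
  haveI := hN n hn Γ(T, W') hB
  obtain ⟨E₁⟩ := nonempty_topEquiv (Coh.toGlobal fz) (Fn (L.restrict (f ⁻¹ᵁ V).ι) (FV f (V := V) F) n) U hcov
  obtain ⟨E₂⟩ := nonempty_twistTop f hV F L n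
  exact Module.Flat.of_linearEquiv (LinearEquiv.baseChange Γ(S, V) Γ(T, W') _ _ (E₂.symm.trans E₁))

include hamp hF in
/-- Flat direct images of large twists give a flat pullback. -/
theorem isFlatOver_of_flat_push {T XT : Scheme.{u}} {φ : T ⟶ S} {gT : XT ⟶ X} {fT : XT ⟶ T}
    (hc : IsPullback gT fT f φ)
    (h : ∀ t : T, ∃ (V : S.Opens) (_ : IsAffineOpen V) (W' : T.Opens) (_ : IsAffineOpen W') (e : W' ≤ φ ⁻¹ᵁ V),
      t ∈ W' ∧ ∃ k₀ : ℕ, ∀ k, k₀ ≤ k →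
        letI := (φ.appLE V W' e).hom.toAlgebra
        Module.Flat Γ(T, W') (Γ(T, W') ⊗[Γ(S, V)] Γ((Coh.push f).obj (Fn L F k), V))) :
    FlatMod.IsFlatOver fT ((Scheme.Modules.pullback gT).obj F) := by
  haveI := hF.1
  haveI : IsLocallyNoetherian X := LocallyOfFiniteType.isLocallyNoetherian f
  intro x
  obtain ⟨V, hV, W', hW', e, htW, k₀, hk₀⟩ := h (fT x)
  have hxV : gT x ∈ f ⁻¹ᵁ V := by
    show f (gT x) ∈ V
    rw [← Scheme.Hom.comp_apply, hc.w, Scheme.Hom.comp_apply]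
    exact e htW
  obtain ⟨hL', hcpt, hs⟩ := hamp.2 ⟨V, hV⟩
  haveI := hcpt
  haveI : (↑(f ⁻¹ᵁ V) : Scheme.{u}).IsSeparated := Groth.L18.Ample.isSeparated_of_isAmple (hamp.2 ⟨V, hV⟩)
  haveI : Coh.IsQCoh (FV f (V := V) F) := (isCoh_FV (V := V) f hF).1
  obtain ⟨m, s, hxs, haff⟩ := hs ⟨gT x, hxV⟩
  letI := (φ.appLE V W' e).hom.toAlgebra
  let G₀ := CohB1.genLocus _ s
  have hWV : (f ⁻¹ᵁ V).ι ''ᵁ G₀ ≤ f ⁻¹ᵁ V :=
    (Scheme.Hom.image_le_opensRange _ _).trans_eq (f ⁻¹ᵁ V).opensRange_ι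
  haveI hflat : Module.Flat Γ(T, W') (Γ(T, W') ⊗[Γ(S, V)]
      Sec (Coh.toGlobal (A := Γ(S, V)) (fV f hV)) (FV f (V := V) F) G₀) := by
    refine flat_baseChange_genLocus _ (Groth.L18.Ample.isInvertible_tensorPow hL' (m + 1)) s Γ(T, W') k₀
      fun k hk => ?_
    obtain ⟨E⟩ := FlatCrit.nonempty_twistEquiv f hV F L (m + 1) k
    haveI := hk₀ ((m + 1) * k) (hk.trans (Nat.le_mul_of_pos_left k (Nat.succ_pos m)))
    exact Module.Flat.of_linearEquiv (LinearEquiv.baseChange Γ(S, V) Γ(T, W') _ _ E)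
  letI := Module.compHom Γ(F, (f ⁻¹ᵁ V).ι ''ᵁ G₀) (f.appLE V ((f ⁻¹ᵁ V).ι ''ᵁ G₀) hWV).hom
  obtain ⟨E'⟩ := nonempty_secFV f hV F hWV
  exact Groth.L20.Strata.isFlatOverAt_of_square hc F hV (haff.image_of_isOpenImmersion _) hW' hWV e x
    ⟨⟨gT x, hxV⟩, hxs, rfl⟩ htW
    (Module.Flat.of_linearEquiv (LinearEquiv.baseChange Γ(S, V) Γ(T, W') _ _ E'.symm))

end Groth.L17.Strat
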