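import Groth.Agent.L17.Strat.Twist
import Groth.Agent.L17.BC.Model
import Groth.Agent.L20.FlatStrata
import Groth.Agent.L20.ModStalk
import Groth.Agent.L18.AmplePull

/-!
# Uniformity over the fibres
-/

set_option autoImplicit false
set_option linter.style.haveILetI false
set_option linter.unusedSectionVars false
set_option backward.isDefEq.respectTransparency false

universe u

open CategoryTheory CategoryTheory.Limits AlgebraicGeometry TopologicalSpace Opposite
open scoped TensorProduct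

noncomputable section

namespace Groth.L17.Strat

open Groth.L17.BC
open Groth.L01.FlatCx (dd bc bcE Coker Cyc' cls' cls'_surjective cls'_eq_zero_iff)

variable {X : Scheme.{u}} {A : Type u} [CommRing A] (f : X ⟶ Spec (CommRingCat.of A))
  (L F : X.Modules) {ι : Type u} [Finite ι] (U : ι → X.Opens) (hcov : ⨆ i, U i = ⊤)
  (haff : ∀ (n : ℕ) (a : Fin (n + 1) → ι), IsAffineOpen (⨅ k, U (a k)))

theorem isQCoh_Fn [Coh.IsQCoh F] (hL : PicF.IsInvertible L) (n : ℕ) [IsLocallyNoetherian X] :
    Coh.IsQCoh (Fn L F n) := by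
  haveI : Coh.IsQCoh (CohB1.tensorPow L n) :=
    (Groth.L16.ProperFinite.isCoh_of_isInvertible (Groth.L18.Ample.isInvertible_tensorPow hL n)).1
  exact Groth.L00.Tensor.isQCoh_tensorMod _ _

section BaseChange

variable (B : Type u) [CommRing B] [Algebra A B]

include haff in
theorem exists_iso_bc (n : ℕ) [Coh.IsQCoh (Fn L F n)] :
    ∃ (X' : Scheme.{u}) (g : X' ⟶ X) (f' : X' ⟶ Spec (CommRingCat.of B))
      (_ : IsPullback g f' f (Spec.map (CommRingCat.ofHom (algebraMap A B)))),
      Nonempty (bc B (K (Coh.toGlobal f) (Fn L F n) U) ≅ K (Coh.toGlobal f') (Fb g (Fn L F n)) (Ub g U)) :=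
  ⟨_, _, _, IsPullback.of_hasPullback _ _, nonempty_bcCx_iso _ _ _ _ (compat_of_isPullback _ _ _ (IsPullback.of_hasPullback _ _)) U
    (hasBC_of_isPullback f _ _ (IsPullback.of_hasPullback _ _) (Fn L F n)) haff⟩

omit [CommRing A] in
theorem iSup_preimage {X' : Scheme.{u}} (g : X' ⟶ X) (hcov : ⨆ i, U i = ⊤) : ⨆ i, Ub g U i = ⊤ :=
  top_unique fun x _ => by
    obtain ⟨i, hi⟩ := Opens.mem_iSup.1 (hcov.ge (Opens.mem_top (g x)))
    exact Opens.mem_iSup.2 ⟨i, hi⟩

include hcov haff in
theorem isZero_T_bc (n : ℕ) [Coh.IsQCoh (Fn L F n)] (M : ModuleCat.{u} B) (i : ℤ) (hi : (Nat.card ι : ℤ) < i) :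
    IsZero (CohIII.T (bc B (K (Coh.toGlobal f) (Fn L F n) U)) i M) := by
  obtain ⟨X', g, f', sq, ⟨e⟩⟩ := exists_iso_bc f L F U haff B n
  haveI := isAffineHom_of_isPullback f f' g sq
  haveI : Coh.IsQCoh (Fb g (Fn L F n)) := Groth.L16.AffineBC.isQCoh_pullback g _
  exact isZero_T_of_iso e i M (isZero_T_K f' (Ub g U) _ (iSup_preimage U g hcov)
    (isAffineOpen_iInf_preimage g U haff) M i hi.le)

variable [IsProper f] [IsNoetherianRing A] [IsNoetherianRing B]

include hcov haff in
theorem finite_homology_bc (hF : Coh.IsCoh F) (hL : PicF.IsInvertible L) (n : ℕ) (i : ℤ) (hi : 0 ≤ i) :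
    Module.Finite B ((bc B (K (Coh.toGlobal f) (Fn L F n) U)).homology i : Type u) := by
  haveI : IsLocallyNoetherian X := LocallyOfFiniteType.isLocallyNoetherian f
  have hFn : Coh.IsCoh (Fn L F n) := Groth.L03.Euler.isCoh_tensor (Groth.L18.Ample.isInvertible_tensorPow hL n) hF
  haveI := hFn.1
  obtain ⟨X', g, f', sq, ⟨e⟩⟩ := exists_iso_bc f L F U haff B n
  haveI := isAffineHom_of_isPullback f f' g sq
  haveI : IsProper f' := MorphismProperty.of_isPullback sq inferInstance
  haveI : IsLocallyNoetherian X' := LocallyOfFiniteType.isLocallyNoetherian f'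
  letI : X'.Over (Spec (CommRingCat.of B)) := ⟨f'⟩
  haveI : IsProper (X' ↘ Spec (CommRingCat.of B)) := ‹IsProper f'›
  have hFb : Coh.IsCoh (Fb g (Fn L F n)) := Groth.L16.AffineBC.isCoh_pullback g hFn
  haveI := hFb.1
  obtain ⟨p, rfl⟩ : ∃ p : ℕ, i = p := ⟨i.toNat, (Int.toNat_of_nonneg hi).symm⟩
  obtain ⟨E⟩ := homologyEquiv_of_iso e (p : ℤ)
  obtain ⟨E'⟩ := exists_homology_equiv (Coh.toGlobal f') (Fb g (Fn L F n)) (Ub g U) (iSup_preimage U g hcov)
    (isAffineOpen_iInf_preimage g U haff) p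
  haveI := Groth.L16.ProperFinite.finite_HH B hFb p
  exact Module.Finite.equiv (E.trans E').symm

include hcov haff in
theorem exists_vanishing_bc (hF : Coh.IsCoh F) (hamp : CohB1.IsAmple L) :
    ∃ N : ℕ, ∀ n, N ≤ n → ∀ i : ℤ, 0 < i →
      Subsingleton ((bc B (K (Coh.toGlobal f) (Fn L F n) U)).homology i : Type u) := by
  haveI : IsLocallyNoetherian X := LocallyOfFiniteType.isLocallyNoetherian f
  let φ := Spec.map (CommRingCat.ofHom (algebraMap A B))
  let g₀ := pullback.fst f φ
  letI : (pullback f φ).Over (Spec (CommRingCat.of B)) := ⟨pullback.snd f φ⟩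
  haveI : IsProper (pullback f φ ↘ Spec (CommRingCat.of B)) :=
    MorphismProperty.of_isPullback (IsPullback.of_hasPullback f φ) inferInstance
  haveI : IsAffineHom g₀ := isAffineHom_of_isPullback f _ _ (IsPullback.of_hasPullback f φ)
  obtain ⟨N, hN⟩ := Groth.L16.Existence.exists_vanishing_of_isAmple (A := B)
    (Groth.L18.Ample.isAmple_pullback_of_isAffineHom g₀ hamp) (Groth.L16.AffineBC.isCoh_pullback g₀ hF)
  refine ⟨N, fun n hn i hi => ?_⟩
  haveI := hF.1
  haveI := isQCoh_Fn L F hamp.1 n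
  obtain ⟨e⟩ := nonempty_bcCx_iso g₀ (Coh.toGlobal f) (Coh.toGlobal (pullback.snd f φ)) (Fn L F n)
    (compat_of_isPullback _ _ _ (IsPullback.of_hasPullback f φ)) U
    (hasBC_of_isPullback f _ _ (IsPullback.of_hasPullback f φ) (Fn L F n)) haff
  haveI : Coh.IsQCoh (Fb g₀ (Fn L F n)) := Groth.L16.AffineBC.isQCoh_pullback g₀ _
  obtain ⟨p, rfl⟩ : ∃ p : ℕ, i = p := ⟨i.toNat, (Int.toNat_of_nonneg hi.le).symm⟩
  obtain ⟨E⟩ := homologyEquiv_of_iso e (p : ℤ)
  obtain ⟨E'⟩ := exists_homology_equiv (Coh.toGlobal (pullback.snd f φ)) (Fb g₀ (Fn L F n)) (Ub g₀ U)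
    (iSup_preimage U g₀ hcov) (isAffineOpen_iInf_preimage g₀ U haff) p
  haveI : Subsingleton (Coh.HH (pullback f φ) (Fb g₀ (Fn L F n)) p) :=
    Groth.L16.ProjSpace.subsingleton_of_iso ((Groth.L29.DC.PullTensor.pullTensor g₀ F _).symm ≪≫
      Groth.L00.Tensor.tensorIso (Iso.refl _) (Groth.L18.Ample.pullPow g₀ L n) ≪≫
      Groth.L00.Tensor.tensorComm _ _) p (hN n hn p (by omega))
  exact (E.trans E').toEquiv.subsingleton

end BaseChange

theorem mem_smul_of_one_tmul_eq_zero {R M : Type u} [CommRing R] [AddCommGroup M] [Module R M] {m : Ideal R} {x : M}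
    (h : (1 : R ⧸ m) ⊗ₜ[R] x = 0) : x ∈ m • (⊤ : Submodule R M) := by
  rw [← (TensorProduct.quotTensorEquivQuotSMul M m).map_eq_zero_iff] at h
  rw [← Submodule.Quotient.mk_eq_zero, ← h]
  exact (congrArg Submodule.Quotient.mk (one_smul R x).symm).trans
    (TensorProduct.quotTensorEquivQuotSMul_mk_tmul m 1 x).symm

/-- A map to a flat finite module which is bijective on all closed fibres is bijective. -/
theorem bijective_of_forall_quotient {R M M' : Type u} [CommRing R] [IsNoetherianRing R] [AddCommGroup M] [Module R M]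
    [AddCommGroup M'] [Module R M'] [Module.Finite R M] [Module.Finite R M'] [Module.Flat R M'] (φ : M →ₗ[R] M')
    (h : ∀ m : Ideal R, m.IsMaximal → Function.Bijective (φ.baseChange (R ⧸ m))) : Function.Bijective φ := by
  have hsurj : Function.Surjective φ := by
    rw [← LinearMap.range_eq_top, ← Submodule.Quotient.subsingleton_iff]
    refine subsingleton_of_le_smul (R := R) fun m hm => ?_
    rintro z -
    obtain ⟨z, rfl⟩ := Submodule.Quotient.mk_surjective _ z
    obtain ⟨w, hw⟩ := (h m hm).2 (1 ⊗ₜ z)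
    obtain ⟨y, rfl⟩ := TensorProduct.mk_surjective R M (R ⧸ m) Ideal.Quotient.mk_surjective w
    simp only [TensorProduct.mk_apply, LinearMap.baseChange_tmul] at hw
    have h1 : z - φ y ∈ m • (⊤ : Submodule R M') :=
      mem_smul_of_one_tmul_eq_zero (by rw [TensorProduct.tmul_sub, hw, sub_self])
    have h2 := Submodule.mem_map_of_mem (f := (LinearMap.range φ).mkQ) h1
    rw [Submodule.map_smul''] at h2
    rw [show Submodule.Quotient.mk z = (LinearMap.range φ).mkQ (z - φ y) by
      rw [map_sub, (Submodule.Quotient.mk_eq_zero _).2 ⟨y, rfl⟩ |> fun h => (show (LinearMap.range φ).mkQ (φ y) = 0 from h),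
        sub_zero]; rfl]
    exact Submodule.smul_mono le_rfl le_top h2
  refine ⟨?_, hsurj⟩
  rw [← LinearMap.ker_eq_bot, ← Submodule.subsingleton_iff_eq_bot]
  refine subsingleton_of_le_smul (R := R) fun m hm => ?_
  rintro x -
  refine mem_smul_of_one_tmul_eq_zero ?_
  have hi : Function.Injective ((LinearMap.ker φ).subtype.lTensor (R ⧸ m)) :=
    LinearMap.lTensor_injective_of_exact_of_flat φ hsurj _ Subtype.val_injective (LinearMap.exact_subtype_ker_map φ) _
  refine hi ((h m hm).1 ?_)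
  rw [map_zero, map_zero]
  show φ.baseChange (R ⧸ m) (1 ⊗ₜ x.1) = 0
  rw [LinearMap.baseChange_tmul, show φ x.1 = 0 from x.2, TensorProduct.tmul_zero]

theorem finite_ker {R : Type u} [CommRing R] (P : CochainComplex (ModuleCat.{u} R) ℤ) (h0 : IsZero (P.X (0 - 1)))
    [Module.Finite R (P.homology 0 : Type u)] [IsNoetherianRing R] :
    Module.Finite R (LinearMap.ker (dd P 0 (0 + 1))) := by
  let j : LinearMap.ker (dd P 0 (0 + 1)) →ₗ[R] Cyc' P 0 :=
    (LinearMap.ker (dd P 0 (0 + 1))).subtype.codRestrict _ fun x => by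
      rw [LinearMap.mem_ker, CochainComplex.next]; exact x.2
  refine Module.Finite.of_injective (cls' P 0 ∘ₗ j) ((injective_iff_map_eq_zero _).2 fun x hx => ?_)
  obtain ⟨y, hy⟩ := (cls'_eq_zero_iff P (i := (0 - 1 : ℤ)) (CochainComplex.prev _ _) (j x)).1 hx
  haveI := ModuleCat.subsingleton_of_isZero h0
  refine Subtype.ext (hy.symm.trans ?_)
  rw [Subsingleton.elim y 0, map_zero]
  rfl

theorem flat_of_theta {R : Type u} [CommRing R] {M M' : Type u} [AddCommGroup M] [Module R M] [AddCommGroup M']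
    [Module R M'] (d : M →ₗ[R] M') (B : Type u) [CommRing B] [Algebra R B] [IsNoetherianRing B]
    [Module.Finite R (LinearMap.ker d)] [Module.Finite B (LinearMap.ker (d.baseChange B))]
    [Module.Flat B (LinearMap.ker (d.baseChange B))]
    (h : ∀ m : Ideal B, m.IsMaximal → Good d (B ⧸ m) ∧ Good (d.baseChange B) (B ⧸ m)) :
    Module.Flat B (B ⊗[R] LinearMap.ker d) := by
  haveI : Module.Finite B (B ⊗[R] LinearMap.ker d) := Module.Finite.base_change R B _
  have key := fun h3 => @bijective_of_forall_quotient B (B ⊗[R] LinearMap.ker d) (LinearMap.ker (d.baseChange B))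
    _ _ _ _ _ _ _ _ _ (theta d B) h3
  have h3 : ∀ m : Ideal B, m.IsMaximal → Function.Bijective ((theta d B).baseChange (B ⧸ m)) :=
    fun m hm => bijective_baseChange_theta d B (B ⧸ m) (h m hm).1 (h m hm).2
  have hb : Function.Bijective (theta d B) := key h3
  exact Module.Flat.of_linearEquiv (LinearEquiv.ofBijective (theta d B) hb)

/-- Flatness of the base changed kernel from the closed fibres. -/
theorem flat_of_fibres {R : Type u} [CommRing R] [IsNoetherianRing R] (P : CochainComplex (ModuleCat.{u} R) ℤ)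
    (B : Type u) [CommRing B] [Algebra R B] [IsNoetherianRing B] (hfl : ∀ i, Module.Flat B ((bc B P).X i)) (N : ℤ)
    (hT : ∀ (M : ModuleCat.{u} B) (i : ℤ), N < i → IsZero (CohIII.T (bc B P) i M))
    (h0P : IsZero (P.X (0 - 1))) (hfinP : Module.Finite R (P.homology 0 : Type u))
    (hfinQ : ∀ i : ℤ, 0 ≤ i → Module.Finite B ((bc B P).homology i : Type u))
    (hfib : ∀ m : Ideal B, m.IsMaximal →
      Good (dd P 0 (0 + 1)) (B ⧸ m) ∧ ∀ i : ℤ, 0 < i → Ex P (B ⧸ m) i) :
    Module.Flat B (B ⊗[R] LinearMap.ker (dd P 0 (0 + 1))) := by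
  have step : ∀ i : ℤ, 0 < i → Module.Flat B (Coker (bc B P) i (i + 1)) →
      Subsingleton ((bc B P).homology i : Type u) :=
    fun i hi h => subsingleton_of_fibres (bc B P) hfl i h (hfinQ i hi.le)
      fun m hm => (ex_bc_iff P B (B ⧸ m) i).2 ((hfib m hm).2 i hi)
  let e : LinearMap.ker (dd (bc B P) 0 (0 + 1)) ≃ₗ[B] LinearMap.ker ((dd P 0 (0 + 1)).baseChange B) :=
    (bcE B (P.X 0)).ofSubmodules _ _
      (map_ker (bcE B (P.X 0)) (bcE B (P.X (0 + 1))) fun x => (Groth.L01.FlatCx.bcE_dd B P 0 (0 + 1) x).symm)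
  haveI := hfinP
  haveI : Module.Finite R (LinearMap.ker (dd P 0 (0 + 1))) := finite_ker P h0P
  haveI := hfinQ 0 le_rfl
  haveI : Module.Finite B (LinearMap.ker (dd (bc B P) 0 (0 + 1))) :=
    finite_ker (bc B P) ((ModuleCat.extendScalars (algebraMap R B)).map_isZero h0P)
  haveI := flat_ker (bc B P) hfl N hT step
  haveI : Module.Finite B (LinearMap.ker ((dd P 0 (0 + 1)).baseChange B)) := Module.Finite.equiv e
  haveI : Module.Flat B (LinearMap.ker ((dd P 0 (0 + 1)).baseChange B)) := Module.Flat.of_linearEquiv e.symm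
  exact flat_of_theta (dd P 0 (0 + 1)) B fun m hm => ⟨(hfib m hm).1,
    (good_bc_iff P B 0 (0 + 1) (B ⧸ m)).1 (univ_of_subsingleton (bc B P) hfl N hT step (B ⧸ m)).1⟩

theorem exists_cover_of_stratified {R : Type u} [CommRing R] {P : R → Ideal R → Prop} {I : Ideal R}
    (h : Groth.L20.Strata.Stratified P I) :
    ∃ T : List (R × Ideal R), (∀ x ∈ T, P x.1 x.2) ∧
      ∀ p : Ideal R, p.IsPrime → I ≤ p → ∃ x ∈ T, x.2 ≤ p ∧ x.1 ∉ p := by
  induction h with
  | top => exact ⟨[], by simp, fun p hp h => absurd (top_unique h) hp.ne_top⟩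
  | @step I a J _ haJ hP _ ih =>
    obtain ⟨T, hT, hcov⟩ := ih
    refine ⟨(a, J) :: T, List.forall_mem_cons.2 ⟨hP, hT⟩, fun p hp hI => ?_⟩
    by_cases ha : a ∈ p
    · obtain ⟨x, hx, h⟩ := hcov p hp (sup_le hI ((Ideal.span_singleton_le_iff_mem _).2 ha))
      exact ⟨x, List.mem_cons_of_mem _ hx, h⟩
    · refine ⟨(a, J), List.mem_cons_self, ?_, ha⟩
      exact (hp.mul_le.1 (haJ.trans (hp.radical_le_iff.2 hI))).resolve_left
        fun h => ha (h (Ideal.mem_span_singleton_self a))

variable [IsProper f] [IsNoetherianRing A] (hF : Coh.IsCoh F) (hamp : CohB1.IsAmple L) (hfr : Framed U L)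

theorem opn_congr {a b : List ι} (h : ∀ x, x ∈ a ↔ x ∈ b) : opn U a = opn U b :=
  le_antisymm (opn_le_opn U fun x hx => (h x).2 hx) (opn_le_opn U fun x hx => (h x).1 hx)

include hF haff in
/-- Finitely many pieces of the base with flatness over each. -/
theorem exists_pieces :
    ∃ T : List (A × Ideal A), (∀ p : Ideal A, p.IsPrime → ∃ x ∈ T, x.2 ≤ p ∧ x.1 ∉ p) ∧
      ∀ x ∈ T, FlatCov (Coh.toGlobal f) U F (Localization.Away (Ideal.Quotient.mk x.2 x.1)) := by
  classical
  haveI : Fintype ι := Fintype.ofFinite ι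
  haveI : IsLocallyNoetherian X := LocallyOfFiniteType.isLocallyNoetherian f
  let ρ := Coh.toGlobal (A := A) f
  let W : {s : Finset ι // s.Nonempty} → X.Opens := fun s => opn U s.1.toList
  have hW : ∀ s, IsAffineOpen (W s) := fun s =>
    isAffineOpen_opn U haff (i := (s.1.toList.length : ℤ) - 1) ⟨s.1.toList, by omega, by simpa using s.2.ne_empty⟩
  have hstrat : Groth.L20.Strata.Stratified
      (fun a J => ∀ s, Groth.L20.Strata.FlatOn (Sec ρ F (W s)) a J) (⊥ : Ideal A) := by
    refine Groth.L20.Strata.stratified_forall (fun s => Sec ρ F (W s)) fun s => ?_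
    letI : Algebra A Γ(X, W s) := (act ρ (W s)).toAlgebra
    haveI : Algebra.FiniteType A Γ(X, W s) := by
      have h1 : (Scheme.ΓSpecIso (CommRingCat.of A)).inv.hom.FiniteType :=
        RingHom.FiniteType.of_surjective _
          (ConcreteCategory.bijective_of_isIso (Scheme.ΓSpecIso (CommRingCat.of A)).inv).2
      exact (f.finiteType_appLE (isAffineOpen_top _) (hW s) le_top).comp h1
    haveI : Algebra.FinitePresentation A Γ(X, W s) := Algebra.FinitePresentation.of_finiteType.1 inferInstance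
    letI : Module Γ(X, W s) (Sec ρ F (W s)) := inferInstanceAs (Module Γ(X, W s) Γ(F, W s))
    haveI : IsScalarTower A Γ(X, W s) (Sec ρ F (W s)) := IsScalarTower.of_algebraMap_smul fun _ _ => rfl
    haveI : IsNoetherianRing Γ(X, W s) := IsLocallyNoetherian.component_noetherian ⟨W s, hW s⟩
    haveI : Module.Finite Γ(X, W s) (Sec ρ F (W s)) := Groth.L20.ModStalk.finite_sections F hF (hW s)
    haveI : Module.FinitePresentation Γ(X, W s) (Sec ρ F (W s)) := Module.finitePresentation_of_finite _ _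
    exact Groth.L20.Strata.stratified_flatOn (A := Γ(X, W s)) (Sec ρ F (W s))
  obtain ⟨T, hT, hcov⟩ := exists_cover_of_stratified hstrat
  refine ⟨T, fun p hp => hcov p hp bot_le, fun x hx a ha => ?_⟩
  let C := Localization.Away (Ideal.Quotient.mk x.2 x.1)
  have e : opn U a = W ⟨a.toFinset, List.toFinset_nonempty_iff a |>.2 ha⟩ :=
    opn_congr U fun y => by simp
  rw [e]
  refine hT x hx _ C ?_ ?_
  · rw [IsScalarTower.algebraMap_apply A (A ⧸ x.2) C]
    exact IsLocalization.Away.algebraMap_isUnit (Ideal.Quotient.mk x.2 x.1)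
  · rw [IsScalarTower.algebraMap_eq A (A ⧸ x.2) C, ← Ideal.map_map, Ideal.Quotient.algebraMap_eq,
      Ideal.map_quotient_self, Ideal.map_bot]

include hcov haff hF hamp hfr in
/-- For large twists the fibres have no higher cohomology and compute the global sections, uniformly. -/
theorem exists_fibres :
    ∃ N : ℕ, ∀ n, N ≤ n → ∀ (k : Type u) [CommRing k] [Algebra A k], IsField k →
      Good (dd (K (Coh.toGlobal f) (Fn L F n) U) 0 (0 + 1)) k ∧
        ∀ i : ℤ, 0 < i → Ex (K (Coh.toGlobal f) (Fn L F n) U) k i := by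
  classical
  haveI : IsLocallyNoetherian X := LocallyOfFiniteType.isLocallyNoetherian f
  haveI := hF.1
  obtain ⟨T, hcovT, hflat⟩ := exists_pieces f F U haff hF
  choose N₁ hN₁ using fun x : A × Ideal A => exists_good_quotient f hamp F hF U hcov haff x.2
  choose N₂ hN₂ using fun x : A × Ideal A =>
    exists_vanishing_bc f L F U hcov haff (Localization.Away (Ideal.Quotient.mk x.2 x.1)) hF hamp
  refine ⟨T.toFinset.sup fun x => max (N₁ x) (N₂ x), fun n hn k _ _ hk => ?_⟩
  letI := hk.toField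
  have hker : (RingHom.ker (algebraMap A k)).IsPrime := RingHom.ker_isPrime _
  obtain ⟨x, hx, hJ, ha⟩ := hcovT _ hker
  have hn' : max (N₁ x) (N₂ x) ≤ n :=
    le_trans (Finset.le_sup (f := fun x => max (N₁ x) (N₂ x)) (List.mem_toFinset.2 hx)) hn
  let B := Localization.Away (Ideal.Quotient.mk x.2 x.1)
  let ψ : A ⧸ x.2 →+* k := Ideal.Quotient.lift x.2 (algebraMap A k) fun a ha => hJ ha
  let φ : B →+* k := IsLocalization.Away.lift (Ideal.Quotient.mk x.2 x.1) (g := ψ) (by
    obtain ⟨b, hb⟩ := hk.mul_inv_cancel (a := algebraMap A k x.1) fun h => ha h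
    exact IsUnit.of_mul_eq_one (a := ψ (Ideal.Quotient.mk x.2 x.1)) b hb)
  algebraize [φ]
  haveI : IsScalarTower A B k := IsScalarTower.of_algebraMap_eq fun a => by
    rw [IsScalarTower.algebraMap_apply A (A ⧸ x.2) B, RingHom.algebraMap_toAlgebra, IsLocalization.Away.lift_eq]
    rfl
  let P := K (Coh.toGlobal f) (Fn L F n) U
  haveI := isQCoh_Fn L F hamp.1 n
  have hGB : Good (dd P 0 (0 + 1)) B := by
    haveI : Module.Flat (A ⧸ x.2) B := IsLocalization.flat B (Submonoid.powers (Ideal.Quotient.mk x.2 x.1))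
    exact good_trans _ (A ⧸ x.2) B (hN₁ x n ((le_max_left _ _).trans hn')) (good_of_flat _ _)
  have hu := univ_of_subsingleton (bc B P) (flat_bc_K _ U hfr B (hflat x hx) n) _
    (isZero_T_bc f L F U hcov haff B n) (fun i hi _ => hN₂ x n ((le_max_right _ _).trans hn') i hi) k
  exact ⟨good_trans _ B k hGB ((good_bc_iff P B 0 (0 + 1) k).1 hu.1), fun i hi => (ex_bc_iff P B k i).1 (hu.2 i hi)⟩

include hcov haff hF hamp hfr in
/-- Over a Noetherian algebra with flat pullback, global sections of large twists are flat and commute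
with base change. -/
theorem exists_flat_of_flatCov :
    ∃ N : ℕ, ∀ n, N ≤ n → ∀ (B : Type u) [CommRing B] [Algebra A B] [IsNoetherianRing B],
      FlatCov (Coh.toGlobal f) U F B →
        Module.Flat B (B ⊗[A] LinearMap.ker (dd (K (Coh.toGlobal f) (Fn L F n) U) 0 (0 + 1))) := by
  haveI : IsLocallyNoetherian X := LocallyOfFiniteType.isLocallyNoetherian f
  haveI := hF.1
  obtain ⟨N, hN⟩ := exists_fibres f L F U hcov haff hF hamp hfr
  refine ⟨N, fun n hn B _ _ _ hB => ?_⟩
  haveI := isQCoh_Fn L F hamp.1 n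
  obtain ⟨E⟩ := exists_homology_equiv (Coh.toGlobal f) (Fn L F n) U hcov haff 0
  letI : X.Over (Spec (CommRingCat.of A)) := ⟨f⟩
  haveI : IsProper (X ↘ Spec (CommRingCat.of A)) := ‹IsProper f›
  haveI := Groth.L16.ProperFinite.finite_HH A
    (Groth.L03.Euler.isCoh_tensor (Groth.L18.Ample.isInvertible_tensorPow hamp.1 n) hF) 0
  have hfinP := Module.Finite.equiv E.symm
  exact flat_of_fibres (K (Coh.toGlobal f) (Fn L F n) U) B (flat_bc_K (Coh.toGlobal f) U hfr B hB n) _
    (isZero_T_bc f L F U hcov haff B n) (isZero_K U _ _ (by omega)) hfinP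
    (fun i hi => finite_homology_bc f L F U hcov haff B hF hamp.1 n i hi)
    fun m hm => hN n hn (B ⧸ m) ((Ideal.Quotient.maximal_ideal_iff_isField_quotient m).1 hm)

end Groth.L17.Strat
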