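import Groth.Agent.L17.BC.FlatCrit
import Groth.Agent.L17.Strat.GenBase
import Groth.Agent.L00.TensorQCoh
import Groth.Agent.L21.Extend.Semilocal

/-!
# Locally free direct images of large twists force flatness, over any base
-/

set_option autoImplicit false
set_option linter.style.haveILetI false
set_option linter.unusedSectionVars false
set_option backward.isDefEq.respectTransparency false

universe u

open CategoryTheory CategoryTheory.Limits AlgebraicGeometry TopologicalSpace Opposite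

noncomputable section

namespace Groth.L17.Strat

open Groth.L17.BC Groth.L17.BC.FlatCrit
open Groth.L18.Ample (isInvertible_tensorPow)

variable {X S : Scheme.{u}} (f : X ⟶ S)

/-- A twist of a quasi-coherent module by powers of an invertible module is quasi-coherent. -/
theorem isQCoh_twist (F L : X.Modules) [Coh.IsQCoh F] (hL : PicF.IsInvertible L) (n : ℕ) :
    Coh.IsQCoh (CohB1.tensorMod F (CohB1.tensorPow L n)) := by
  haveI := Groth.L21.Extend.isQCoh_of_isInvertible (isInvertible_tensorPow hL n)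
  exact Groth.L00.Tensor.isQCoh_tensorMod F _

/-- Locally free direct images of large twists force flatness. -/
theorem isFlatOver_of_locFree_twists [QuasiCompact f] [QuasiSeparated f] {F : X.Modules} [Coh.IsQCoh F]
    {L : X.Modules} (hamp : RelAmple.IsRelAmple f L) (n₀ : ℕ)
    (h : ∀ n, n₀ ≤ n → FlatMod.IsFinLocFree ((Coh.push f).obj (CohB1.tensorMod F (CohB1.tensorPow L n)))) :
    FlatMod.IsFlatOver f F := by
  have hL := isInvertible_of_isRelAmple hamp
  intro x
  obtain ⟨_, ⟨V, hV, rfl⟩, hxV, -⟩ := S.isBasis_affineOpens.exists_subset_of_mem_open (Set.mem_univ (f x)) isOpen_univ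
  obtain ⟨hL', hc, hs⟩ := hamp.2 ⟨V, hV⟩
  haveI := hc
  haveI : (↑(f ⁻¹ᵁ V) : Scheme.{u}).IsSeparated := Groth.L18.Ample.isSeparated_of_isAmple (hamp.2 ⟨V, hV⟩)
  haveI : Coh.IsQCoh (FV f (V := V) F) := Scheme.Modules.isQuasicoherent_restrictFunctor _ F
  obtain ⟨m, s, hxs, haff⟩ := hs ⟨x, hxV⟩
  let ρ := Coh.toGlobal (A := Γ(S, V)) (fV f hV)
  haveI : Module.Flat Γ(S, V) (Sec ρ (FV f (V := V) F) (CohB1.genLocus _ s)) := by
    refine TwistFrame.flat_genLocus ρ (isInvertible_tensorPow hL' (m + 1)) s n₀ fun k hk => ?_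
    obtain ⟨e⟩ := FlatCrit.nonempty_twistEquiv f hV F L (m + 1) k
    have hfree := h ((m + 1) * k) (hk.trans (Nat.le_mul_of_pos_left k (Nat.succ_pos m)))
    haveI := isQCoh_twist F L hL ((m + 1) * k)
    haveI : Coh.IsQCoh ((Coh.push f).obj (CohB1.tensorMod F (CohB1.tensorPow L ((m + 1) * k)))) :=
      Groth.L16.QcqsPush.isQCoh_push _ f
    haveI := Groth.L18.LFP.flat_sections _ (Groth.L29.DC.isFlat_of_isFinLocFree hfree) hV
    exact Module.Flat.of_linearEquiv e
  let G := (f ⁻¹ᵁ V).ι ''ᵁ CohB1.genLocus _ s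
  have hG : IsAffineOpen G := haff.image_of_isOpenImmersion _
  have hGV : G ≤ f ⁻¹ᵁ V := (Scheme.Hom.image_le_opensRange _ _).trans_eq (f ⁻¹ᵁ V).opensRange_ι
  have hxG : x ∈ G := ⟨⟨x, hxV⟩, hxs, rfl⟩
  rw [Groth.L20.ModStalk.isFlatOverAt_iff f F hV hG hGV hxG]
  letI : Algebra Γ(S, V) Γ(X, G) := (f.appLE V G hGV).hom.toAlgebra
  letI : Module Γ(S, V) Γ(F, G) := Module.compHom Γ(F, G) (f.appLE V G hGV).hom
  haveI : IsScalarTower Γ(S, V) Γ(X, G) Γ(F, G) := IsScalarTower.of_algebraMap_smul fun _ _ => rfl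
  let e : Sec ρ (FV f (V := V) F) (CohB1.genLocus _ s) ≃ₗ[Γ(S, V)] Γ(F, G) :=
    { (AddEquiv.refl Γ(F, G)) with map_smul' := fun a t => FlatCrit.sec_smul f hV F hGV a t }
  haveI : Module.Flat Γ(S, V) Γ(F, G) := Module.Flat.of_linearEquiv e.symm
  refine Groth.L20.flat_localizedModule_of_forall _ fun J z hz => ⟨1, one_mem _, ?_⟩
  rw [one_smul]
  exact (injective_iff_map_eq_zero _).1
    (Module.Flat.lTensor_preserves_injective_linearMap _ Subtype.val_injective) z hz

end Groth.L17.Strat
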