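import Groth.Agent.L17.Strat.FlatPb
import Groth.Agent.L17.Approx.Model

/-!
# Flatness of a pullback descends to a finitely generated algebra
-/

set_option autoImplicit false
set_option linter.style.haveILetI false
set_option linter.unusedSectionVars false
set_option backward.isDefEq.respectTransparency false

universe u

open CategoryTheory CategoryTheory.Limits AlgebraicGeometry TopologicalSpace
open scoped TensorProduct

noncomputable section

namespace Groth.L17.Strat

open Groth.L17.BC (act Sec)

/-- Flatness of a base change is attained on a finitely generated subalgebra. -/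
theorem exists_flat_subalgebra {A₀ : Type u} [CommRing A₀] {B M : Type u} [CommRing B] [Algebra A₀ B]
    [Algebra.FinitePresentation A₀ B] [AddCommGroup M] [Module B M] [Module A₀ M] [IsScalarTower A₀ B M]
    [Module.FinitePresentation B M] (R : Type u) [CommRing R] [Algebra A₀ R] [Module.Flat R (R ⊗[A₀] M)] :
    ∃ S : Finset R, ∀ C : Subalgebra A₀ R, (S : Set R) ⊆ C → Module.Flat C (C ⊗[A₀] M) := by
  obtain ⟨d, n, Z, hZ, K, ⟨e⟩⟩ := Groth.L07.FlatDescent.exists_model A₀ (B₀ := B) M
  haveI := hZ
  obtain ⟨e₁⟩ := Groth.L07.FlatDescent.exists_modelEquiv K e R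
  haveI : Module.Flat R (Groth.L07.FlatDescent.MC R K) := Module.Flat.of_linearEquiv e₁.symm
  obtain ⟨B', ⟨S, hS⟩, hB'⟩ := Groth.L07.FlatDescent.exists_fg_stage K R
  refine ⟨S, fun C hSC => ?_⟩
  have hmem : ∀ b ∈ B', b ∈ C := by
    intro b hb
    rw [← hS] at hb
    induction hb using Algebra.adjoin_induction with
    | mem x hx => exact hSC hx
    | algebraMap r => exact C.algebraMap_mem (algebraMap Z A₀ r)
    | add x y _ _ hx hy => exact C.add_mem hx hy
    | mul x y _ _ hx hy => exact C.mul_mem hx hy
  let χ : B' →+* C :=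
    { toFun := fun b => ⟨b.1, hmem b.1 b.2⟩
      map_one' := rfl
      map_mul' := fun _ _ => rfl
      map_zero' := rfl
      map_add' := fun _ _ => rfl }
  letI := χ.toAlgebra
  haveI : IsScalarTower Z B' C := IsScalarTower.of_algebraMap_eq fun r => rfl
  haveI : Module.Flat B' (Groth.L07.FlatDescent.MC B' K) := hB'
  haveI := Groth.L07.FlatDescent.flat_MC_of_flat K (A := B') (C := C)
  obtain ⟨e₂⟩ := Groth.L07.FlatDescent.exists_modelEquiv K e C
  exact Module.Flat.of_linearEquiv e₂

/-- A flat pullback to an algebra comes from a flat pullback to a Noetherian subalgebra. -/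
theorem exists_flatPb_stage {A₀ R : Type u} [CommRing A₀] [IsNoetherianRing A₀] [CommRing R] [Algebra A₀ R]
    {X : Scheme.{u}} (f : X ⟶ Spec (CommRingCat.of A₀)) [IsProper f] (F : X.Modules) (hF : Coh.IsCoh F)
    (h : FlatPb f F (Spec.map (CommRingCat.ofHom (algebraMap A₀ R)))) :
    ∃ C : Subalgebra A₀ R, IsNoetherianRing C ∧ FlatPb f F (Spec.map (CommRingCat.ofHom (algebraMap A₀ C))) := by
  classical
  haveI : IsLocallyNoetherian X := LocallyOfFiniteType.isLocallyNoetherian f
  haveI : LocallyOfFinitePresentation f := inferInstance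
  haveI : CompactSpace X := QuasiCompact.compactSpace_of_compactSpace f
  haveI : X.IsSeparated := ⟨by rw [← terminal.comp_from f]; infer_instance⟩
  haveI : Coh.IsQCoh F := hF.1
  obtain ⟨d, W, hcov, haff⟩ := Groth.L17.BC.exists_affine_cover (X := X)
  have hW : ∀ k, IsAffineOpen (W k) := fun k => by simpa using haff 0 fun _ => k
  let φR := Spec.map (CommRingCat.ofHom (algebraMap A₀ R))
  let g := pullback.fst f φR
  let fR := pullback.snd f φR
  have sq : IsPullback g fR f φR := IsPullback.of_hasPullback f φR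
  haveI := Groth.L17.BC.isAffineHom_of_isPullback f fR g sq
  haveI : Coh.IsQCoh ((Scheme.Modules.pullback g).obj F) := Groth.L16.AffineBC.isQCoh_pullback g F
  let ρ := Coh.toGlobal f
  have key : ∀ k, ∃ S : Finset R, ∀ C : Subalgebra A₀ R, (S : Set R) ⊆ C →
      Module.Flat C (C ⊗[A₀] Sec ρ F (W k)) := by
    intro k
    letI : Algebra A₀ Γ(X, W k) := (act ρ (W k)).toAlgebra
    letI : Module Γ(X, W k) (Sec ρ F (W k)) := inferInstanceAs (Module Γ(X, W k) Γ(F, W k))
    haveI : IsScalarTower A₀ Γ(X, W k) (Sec ρ F (W k)) := IsScalarTower.of_algebraMap_smul fun _ _ => rfl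
    haveI : Algebra.FinitePresentation A₀ Γ(X, W k) := by
      have h1 := f.finitePresentation_appLE (isAffineOpen_top _) (hW k) le_top
      have h2 : (act ρ (W k)).FinitePresentation := by
        have e : act ρ (W k) =
            (f.appLE ⊤ (W k) le_top).hom.comp (Scheme.ΓSpecIso (CommRingCat.of A₀)).inv.hom :=
          RingHom.ext fun a => rfl
        rw [e]
        exact RingHom.FinitePresentation.comp h1 (RingHom.FinitePresentation.of_bijective
          (ConcreteCategory.bijective_of_isIso (Scheme.ΓSpecIso (CommRingCat.of A₀)).inv))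
      exact h2
    haveI : IsNoetherianRing Γ(X, W k) := IsLocallyNoetherian.component_noetherian ⟨W k, hW k⟩
    haveI : Module.Finite Γ(X, W k) (Sec ρ F (W k)) := Groth.L20.ModStalk.finite_sections F hF (hW k)
    haveI : Module.FinitePresentation Γ(X, W k) (Sec ρ F (W k)) := Module.finitePresentation_of_finite _ _
    haveI : Module.Flat R (R ⊗[A₀] Sec ρ F (W k)) := by
      have hbc := Groth.L17.BC.hasBC_of_isPullback f fR g sq F (W k) (hW k) _ rfl
      haveI := Groth.L17.BC.flat_sec fR ((Scheme.Modules.pullback g).obj F) h ((hW k).preimage g)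
      exact Module.Flat.of_linearEquiv hbc.equiv
    exact exists_flat_subalgebra (B := Γ(X, W k)) R
  choose S hS using key
  let C : Subalgebra A₀ R := Algebra.adjoin A₀ ((Finset.univ.biUnion S : Finset R) : Set R)
  haveI : Algebra.FiniteType A₀ C := C.fg_iff_finiteType.mp ⟨_, rfl⟩
  haveI : IsNoetherianRing C := Algebra.FiniteType.isNoetherianRing A₀ C
  refine ⟨C, ‹_›, ?_⟩
  let φC := Spec.map (CommRingCat.ofHom (algebraMap A₀ C))
  let gC := pullback.fst f φC
  let fC := pullback.snd f φC
  have sqC : IsPullback gC fC f φC := IsPullback.of_hasPullback f φC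
  haveI := Groth.L17.BC.isAffineHom_of_isPullback f fC gC sqC
  haveI : Coh.IsQCoh ((Scheme.Modules.pullback gC).obj F) := Groth.L16.AffineBC.isQCoh_pullback gC F
  refine Groth.L17.Approx.isFlatOver_of_flat_sec fC _ (fun k => gC ⁻¹ᵁ W k) (fun k => (hW k).preimage gC)
    (fun x => by
      obtain ⟨k, hk⟩ := Opens.mem_iSup.1 (show gC x ∈ ⨆ k, W k from hcov ▸ trivial)
      exact ⟨k, hk⟩) fun k => ?_
  have hbc := Groth.L17.BC.hasBC_of_isPullback f fC gC sqC F (W k) (hW k) _ rfl
  haveI := hS k C fun x hx => Algebra.subset_adjoin (Finset.mem_biUnion.2 ⟨k, Finset.mem_univ k, hx⟩)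
  exact Module.Flat.of_linearEquiv hbc.equiv.symm

end Groth.L17.Strat
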