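import Groth.Agent.L17.Strat.Stratum

/-!
# The stratum of a Hilbert polynomial over an affine open of the base
-/

set_option autoImplicit false
set_option linter.style.haveILetI false
set_option linter.unusedSectionVars false
set_option backward.isDefEq.respectTransparency false

universe u

open CategoryTheory CategoryTheory.Limits AlgebraicGeometry TopologicalSpace

noncomputable section

namespace Groth.L17.Strat

open Groth.L17.BC

variable {X S : Scheme.{u}} (f : X ⟶ S) [IsProper f] [LocallyOfFinitePresentation f] (L F : X.Modules)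
  (Φ : Polynomial ℚ)

/-- The points at which the fibre Hilbert polynomial is `Φ`. -/
def locus : Set S := {s | ∀ n : ℕ, (fib f L F s n : ℚ) = Φ.eval (n : ℚ)}

/-- The condition cutting out the stratum. -/
def InLocus {T : Scheme.{u}} (g : T ⟶ S) : Prop := FlatPb f F g ∧ ∀ t : T, g t ∈ locus f L F Φ

/-- Hilbert polynomials agreeing on multiples agree. -/
theorem mem_locus_iff_mul (hL : PicF.IsInvertible L) (hfp : CohB1.IsFP F) {d : ℕ} (hd : 0 < d) (s : S) :
    s ∈ locus f L F Φ ↔ ∀ q : ℕ, (fib f L F s (d * q) : ℚ) = Φ.eval ((d * q : ℕ) : ℚ) := by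
  refine ⟨fun h q => h _, fun h => ?_⟩
  obtain ⟨P, hP⟩ := exists_fib_poly' f L F hL hfp s
  have : P = Φ := Polynomial.eq_of_infinite_eval_eq P Φ <| ((Set.infinite_range_of_injective
    (f := fun q : ℕ => ((d * q : ℕ) : ℚ)) fun a b hab => mul_left_cancel₀ hd.ne' (Nat.cast_injective hab)).mono (by
      rintro _ ⟨q, rfl⟩
      show P.eval _ = Φ.eval _
      rw [← hP, h q]))
  intro n
  rw [hP n, this]

/-- The stratum over an affine open of the base. -/
theorem exists_locus_chart (hamp : RelAmple.IsRelAmple f L) (hfp : CohB1.IsFP F) {V : S.Opens}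
    (hV : IsAffineOpen V) :
    ∃ (W : Scheme.{u}) (w : W ⟶ Spec Γ(S, V)), IsImmersion w ∧ QuasiCompact w ∧ LocallyOfFinitePresentation w ∧
      Set.range w = hV.fromSpec ⁻¹' locus f L F Φ ∧
      ∀ (R : CommRingCat.{u}) (ψ : Spec R ⟶ Spec Γ(S, V)),
        (∃ h : Spec R ⟶ W, h ≫ w = ψ) ↔ InLocus f L F Φ (ψ ≫ hV.fromSpec) := by
  haveI : LocallyOfFinitePresentation (fV f hV) :=
    MorphismProperty.of_isPullback (Groth.L17.BC.Classes.isPullback_ι_fV f hV) ‹_›
  obtain ⟨d, hd, hmodel⟩ := exists_ample_model (A := Γ(S, V)) (fV f hV) (hamp.2 ⟨V, hV⟩)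
  haveI := isQCoh_of_isFP F hfp
  haveI : Coh.IsQCoh (FV f (V := V) F) := Scheme.Modules.isQuasicoherent_restrictFunctor _ F
  obtain ⟨A₂, hA₂, X₂, f₂, g, L₂, F₂, hf₂, hamp₂, hF₂, sq, ⟨eL⟩, ⟨eF⟩⟩ :=
    hmodel (FV f (V := V) F) (Groth.L17.Approx.isFP_restrict _ F hfp)
  haveI := hf₂; haveI := hA₂
  haveI : IsLocallyNoetherian X₂ := LocallyOfFiniteType.isLocallyNoetherian f₂
  haveI : IsProper (fV f hV) := inferInstance
  let φ := Spec.map (CommRingCat.ofHom (algebraMap (↥A₂) Γ(S, V)))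
  have hLi := isInvertible_of_isRelAmple hamp
  have hfib : ∀ x q, fib f₂ L₂ F₂ (φ x) q = fib f L F (hV.fromSpec x) (d * q) := fun x q => by
    rw [← fib_baseChange f₂ L₂ F₂ (isInvertible_of_isRelAmple hamp₂) (fun s => Groth.L16.AffineBC.isCoh_pullback _ hF₂)
        sq _ _ eL eF x q, fib_pow,
      fib_baseChange f L F hLi (isCoh_fibre f F hfp)
        (Groth.L17.BC.Classes.isPullback_ι_fV f hV) _ _
        ((Scheme.Modules.restrictFunctorIsoPullback (f ⁻¹ᵁ V).ι).app L).symm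
        ((Scheme.Modules.restrictFunctorIsoPullback (f ⁻¹ᵁ V).ι).app F).symm x (d * q)]
  obtain ⟨W₂, e, he, heqc, helfp, hrange, huniv⟩ :=
    exists_stratum f₂ L₂ F₂ hF₂ hamp₂ fun q => Φ.eval ((d * q : ℕ) : ℚ)
  haveI := he; haveI := heqc; haveI := helfp
  have hmem : ∀ x, hV.fromSpec x ∈ locus f L F Φ ↔
      ∀ q, (fib f₂ L₂ F₂ (φ x) q : ℚ) = Φ.eval ((d * q : ℕ) : ℚ) := fun x => by
    rw [mem_locus_iff_mul f L F Φ hLi hfp hd]
    simp only [hfib]
  refine ⟨pullback φ e, pullback.fst φ e, inferInstance, inferInstance, inferInstance, ?_, fun R ψ => ?_⟩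
  · rw [Scheme.Pullback.range_fst, hrange]
    ext x
    exact (hmem x).symm
  · have hpb : (∃ h : Spec R ⟶ pullback φ e, h ≫ pullback.fst φ e = ψ) ↔ ∃ k : Spec R ⟶ W₂, k ≫ e = ψ ≫ φ := by
      constructor
      · rintro ⟨h, rfl⟩
        exact ⟨h ≫ pullback.snd φ e, by rw [Category.assoc, Category.assoc, pullback.condition]⟩
      · rintro ⟨k, hk⟩
        exact ⟨pullback.lift ψ k hk.symm, pullback.lift_fst _ _ _⟩
    rw [hpb, huniv R (ψ ≫ φ)]
    have hflat : FlatPb f₂ F₂ (ψ ≫ φ) ↔ FlatPb f F (ψ ≫ hV.fromSpec) :=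
      (flatPb_change_iff sq eF ψ).symm.trans (flatPb_change_iff (Groth.L17.BC.Classes.isPullback_ι_fV f hV)
        ((Scheme.Modules.restrictFunctorIsoPullback (f ⁻¹ᵁ V).ι).app F).symm ψ)
    refine and_congr hflat (forall_congr' fun t => ?_)
    rw [Scheme.Hom.comp_apply, Scheme.Hom.comp_apply]
    exact (hmem (ψ t)).symm

end Groth.L17.Strat
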