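import Groth.Agent.L17.Strat.Chart
import Groth.Agent.L17.Strat.Rk
import Groth.Agent.L16.Exist.PushPull
import Mathlib.AlgebraicGeometry.Limits

/-!
# The flattening stratification of a coherent module on a proper scheme with a relatively ample sheaf
-/

set_option autoImplicit false
set_option linter.style.haveILetI false
set_option linter.unusedSectionVars false
set_option backward.isDefEq.respectTransparency false

universe u

open CategoryTheory CategoryTheory.Limits AlgebraicGeometry TopologicalSpace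
open scoped TensorProduct

noncomputable section

namespace Groth.L17.Strat

open Groth.L17.BC
open Groth.L01.FlatCx (mu mu_baseChange isLocallyConstant_mu)

variable {X S : Scheme.{u}} (f : X ⟶ S) (L F : X.Modules)

/-- Direct image of the `n`-th twist. -/
abbrev Mn (n : ℕ) : S.Modules := (Coh.push f).obj (Fn L F n)

/-- The sequence of fibre ranks of the direct images of the twists from `N` on. -/
def seq (N : ℕ) (s : S) : ℕ → ℕ := fun n => rk (Mn f L F (N + n)) s

variable [IsProper f] [IsLocallyNoetherian S] (hL : PicF.IsInvertible L) (hF : Coh.IsCoh F)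

include hL hF in
theorem isCoh_Mn (n : ℕ) : Coh.IsCoh (Mn f L F n) := by
  haveI : IsLocallyNoetherian X := LocallyOfFiniteType.isLocallyNoetherian f
  exact Groth.L16.Exist.isCoh_pushforward f
    (Groth.L03.Euler.isCoh_tensor (Groth.L18.Ample.isInvertible_tensorPow hL n) hF)

variable (hamp : RelAmple.IsRelAmple f L)

include hL hF hamp in
theorem exists_finite_range {V : S.Opens} (hV : IsAffineOpen V) :
    ∃ N, ∀ N', N ≤ N' → {σ : ℕ → ℕ | ∃ s ∈ V, seq f L F N' s = σ}.Finite := by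
  let Z : Scheme.{u} := ↑(f ⁻¹ᵁ V)
  let A : Type u := Γ(S, V)
  haveI : IsNoetherianRing A := IsLocallyNoetherian.component_noetherian ⟨V, hV⟩
  let fz : Z ⟶ Spec (CommRingCat.of A) := fV f hV
  haveI : IsProper fz := inferInstanceAs (IsProper (fV f hV))
  have hamp' : CohB1.IsAmple (L.restrict (f ⁻¹ᵁ V).ι) := hamp.2 ⟨V, hV⟩
  haveI := hamp'.2.1
  haveI : Z.IsSeparated := Groth.L18.Ample.isSeparated_of_isAmple hamp'
  obtain ⟨t, U, hcov, hfr, haff⟩ := exists_framed_cover hamp'.1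
  have hF' := isCoh_FV (V := V) f hF
  obtain ⟨P, hcovP, hflatP⟩ := exists_pieces fz (FV f (V := V) F) U haff hF'
  obtain ⟨N, hN⟩ := exists_flat_of_flatCov fz _ (FV f (V := V) F) U hcov haff hF' hamp' hfr
  refine ⟨N, fun N' hN' => ?_⟩
  classical
  let B : A × Ideal A → Type u := fun x => Localization.Away (Ideal.Quotient.mk x.2 x.1)
  let val : ∀ x, PrimeSpectrum (B x) → (ℕ → ℕ) := fun x q n =>
    mu Γ(Mn f L F (N' + n), V) (PrimeSpectrum.comap (algebraMap A (B x)) q)
  have hfin : ∀ x, Set.Finite {q : PrimeSpectrum (B x) | q.asIdeal ∈ minimalPrimes (B x)} := fun x =>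
    ((minimalPrimes.finite_of_isNoetherianRing (B x)).preimage (fun a _ b _ h => PrimeSpectrum.ext h))
  refine (P.toFinset.finite_toSet.biUnion fun x _ => (hfin x).image (val x)).subset ?_
  rintro σ ⟨s, hs, rfl⟩
  obtain ⟨x, hx, hJ, ha⟩ := hcovP (hV.primeIdealOf ⟨s, hs⟩).asIdeal inferInstance
  obtain ⟨q, hq⟩ : hV.primeIdealOf ⟨s, hs⟩ ∈ Set.range (PrimeSpectrum.comap (algebraMap A (B x))) := by
    have h1 : hV.primeIdealOf ⟨s, hs⟩ ∈ Set.range (PrimeSpectrum.comap (Ideal.Quotient.mk x.2)) := by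
      rw [_root_.range_comap_of_surjective _ _ Ideal.Quotient.mk_surjective, Ideal.mk_ker]
      exact hJ
    obtain ⟨p, hp⟩ := h1
    have h2 : p ∈ Set.range (PrimeSpectrum.comap (algebraMap (A ⧸ x.2) (B x))) := by
      rw [PrimeSpectrum.localization_away_comap_range (B x) (Ideal.Quotient.mk x.2 x.1)]
      intro h
      exact ha (hp ▸ h)
    obtain ⟨q, hq⟩ := h2
    refine ⟨q, ?_⟩
    rw [← hp, ← hq, IsScalarTower.algebraMap_eq A (A ⧸ x.2) (B x), PrimeSpectrum.comap_comp_apply]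
    rfl
  obtain ⟨Q, hQ, hQq⟩ := Ideal.exists_minimalPrimes_le (I := (⊥ : Ideal (B x))) (J := q.asIdeal) bot_le
  haveI hQp : Q.IsPrime := hQ.1.1
  refine Set.mem_biUnion (List.mem_toFinset.2 hx) ⟨⟨Q, hQp⟩, hQ, funext fun n => ?_⟩
  show mu Γ(Mn f L F (N' + n), V) _ = rk (Mn f L F (N' + n)) s
  rw [rk_eq_mu (isCoh_Mn f L F hL hF _) hV hs, ← hq, ← mu_baseChange, ← mu_baseChange]
  haveI := Groth.L20.ModStalk.finite_sections _ (isCoh_Mn f L F hL hF (N' + n)) hV
  haveI : Module.FinitePresentation (B x) (B x ⊗[A] Γ(Mn f L F (N' + n), V)) :=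
    Module.finitePresentation_of_finite _ _
  obtain ⟨E₁⟩ := nonempty_topEquiv (Coh.toGlobal fz) (Fn (L.restrict (f ⁻¹ᵁ V).ι) (FV f (V := V) F) (N' + n)) U hcov
  obtain ⟨E₂⟩ := nonempty_twistTop f hV F L (N' + n)
  haveI := hN (N' + n) (by omega) (B x) (hflatP x hx)
  haveI : Module.Flat (B x) (B x ⊗[A] Γ(Mn f L F (N' + n), V)) :=
    Module.Flat.of_linearEquiv (LinearEquiv.baseChange A (B x) _ _ (E₂.symm.trans E₁))
  have hspec : (⟨Q, hQp⟩ : PrimeSpectrum (B x)) ⤳ q := (PrimeSpectrum.le_iff_specializes _ _).1 hQq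
  exact hspec.mem_open (isLocallyConstant_mu (B x ⊗[A] Γ(Mn f L F (N' + n), V)) {_}) (Set.mem_singleton _)

omit [IsLocallyNoetherian S] in
variable [IsNoetherian S] in
include hL hF hamp in
theorem exists_uniform (N₀ : ℕ) :
    ∃ N, N₀ ≤ N ∧ (Set.range (seq f L F N)).Finite ∧
      ∀ {T XT : Scheme.{u}} [IsLocallyNoetherian T] {φ : T ⟶ S} {gT : XT ⟶ X} {fT : XT ⟶ T},
        IsPullback gT fT f φ → FlatMod.IsFlatOver fT ((Scheme.Modules.pullback gT).obj F) →
        ∀ (t : T) (O : T.Opens), t ∈ O → ∃ (V : S.Opens) (_ : IsAffineOpen V) (W' : T.Opens)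
          (_ : IsAffineOpen W') (e : W' ≤ φ ⁻¹ᵁ V), t ∈ W' ∧ W' ≤ O ∧ ∀ n, N ≤ n →
            letI := (φ.appLE V W' e).hom.toAlgebra
            Module.Flat Γ(T, W') (Γ(T, W') ⊗[Γ(S, V)] Γ(Mn f L F n, V)) := by
  classical
  choose V hV hsV using fun s : S => (Opens.isBasis_iff_nbhd.1 S.isBasis_affineOpens) (Opens.mem_top s)
  obtain ⟨C, hC⟩ := isCompact_univ.elim_finite_subcover (fun s : S => (V s : Set S)) (fun s => (V s).2)
    (fun s _ => Set.mem_iUnion.2 ⟨s, (hsV s).1⟩)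
  choose N₁ hN₁ using fun s => exists_finite_range f L F hL hF hamp (hV s)
  choose N₂ hN₂ using fun s => exists_fwd f (hV s) hamp hF
  let N := max N₀ (C.sup fun s => max (N₁ s) (N₂ s))
  have hle : ∀ s ∈ C, max (N₁ s) (N₂ s) ≤ N := fun s hs =>
    (Finset.le_sup (f := fun s => max (N₁ s) (N₂ s)) hs).trans (le_max_right _ _)
  refine ⟨N, le_max_left _ _, (C.finite_toSet.biUnion fun c hc => hN₁ c N ((le_max_left _ _).trans (hle c hc))).subset ?_, ?_⟩
  · rintro _ ⟨s, rfl⟩
    obtain ⟨c, hc, hs⟩ := Set.mem_iUnion₂.1 (hC (Set.mem_univ s))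
    exact Set.mem_biUnion hc ⟨s, hs, rfl⟩
  intro T XT _ φ gT fT hc hfl t O htO
  obtain ⟨c, hcC, hs⟩ := Set.mem_iUnion₂.1 (hC (Set.mem_univ (φ t)))
  obtain ⟨_, ⟨W', hW', rfl⟩, htW, hWO⟩ := T.isBasis_affineOpens.exists_subset_of_mem_open
    (show t ∈ φ ⁻¹ᵁ V c ⊓ O from ⟨hs, htO⟩) (φ ⁻¹ᵁ V c ⊓ O).2
  exact ⟨V c, hV c, W', hW', fun x hx => (hWO hx).1, htW, fun x hx => (hWO hx).2,
    fun n hn => hN₂ c n (((le_max_right _ _).trans (hle c hcC)).trans hn) hc hfl hW' _⟩

omit [IsLocallyNoetherian S] in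
variable [IsNoetherian S] in
include hL hF hamp in
/-- The flattening stratification by the sequences of ranks of direct images of large twists. -/
theorem exists_flattening (N₀ : ℕ) :
    ∃ (N : ℕ) (m : ℕ) (σ : Fin m → ℕ → ℕ) (St : Fin m → Scheme.{u}) (e : ∀ i, St i ⟶ S),
      N₀ ≤ N ∧ Function.Injective σ ∧ (∀ i, IsImmersion (e i)) ∧
      (∀ i, Set.range (e i) = {s | seq f L F N s = σ i}) ∧ (∀ s, ∃ i, seq f L F N s = σ i) ∧ (∀ i, ∃ s, seq f L F N s = σ i) ∧
      ∀ {T XT : Scheme.{u}} [IsLocallyNoetherian T] {φ : T ⟶ S} {gT : XT ⟶ X} {fT : XT ⟶ T},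
        IsPullback gT fT f φ →
          (FlatMod.IsFlatOver fT ((Scheme.Modules.pullback gT).obj F) ↔
            ∃ g : T ⟶ ∐ St, g ≫ Limits.Sigma.desc e = φ) := by
  classical
  obtain ⟨N, hN₀, hfin, hfwd⟩ := exists_uniform f L F hL hF hamp N₀
  have hM : ∀ n, Coh.IsCoh (Mn f L F n) := isCoh_Mn f L F hL hF
  let R := hfin.toFinset
  let σ : Fin R.card → ℕ → ℕ := fun i => (R.equivFin.symm i).1
  have hσ : Function.Injective σ := Subtype.val_injective.comp R.equivFin.symm.injective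
  have hex : ∀ s, ∃ i, seq f L F N s = σ i := fun s =>
    ⟨R.equivFin ⟨_, hfin.mem_toFinset.2 ⟨s, rfl⟩⟩, by simp [σ]⟩
  -- finitely many separating degrees
  have hsep : ∃ D : Finset ℕ, ∀ i j, (∀ n ∈ D, σ i n ≤ σ j n) → σ i ≤ σ j := by
    have h : ∀ p : Fin R.card × Fin R.card, ∃ n, σ p.1 n ≤ σ p.2 n → σ p.1 ≤ σ p.2 := fun p => by
      by_cases hp : σ p.1 ≤ σ p.2
      · exact ⟨0, fun _ => hp⟩
      · obtain ⟨n, hn⟩ := not_forall.1 hp
        exact ⟨n, fun h => absurd h hn⟩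
    choose d hd using h
    exact ⟨Finset.univ.image d, fun i j h => hd (i, j) (h _ (Finset.mem_image_of_mem d (Finset.mem_univ (i, j))))⟩
  obtain ⟨D, hD⟩ := hsep
  have hUeq : ∀ i, {s : S | seq f L F N s ≤ σ i} = ⋂ n ∈ D, {s : S | rk (Mn f L F (N + n)) s ≤ σ i n} := by
    intro i
    ext s
    simp only [Set.mem_ofPred_eq, Set.mem_iInter]
    refine ⟨fun h n _ => h n, fun h => ?_⟩
    obtain ⟨j, hj⟩ := hex s
    rw [hj]
    exact hD j i fun n hn => hj ▸ h n hn
  let U : Fin R.card → S.Opens := fun i => ⟨{s | seq f L F N s ≤ σ i}, by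
    rw [hUeq i]
    exact isOpen_biInter_finset fun n _ => isOpen_rk_le (hM _) _⟩
  let I : ∀ i, (↑(U i) : Scheme.{u}).IdealSheafData := fun i =>
    ⨆ (n : ℕ) (k : ℕ) (_ : k < σ i n), (Fitt.sheafIdeal (Mn f L F (N + n)) k).comap (U i).ι
  have hrange : ∀ i, Set.range ((I i).subschemeι ≫ (U i).ι) = {s | seq f L F N s = σ i} := by
    intro i
    ext s
    constructor
    · rintro ⟨z, rfl⟩
      have hz : (I i).subschemeι z ∈ ((I i).support : Set _) := by
        rw [← (I i).range_subschemeι]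
        exact ⟨z, rfl⟩
      refine le_antisymm ((I i).subschemeι z).2 fun n => not_lt.1 fun hlt => ?_
      simp only [I, Scheme.IdealSheafData.support_iSup, Scheme.IdealSheafData.support_comap,
        SetLike.mem_coe, Closeds.mem_iInf] at hz
      exact (notMem_support_iff_rk_le (hM _) _ _).2 le_rfl (hz n _ hlt)
    · intro hs
      let y : (↑(U i) : Scheme.{u}) := (⟨s, hs.le⟩ : {x // x ∈ U i})
      have hy : y ∈ ((I i).support : Set (↑(U i) : Scheme.{u})) := by
        simp only [I, Scheme.IdealSheafData.support_iSup, Scheme.IdealSheafData.support_comap,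
          SetLike.mem_coe, Closeds.mem_iInf]
        intro n k hk
        show s ∈ (Fitt.sheafIdeal (Mn f L F (N + n)) k).support
        by_contra h
        have h' := (notMem_support_iff_rk_le (hM _) _ _).1 h
        rw [← hs] at hk
        exact absurd h' (not_le.2 hk)
      rw [← (I i).range_subschemeι] at hy
      obtain ⟨z, hz⟩ := hy
      exact ⟨z, by rw [Scheme.Hom.comp_apply, hz]; rfl⟩
  have factor : ∀ (i : Fin R.card) {T : Scheme.{u}} (w : T ⟶ S),
      (∃ v' : T ⟶ (I i).subscheme, v' ≫ (I i).subschemeι ≫ (U i).ι = w) ↔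
        (∀ t, seq f L F N (w t) = σ i) ∧
          ∀ n k, k < σ i n → (Fitt.sheafIdeal (Mn f L F (N + n)) k).comap w = ⊥ := by
    intro i T w
    constructor
    · rintro ⟨v', rfl⟩
      refine ⟨fun t => (hrange i).le ⟨v' t, (Scheme.Hom.comp_apply _ _ _).symm⟩, fun n k hk => ?_⟩
      have hι : (I i).comap (I i).subschemeι = ⊥ := by
        rw [eq_bot_iff, ← Scheme.IdealSheafData.le_map_iff_comap_le, Scheme.IdealSheafData.map_bot,
          Scheme.IdealSheafData.ker_subschemeι]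
      rw [Scheme.IdealSheafData.comap_comp, Scheme.IdealSheafData.comap_comp, eq_bot_iff,
        ← Scheme.IdealSheafData.comap_bot v', ← hι]
      exact Scheme.IdealSheafData.comap_mono _ (Scheme.IdealSheafData.comap_mono _
        (le_iSup_of_le n (le_iSup₂_of_le k hk le_rfl)))
    · rintro ⟨hr, h0⟩
      have hwU : Set.range w ⊆ Set.range (U i).ι := by
        rintro _ ⟨t, rfl⟩
        rw [Scheme.Opens.range_ι]
        exact (hr t).le
      let w₁ : T ⟶ ↑(U i) := IsOpenImmersion.lift (U i).ι w hwU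
      have hw₁ : w₁ ≫ (U i).ι = w := IsOpenImmersion.lift_fac _ _ _
      have hker : (I i).subschemeι.ker ≤ w₁.ker := by
        rw [Scheme.IdealSheafData.ker_subschemeι, ← Scheme.IdealSheafData.map_bot,
          Scheme.IdealSheafData.le_map_iff_comap_le]
        simp only [I, (Scheme.IdealSheafData.map_gc w₁).l_iSup, iSup_le_iff]
        intro n k hk
        rw [← Scheme.IdealSheafData.comap_comp, hw₁, h0 n k hk]
      exact ⟨IsClosedImmersion.lift _ w₁ hker, by rw [← Category.assoc, IsClosedImmersion.lift_fac, hw₁]⟩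
  refine ⟨N, R.card, σ, fun i => (I i).subscheme, fun i => (I i).subschemeι ≫ (U i).ι, hN₀, hσ,
    fun i => inferInstance, hrange, hex,
    fun i => hfin.mem_toFinset.1 (R.equivFin.symm i).2, fun {T XT} _ {φ gT fT} hc => ⟨fun hfl => ?_, ?_⟩⟩
  · -- a flat pullback factors through the strata
    have hTopen : ∀ i, IsOpen {t : T | seq f L F N (φ t) = σ i} := by
      intro i
      rw [isOpen_iff_forall_mem_open]
      intro t ht
      obtain ⟨V, hV, W', hW', e, htW, -, hflW⟩ := hfwd hc hfl t ⊤ trivial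
      choose O htO hO using fun n => rk_eventually_eq (hM (N + n)) hV hW' e (hflW _ (Nat.le_add_right N n)) htW
      refine ⟨⋂ n ∈ D, (O n : Set T), fun t' ht' => ?_, isOpen_biInter_finset fun n _ => (O n).2,
        Set.mem_iInter₂.2 fun n _ => htO n⟩
      have hD' : ∀ n ∈ D, seq f L F N (φ t') n = σ i n := fun n hn =>
        (hO n t' (Set.mem_iInter₂.1 ht' n hn)).trans (congrFun ht n)
      obtain ⟨j, hj⟩ := hex (φ t')
      show seq f L F N (φ t') = σ i
      rw [hj] at hD' ⊢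
      exact le_antisymm (hD j i fun n hn => (hD' n hn).le) (hD i j fun n hn => (hD' n hn).ge)
    let Ti : Fin R.card → T.Opens := fun i => ⟨_, hTopen i⟩
    have hw : ∀ i, ∃ v' : ↑(Ti i) ⟶ (I i).subscheme, v' ≫ (I i).subschemeι ≫ (U i).ι = (Ti i).ι ≫ φ := by
      intro i
      refine (factor i _).2 ⟨fun t => by rw [Scheme.Hom.comp_apply]; exact t.2, fun n k hk => ?_⟩
      choose V hV W' hW' e htW hWi hflW using fun t : ↥(Ti i) => hfwd hc hfl t.1 (Ti i) t.2
      have hr : ∀ t, W' t ≤ (Ti i).ι.opensRange := fun t => by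
        rw [Scheme.Opens.opensRange_ι]; exact hWi t
      refine Scheme.IdealSheafData.ext_of_iSup_eq_top
        (fun t => ⟨(Ti i).ι ⁻¹ᵁ W' t, (hW' t).preimage_of_isOpenImmersion _ (hr t)⟩)
        (top_unique fun t _ => Opens.mem_iSup.2 ⟨t, htW t⟩) fun t => ?_
      rw [Scheme.IdealSheafData.comap_comp,
        Groth.L22.Ideals.comap_ideal (Ti i).ι _ ⟨W' t, hW' t⟩ ⟨(Ti i).ι ⁻¹ᵁ W' t, (hW' t).preimage_of_isOpenImmersion _ (hr t)⟩ le_rfl,
        ((chart_iff (hM (N + n)) (hV t) (hW' t) (e t) (σ i n)).1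
          ⟨hflW t _ (Nat.le_add_right N n), fun t' ht' => congrFun (hWi t ht') n⟩).1 k hk,
        Ideal.map_bot]
      simp
    choose v' hv' using hw
    obtain ⟨hT⟩ := nonempty_isColimit_cofanMk_of (fun i => (Ti i).ι) (by
      refine top_unique fun t _ => Opens.mem_iSup.2 ?_
      obtain ⟨i, hi⟩ := hex (φ t)
      exact ⟨i, by rw [Scheme.Opens.opensRange_ι]; exact hi⟩) (by
      intro i j hij
      simp only [Function.onFun, Scheme.Opens.opensRange_ι, disjoint_iff]
      ext t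
      simp only [Opens.coe_inf, Set.mem_inter_iff, Opens.coe_bot, Set.mem_empty_iff_false, iff_false, not_and]
      exact fun h1 h2 => hij (hσ (h1.symm.trans h2)))
    refine ⟨Cofan.IsColimit.desc hT fun i => v' i ≫ Limits.Sigma.ι (fun i => (I i).subscheme) i, Cofan.IsColimit.hom_ext hT _ _ fun i => ?_⟩
    rw [Cofan.IsColimit.fac_assoc, Category.assoc, Limits.Sigma.ι_desc, hv', cofan_mk_inj]
  · -- a factorisation gives flatness
    rintro ⟨g, rfl⟩
    refine isFlatOver_of_flat_push f hamp hF hc fun t => ?_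
    obtain ⟨i, z, hz⟩ : ∃ (i : Fin R.card) (z : (I i).subscheme), Limits.Sigma.ι (fun i => (I i).subscheme) i z = g t :=
      ⟨_, ((sigmaOpenCover fun i => (I i).subscheme).covers (g t))⟩
    let O : T.Opens := g ⁻¹ᵁ (Limits.Sigma.ι (fun i => (I i).subscheme) i).opensRange
    have hgO : Set.range (O.ι ≫ g) ⊆ Set.range (Limits.Sigma.ι (fun i => (I i).subscheme) i) := by
      rintro _ ⟨t', rfl⟩
      rw [Scheme.Hom.comp_apply]
      exact t'.2
    obtain ⟨hseq, h0⟩ := (factor i (O.ι ≫ g ≫ Limits.Sigma.desc fun i => (I i).subschemeι ≫ (U i).ι)).1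
      ⟨IsOpenImmersion.lift _ _ hgO, by
        refine Eq.trans ?_ ((congrArg (· ≫ Limits.Sigma.desc fun i => (I i).subschemeι ≫ (U i).ι)
          (IsOpenImmersion.lift_fac _ _ hgO)).trans (Category.assoc _ _ _))
        rw [Category.assoc, Limits.Sigma.ι_desc]⟩
    let w := g ≫ Limits.Sigma.desc fun i => (I i).subschemeι ≫ (U i).ι
    obtain ⟨_, ⟨V, hV, rfl⟩, htV, -⟩ :=
      S.isBasis_affineOpens.exists_subset_of_mem_open (Set.mem_univ (w t)) isOpen_univ
    obtain ⟨_, ⟨W', hW', rfl⟩, htW, hWO⟩ := T.isBasis_affineOpens.exists_subset_of_mem_open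
      (show t ∈ w ⁻¹ᵁ V ⊓ O from ⟨htV, ⟨z, hz⟩⟩) (w ⁻¹ᵁ V ⊓ O).2
    refine ⟨V, hV, W', hW', fun x hx => (hWO hx).1, htW, N, fun n hn => ?_⟩
    obtain ⟨n, rfl⟩ := Nat.exists_eq_add_of_le hn
    have hseq' : ∀ t' ∈ W', rk (Mn f L F (N + n)) (w t') = σ i n := fun t' ht' => by
      have := congrFun (hseq ⟨t', (hWO ht').2⟩) n
      rw [Scheme.Hom.comp_apply] at this
      exact this
    refine ((chart_iff (hM (N + n)) hV hW' (fun x hx => (hWO hx).1) (σ i n)).2
      ⟨fun k hk => ?_, fun t' ht' => (hseq' t' ht').le⟩).1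
    have hr : W' ≤ O.ι.opensRange := by rw [Scheme.Opens.opensRange_ι]; exact fun x hx => (hWO hx).2
    have h1 := congrArg (fun J : (↑O : Scheme.{u}).IdealSheafData =>
      J.ideal ⟨O.ι ⁻¹ᵁ W', hW'.preimage_of_isOpenImmersion _ hr⟩)
      ((Scheme.IdealSheafData.comap_comp _ O.ι w).symm.trans (h0 n k hk))
    rw [Groth.L22.Ideals.comap_ideal O.ι _ ⟨W', hW'⟩ ⟨O.ι ⁻¹ᵁ W', hW'.preimage_of_isOpenImmersion _ hr⟩ le_rfl] at h1
    haveI : IsIso (O.ι.appLE W' (O.ι ⁻¹ᵁ W') le_rfl) := by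
      rw [← Scheme.Hom.app_eq_appLE]
      exact Scheme.Hom.isIso_app O.ι W' hr
    exact (Ideal.map_eq_bot_iff_of_injective
      (ConcreteCategory.bijective_of_isIso (O.ι.appLE W' (O.ι ⁻¹ᵁ W') le_rfl)).1).1
      (h1.trans (by simp))

end Groth.L17.Strat
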