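import Groth.Agent.L17.Strat.FlatStage
import Groth.Agent.L17.Strat.LocalModel

/-!
# The stratum of a Hilbert function on a Noetherian affine base
-/

set_option autoImplicit false
set_option linter.style.haveILetI false
set_option linter.unusedSectionVars false
set_option backward.isDefEq.respectTransparency false

universe u

open CategoryTheory CategoryTheory.Limits AlgebraicGeometry TopologicalSpace

noncomputable section

namespace Groth.L17.Strat

variable {A₀ : Type u} [CommRing A₀] [IsNoetherianRing A₀] {X : Scheme.{u}}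
  (f : X ⟶ Spec (CommRingCat.of A₀)) [IsProper f] (L F : X.Modules)

/-- The stratum of a Hilbert function, with its universal property for affine schemes. -/
theorem exists_stratum (hF : Coh.IsCoh F) (hamp : RelAmple.IsRelAmple f L) (Ψ : ℕ → ℚ) :
    ∃ (W : Scheme.{u}) (e : W ⟶ Spec (CommRingCat.of A₀)), IsImmersion e ∧ QuasiCompact e ∧
      LocallyOfFinitePresentation e ∧
      Set.range e = {y | ∀ q, (fib f L F y q : ℚ) = Ψ q} ∧
      ∀ (R : CommRingCat.{u}) (ψ : Spec R ⟶ Spec (CommRingCat.of A₀)),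
        (∃ h : Spec R ⟶ W, h ≫ e = ψ) ↔
          (FlatPb f F ψ ∧ ∀ t : Spec R, ∀ q, (fib f L F (ψ t) q : ℚ) = Ψ q) := by
  classical
  let S₂ := Spec (CommRingCat.of A₀)
  have hLi := isInvertible_of_isRelAmple hamp
  obtain ⟨N₀, hN₀⟩ := exists_fib_eq_rk_uniform f L F hLi hF hamp
  obtain ⟨N, m, σ, St, e, hN, hσ, himm, hrange, hex, -, huniv⟩ := exists_flattening f L F hLi hF hamp N₀
  have qc : ∀ {W : Scheme.{u}} (j : W ⟶ S₂) [IsImmersion j], QuasiCompact j ∧ LocallyOfFinitePresentation j := by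
    intro W j _
    haveI : IsLocallyNoetherian W := LocallyOfFiniteType.isLocallyNoetherian j
    haveI : NoetherianSpace W := j.isEmbedding.isInducing.noetherianSpace
    exact ⟨(quasiCompact_iff _).2 fun U _ _ => NoetherianSpace.isCompact _, inferInstance⟩
  by_cases hex₀ : ∃ y₀ : S₂, ∀ q, (fib f L F y₀ q : ℚ) = Ψ q
  · obtain ⟨y₀, hy₀⟩ := hex₀
    obtain ⟨i, hi⟩ := hex y₀
    haveI := himm i
    haveI : IsLocallyNoetherian (St i) := LocallyOfFiniteType.isLocallyNoetherian (e i)
    have hiff : ∀ y : S₂, (∀ q, (fib f L F y q : ℚ) = Ψ q) ↔ seq f L F N y = σ i := by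
      intro y
      constructor
      · intro hy
        rw [← hi]
        funext n
        have h1 : fib f L F y (N + n) = fib f L F y₀ (N + n) :=
          Int.cast_injective (α := ℚ) ((hy _).trans (hy₀ _).symm)
        rw [hN₀ _ (hN.trans (Nat.le_add_right N n)), hN₀ _ (hN.trans (Nat.le_add_right N n))] at h1
        exact Int.ofNat_inj.1 h1
      · intro hy q
        rw [← hy₀ q]
        refine congrArg Int.cast (fib_eq_of_eventually f L F hLi hF N (fun k hk => ?_) q)
        obtain ⟨n, rfl⟩ := Nat.exists_eq_add_of_le hk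
        rw [hN₀ _ (hN.trans hk), hN₀ _ (hN.trans hk)]
        exact congrArg Nat.cast (congrFun (hy.trans hi.symm) n)
    refine ⟨St i, e i, himm i, (qc (e i)).1, (qc (e i)).2, (hrange i).trans (Set.ext fun y => (hiff y).symm),
      fun R ψ => ⟨?_, ?_⟩⟩
    · rintro ⟨h, rfl⟩
      refine ⟨FlatPb.comp (g := e i) ?_ h, fun t => ?_⟩
      · exact flatPb_of_isPullback (IsPullback.of_hasPullback f (e i))
          ((huniv (IsPullback.of_hasPullback f (e i))).2 ⟨Limits.Sigma.ι St i, Limits.Sigma.ι_desc _ _⟩)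
      · refine (hiff _).2 ((hrange i).le ⟨h t, ?_⟩)
        exact (Scheme.Hom.comp_apply _ _ _).symm
    · rintro ⟨hflat, hpts⟩
      obtain ⟨χ, rfl⟩ := Spec.map_surjective ψ
      letI : Algebra A₀ R := χ.hom.toAlgebra
      obtain ⟨C, hC, hflatC⟩ := exists_flatPb_stage f F hF hflat
      haveI := hC
      obtain ⟨gC, hgC⟩ := (huniv (IsPullback.of_hasPullback f _)).1 hflatC
      let a : Spec R ⟶ Spec (CommRingCat.of ↥C) := Spec.map (CommRingCat.ofHom (algebraMap C R))
      have hψ : (a ≫ gC) ≫ Limits.Sigma.desc e = Spec.map χ := by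
        rw [Category.assoc, hgC, ← Spec.map_comp]
        rfl
      have hr : Set.range (a ≫ gC) ⊆ Set.range (Limits.Sigma.ι St i) := by
        rintro _ ⟨t, rfl⟩
        obtain ⟨j, z, hz⟩ : ∃ (j : Fin m) (z : St j), Limits.Sigma.ι St j z = (a ≫ gC) t :=
          ⟨_, ((sigmaOpenCover St).covers ((a ≫ gC) t))⟩
        have hz' : e j z = Spec.map χ t := by
          rw [← hψ, Scheme.Hom.comp_apply (a ≫ gC), ← hz, ← Scheme.Hom.comp_apply, Limits.Sigma.ι_desc]
        obtain rfl : j = i := hσ (((hrange j).le ⟨z, hz'⟩).symm.trans ((hiff _).1 (hpts t)))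
        exact ⟨z, hz⟩
      refine ⟨IsOpenImmersion.lift (Limits.Sigma.ι St i) (a ≫ gC) hr, ?_⟩
      rw [← hψ]
      conv_rhs => rw [← IsOpenImmersion.lift_fac (Limits.Sigma.ι St i) (a ≫ gC) hr, Category.assoc,
        Limits.Sigma.ι_desc]
  · push Not at hex₀
    refine ⟨((⊥ : S₂.Opens) : Scheme.{u}), (⊥ : S₂.Opens).ι, inferInstance, (qc _).1, (qc _).2, ?_,
      fun R ψ => ⟨?_, ?_⟩⟩
    · rw [Scheme.Opens.range_ι]
      refine Set.ext fun y => ⟨fun h => h.elim, fun h => ?_⟩
      obtain ⟨q, hq⟩ := hex₀ y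
      exact (hq (h q)).elim
    · rintro ⟨h, rfl⟩
      have hno : IsEmpty (Spec R) := ⟨fun t => (h t).2.elim⟩
      refine ⟨fun x => ?_, fun t => hno.elim t⟩
      exact hno.elim (pullback.snd f (h ≫ (⊥ : S₂.Opens).ι) x)
    · rintro ⟨-, hpts⟩
      refine ⟨IsOpenImmersion.lift _ ψ ?_, IsOpenImmersion.lift_fac _ _ _⟩
      rintro _ ⟨t, rfl⟩
      obtain ⟨q, hq⟩ := hex₀ (ψ t)
      exact (hq (hpts t q)).elim

end Groth.L17.Strat
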