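import Groth.Agent.L17.Strat.Quot
import Groth.Agent.L17.Strat.Bc
import Groth.Agent.L17.BC.TwistFrame
import Groth.Agent.L17.BC.Change

/-!
# Sections of twists on frames; flatness of the terms of the base changed Čech complex
-/

set_option autoImplicit false
set_option linter.style.haveILetI false
set_option linter.unusedSectionVars false
set_option backward.isDefEq.respectTransparency false

universe u

open CategoryTheory CategoryTheory.Limits AlgebraicGeometry TopologicalSpace Opposite
open scoped TensorProduct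

noncomputable section

namespace Groth.L17.Strat

open Groth.L17.BC Groth.L17.BC.Cochains
open Groth.L18.GenLoc (tens tens_smul_left)
open Groth.L18.Frame (rs IsFrame)
open Groth.L01.FlatCx (bc bcE)

variable {X : Scheme.{u}} {A : Type u} [CommRing A] (ρ : A →+* Coh.Γtop X)

/-- Isomorphic modules have equivalent sections. -/
def secEquiv {M N : X.Modules} (e : M ≅ N) (W : X.Opens) : Sec ρ M W ≃ₗ[A] Sec ρ N W :=
  { appL ρ e.hom W with
    invFun := appL ρ e.inv W
    left_inv := fun s => congr($(congrArg (fun k => Scheme.Modules.Hom.app k W) e.hom_inv_id) s)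
    right_inv := fun s => congr($(congrArg (fun k => Scheme.Modules.Hom.app k W) e.inv_hom_id) s) }

/-- Tensoring with a frame, linearly. -/
theorem nonempty_frameEquiv (N L : X.Modules) {W V : X.Opens} {ε : Γ(L, W)} (hε : IsFrame L W ε) (h : V ≤ W) :
    Nonempty (Sec ρ N V ≃ₗ[A] Sec ρ (CohB1.tensorMod N L) V) :=
  ⟨LinearEquiv.ofBijective (M := Sec ρ N V) (M₂ := Sec ρ (CohB1.tensorMod N L) V)
    ({ toFun := fun m => tens N L V (show Γ(N, V) from m) (rs L h ε)
       map_add' := fun a b => Groth.L00.Tensor.ev_add₁ _ _ _ _ _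
       map_smul' := fun a m => by
        show tens N L V (act ρ V a • (show Γ(N, V) from m)) (rs L h ε) =
          act ρ V a • tens N L V (show Γ(N, V) from m) (rs L h ε)
        exact tens_smul_left _ _ _ } : Sec ρ N V →ₗ[A] Sec ρ (CohB1.tensorMod N L) V)
    (TwistFrame.bijective_tens hε V h)⟩

/-- Sections of a twist over a frame. -/
theorem nonempty_twistEquiv (F L : X.Modules) {W V : X.Opens} {ε : Γ(L, W)} (hε : IsFrame L W ε) (h : V ≤ W) :
    ∀ n : ℕ, Nonempty (Sec ρ F V ≃ₗ[A] Sec ρ (Fn L F n) V)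
  | 0 => ⟨secEquiv ρ (Groth.L00.Tensor.tensorUnitRight F).symm V⟩
  | n + 1 => by
    obtain ⟨e⟩ := nonempty_twistEquiv F L hε h n
    obtain ⟨e'⟩ := nonempty_frameEquiv ρ (Fn L F n) L hε h
    exact ⟨e.trans (e'.trans (secEquiv ρ (Groth.L00.Tensor.tensorAssoc F _ L) V))⟩

variable {ι : Type u} [Finite ι] (U : ι → X.Opens)

/-- Frames on the members of the family. -/
def Framed (L : X.Modules) : Prop := ∀ i, ∃ ε : Γ(L, U i), IsFrame L (U i) ε

/-- The intersections have flat sections after base change. -/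
def FlatCov (F : X.Modules) (B : Type u) [CommRing B] [Algebra A B] : Prop :=
  ∀ a : List ι, a ≠ [] → Module.Flat B (B ⊗[A] Sec ρ F (opn U a))

theorem flat_bc_K {F L : X.Modules} (hfr : Framed U L) (B : Type u) [CommRing B] [Algebra A B]
    (hfl : FlatCov ρ U F B) (n : ℕ) (i : ℤ) :
    Module.Flat B ((bc B (K ρ (Fn L F n) U)).X i) := by
  classical
  haveI := finite_idx (ι := ι) i
  haveI : Fintype (Idx ι i) := Fintype.ofFinite _
  haveI : ∀ a : Idx ι i, Module.Flat B (B ⊗[A] Sec ρ (Fn L F n) (opn U a.1)) := fun a => by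
    obtain ⟨j, hj⟩ := List.exists_mem_of_ne_nil _ a.2.2
    obtain ⟨ε, hε⟩ := hfr j
    obtain ⟨k, hk, e⟩ := List.mem_iff_getElem.1 hj
    obtain ⟨E⟩ := nonempty_twistEquiv ρ F L hε
      ((iInf_le (fun l : Fin a.1.length => U a.1[l.1]) ⟨k, hk⟩).trans_eq (congrArg U e)) n
    haveI := hfl a.1 a.2.2
    let E' : B ⊗[A] Sec ρ (Fn L F n) (opn U a.1) ≃ₗ[B] B ⊗[A] Sec ρ F (opn U a.1) :=
      (LinearEquiv.baseChange A B _ _ E).symm
    exact Module.Flat.of_linearEquiv E'
  haveI : Module.Flat B (∀ a : Idx ι i, B ⊗[A] Sec ρ (Fn L F n) (opn U a.1)) :=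
    Module.Flat.of_linearEquiv (DirectSum.linearEquivFunOnFintype B (Idx ι i)
      fun a => B ⊗[A] Sec ρ (Fn L F n) (opn U a.1)).symm
  exact Module.Flat.of_linearEquiv ((bcE B ((K ρ (Fn L F n) U).X i)).trans
    (TensorProduct.piRight A B B fun a : Idx ι i => Sec ρ (Fn L F n) (opn U a.1)))

end Groth.L17.Strat
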