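import Groth.Agent.L17.Strat.Alg
import Groth.Agent.L17.BC.FlatModel
import Groth.Agent.L01.FlatCx.BC

/-!
# Universally exact complexes of flat modules
-/

set_option autoImplicit false
set_option linter.style.haveILetI false
set_option backward.isDefEq.respectTransparency false

universe u

open CategoryTheory CategoryTheory.Limits
open scoped TensorProduct

noncomputable section

namespace Groth.L17.Strat

open Groth.L01.FlatCx (dd Coker flat_coker_iff flat_left unitEquiv cls' cls'_surjective cls'_eq_zero_iff Cyc')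

variable {B : Type u} [CommRing B] (P : CochainComplex (ModuleCat.{u} B) ℤ)

/-- Exactness in degree `i` after base change to `C`. -/
def Ex (C : Type u) [CommRing C] [Algebra B C] (i : ℤ) : Prop :=
  Function.Exact ((dd P (i - 1) i).baseChange C) ((dd P i (i + 1)).baseChange C)

theorem dd_dd_apply (i j k : ℤ) (x : P.X i) : dd P j k (dd P i j x) = 0 := by
  show (P.d i j ≫ P.d j k) x = 0
  rw [P.d_comp_d]
  rfl

theorem exact_iff_subsingleton (i : ℤ) :
    Function.Exact (dd P (i - 1) i) (dd P i (i + 1)) ↔ Subsingleton (P.homology i : Type u) := by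
  constructor
  · intro h
    refine subsingleton_of_forall_eq 0 fun a => ?_
    obtain ⟨x, rfl⟩ := cls'_surjective P i a
    rw [cls'_eq_zero_iff P (i := i - 1) (CochainComplex.prev _ _)]
    refine (h x.1).1 ?_
    have := x.2
    rwa [LinearMap.mem_ker, CochainComplex.next] at this
  · intro h z
    refine ⟨fun hz => ?_, fun ⟨y, hy⟩ => hy ▸ dd_dd_apply P _ _ _ y⟩
    exact (cls'_eq_zero_iff P (i := i - 1) (CochainComplex.prev _ _) ⟨z, by
      rw [LinearMap.mem_ker, CochainComplex.next]; exact hz⟩).1 (Subsingleton.elim _ _)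

variable (hfl : ∀ i, Module.Flat B (P.X i))

include hfl in
/-- Descending induction: flatness of all cokernels in positive degrees. -/
theorem flat_cokers (N : ℤ) (hT : ∀ (M : ModuleCat.{u} B) (i : ℤ), N < i → IsZero (CohIII.T P i M))
    (step : ∀ i : ℤ, 0 < i → Module.Flat B (Coker P i (i + 1)) → Subsingleton (P.homology i : Type u))
    (i : ℤ) (hi : 0 ≤ i) : Module.Flat B (Coker P i (i + 1)) := by
  suffices ∀ (k : ℕ) (i : ℤ), 1 ≤ i → N < i + k → Module.Flat B (Coker P (i - 1) i) by
    have h := this (N + 1).toNat (i + 1) (by omega) (by omega)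
    rwa [add_sub_cancel_right] at h
  intro k
  induction k with
  | zero =>
    intro i _ hi
    refine (Groth.L01.FlatCx.preservesMono_iff P (CochainComplex.prev _ _) hfl).1 ⟨fun {M M'} g _ => ?_⟩
    rw [ModuleCat.mono_iff_injective]
    haveI := ModuleCat.subsingleton_of_isZero (hT M i (by omega))
    exact fun a b _ => Subsingleton.elim (α := CohIII.T P i M) a b
  | succ k ih =>
    intro i h1 hi
    have hnext : Module.Flat B (Coker P i (i + 1)) := by
      have h := ih (i + 1) (by omega) (by omega)
      rwa [add_sub_cancel_right] at h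
    haveI := hfl (i + 1)
    haveI : Module.Flat B (LinearMap.range (dd P i (i + 1))) :=
      flat_left (f := (LinearMap.range (dd P i (i + 1))).subtype) (g := (LinearMap.range (dd P i (i + 1))).mkQ)
        Subtype.val_injective (Submodule.mkQ_surjective _) (LinearMap.exact_subtype_mkQ _)
    rw [flat_coker_iff P (CochainComplex.prev _ _) (CochainComplex.next _ _)]
    haveI := step i (by omega) hnext
    haveI : Subsingleton ((CohIII.TFun P i).obj (ModuleCat.of B B) : Type u) :=
      (unitEquiv P i).toEquiv.subsingleton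
    infer_instance

include hfl in
theorem good_of_flat_coker' (i : ℤ) (h : Module.Flat B (Coker P i (i + 1))) (C : Type u) [CommRing C] [Algebra B C] :
    Good (dd P i (i + 1)) C :=
  haveI := hfl (i + 1)
  haveI : Module.Flat B ((P.X (i + 1) : Type u) ⧸ LinearMap.range (dd P i (i + 1))) := h
  good_of_flat_coker _ _

/-- An exact spot followed by a flat cokernel is exact after every base change. -/
theorem ex_of_exact (i : ℤ) (h : Module.Flat B (Coker P i (i + 1)))
    (hex : Subsingleton (P.homology i : Type u)) (C : Type u) [CommRing C] [Algebra B C] : Ex P C i := by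
  haveI : Module.Flat B ((P.X (i + 1) : Type u) ⧸ LinearMap.range (dd P i (i + 1))) := h
  let d := dd P i (i + 1)
  let r := d.rangeRestrict
  have hr : Function.Exact (dd P (i - 1) i) r := by
    rw [LinearMap.exact_iff, LinearMap.ker_rangeRestrict]
    exact LinearMap.exact_iff.1 ((exact_iff_subsingleton P i).2 hex)
  have hi : Function.Injective ((LinearMap.range d).subtype.lTensor C) :=
    LinearMap.lTensor_injective_of_exact_of_flat (LinearMap.range d).mkQ (Submodule.mkQ_surjective _)
      _ Subtype.val_injective (LinearMap.exact_subtype_mkQ _) C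
  have hd : d.lTensor C = (LinearMap.range d).subtype.lTensor C ∘ₗ r.lTensor C := by
    rw [← LinearMap.lTensor_comp]
    rfl
  intro x
  show d.lTensor C x = 0 ↔ x ∈ Set.range ((dd P (i - 1) i).lTensor C)
  rw [hd, LinearMap.comp_apply, ← lTensor_exact C hr d.surjective_rangeRestrict x]
  exact ⟨fun hx => hi (hx.trans (map_zero _).symm), fun hx => by rw [hx, map_zero]⟩

include hfl in
/-- Vanishing in positive degrees makes everything universal. -/
theorem univ_of_subsingleton (N : ℤ) (hT : ∀ (M : ModuleCat.{u} B) (i : ℤ), N < i → IsZero (CohIII.T P i M))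
    (step : ∀ i : ℤ, 0 < i → Module.Flat B (Coker P i (i + 1)) → Subsingleton (P.homology i : Type u))
    (C : Type u) [CommRing C] [Algebra B C] :
    Good (dd P 0 (0 + 1)) C ∧ ∀ i : ℤ, 0 < i → Ex P C i :=
  ⟨good_of_flat_coker' P hfl 0 (flat_cokers P hfl N hT step 0 le_rfl) C, fun i hi =>
    ex_of_exact P i (flat_cokers P hfl N hT step i hi.le) (step i hi (flat_cokers P hfl N hT step i hi.le)) C⟩

include hfl in
theorem flat_ker (N : ℤ) (hT : ∀ (M : ModuleCat.{u} B) (i : ℤ), N < i → IsZero (CohIII.T P i M))
    (step : ∀ i : ℤ, 0 < i → Module.Flat B (Coker P i (i + 1)) → Subsingleton (P.homology i : Type u)) :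
    Module.Flat B (LinearMap.ker (dd P 0 (0 + 1))) := by
  haveI := flat_cokers P hfl N hT step 0 le_rfl
  haveI := hfl 0
  haveI := hfl (0 + 1)
  haveI : Module.Flat B (LinearMap.range (dd P 0 (0 + 1))) :=
    flat_left (f := (LinearMap.range (dd P 0 (0 + 1))).subtype) (g := (LinearMap.range (dd P 0 (0 + 1))).mkQ)
      Subtype.val_injective (Submodule.mkQ_surjective _) (LinearMap.exact_subtype_mkQ _)
  exact flat_left (f := (LinearMap.ker (dd P 0 (0 + 1))).subtype) (g := (dd P 0 (0 + 1)).rangeRestrict)
    Subtype.val_injective (LinearMap.surjective_rangeRestrict _)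
    (LinearMap.exact_iff.2 ((LinearMap.ker_rangeRestrict _).trans (Submodule.range_subtype _).symm))

include hfl in
/-- Finite homology which dies at all closed points vanishes. -/
theorem subsingleton_of_fibres (i : ℤ) (h : Module.Flat B (Coker P i (i + 1)))
    (hfin : Module.Finite B (P.homology i : Type u))
    (hex : ∀ m : Ideal B, m.IsMaximal → Ex P (B ⧸ m) i) : Subsingleton (P.homology i : Type u) := by
  haveI := hfin
  refine subsingleton_of_le_smul (R := B) fun m hm => ?_
  rintro a -
  obtain ⟨z, rfl⟩ := cls'_surjective P i a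
  have hz : dd P i (i + 1) z.1 = 0 := by
    have := z.2
    rwa [LinearMap.mem_ker, CochainComplex.next] at this
  obtain ⟨w, hw⟩ := (hex m hm ((1 : B ⧸ m) ⊗ₜ z.1)).1 (by
    rw [LinearMap.baseChange_tmul, hz, TensorProduct.tmul_zero])
  obtain ⟨y, rfl⟩ : ∃ y, (1 : B ⧸ m) ⊗ₜ y = w := by
    clear hw
    induction w using TensorProduct.induction_on with
    | zero => exact ⟨0, TensorProduct.tmul_zero _ _⟩
    | tmul c x =>
      obtain ⟨b, rfl⟩ := Ideal.Quotient.mk_surjective c
      refine ⟨b • x, ?_⟩
      rw [← TensorProduct.smul_tmul, Algebra.smul_def, mul_one]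
      rfl
    | add a b ha hb =>
      obtain ⟨⟨x, rfl⟩, ⟨x', rfl⟩⟩ := And.intro ha hb
      exact ⟨x + x', TensorProduct.tmul_add _ _ _⟩
  rw [LinearMap.baseChange_tmul] at hw
  let z' : LinearMap.ker (dd P i (i + 1)) := ⟨z.1 - dd P (i - 1) i y, by
    rw [LinearMap.mem_ker, map_sub, hz, dd_dd_apply, sub_zero]⟩
  have h0 : (1 : B ⧸ m) ⊗ₜ[B] z' = 0 := (good_of_flat_coker' P hfl i h (B ⧸ m)).1 (Subtype.ext (by
    rw [theta_coe, LinearMap.baseChange_tmul, map_zero]
    exact (TensorProduct.tmul_sub _ _ _).trans (sub_eq_zero.2 hw.symm)))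
  rw [← (TensorProduct.quotTensorEquivQuotSMul _ m).map_eq_zero_iff] at h0
  have h1 : z' ∈ m • (⊤ : Submodule B (LinearMap.ker (dd P i (i + 1)))) := by
    rw [← Submodule.Quotient.mk_eq_zero, ← h0]
    exact ((congrArg Submodule.Quotient.mk (one_smul B z').symm).trans
      (TensorProduct.quotTensorEquivQuotSMul_mk_tmul m 1 z').symm)
  let ι : LinearMap.ker (dd P i (i + 1)) →ₗ[B] Cyc' P i :=
    (LinearMap.ker (dd P i (i + 1))).subtype.codRestrict _ fun x => by
      rw [LinearMap.mem_ker, CochainComplex.next]; exact x.2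
  have h2 : cls' P i (ι z') ∈ m • (⊤ : Submodule B (P.homology i : Type u)) := by
    have := Submodule.mem_map_of_mem (f := cls' P i ∘ₗ ι) h1
    rw [Submodule.map_smul''] at this
    exact Submodule.smul_mono le_rfl le_top this
  have h3 : cls' P i z - cls' P i (ι z') = 0 := by
    rw [← map_sub, cls'_eq_zero_iff P (i := i - 1) (CochainComplex.prev _ _)]
    exact ⟨y, (sub_sub_cancel _ _).symm⟩
  rwa [sub_eq_zero.1 h3]

end Groth.L17.Strat
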